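import Cfsg.Agent.Lib.CT.FongPS2

/-!
# Group theory for heights in `p`-solvable groups

* `isPSolvable_subgroup`: subgroups of `p`-solvable groups are `p`-solvable.
* `zCore p G`: the preimage in `G` of `Z(O_p(G / O_{p'}(G)))`; it is normal, contains `O_{p'}(G)`
  with abelian quotient of `p`-power order, and (for `p`-solvable `G`) contains the centre of
  every Sylow `p`-subgroup.
* `index_factorization_le`: `ν_p |G : zCore| ≤ ν_p |P : Z(P)|` for a Sylow `p`-subgroup `P`.
* `center_index_eq`: the index of the centre is an isomorphism invariant.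
-/

set_option autoImplicit false
open Cfsg

namespace Cfsg.Agent.Lib.CT.HtPS1

universe u
variable {G : Type u} [Group G]

theorem isPSolvable_subgroup (p : ℕ) [hp : Fact p.Prime] (T : Subgroup G)
    (h : IsPSolvable p G) : IsPSolvable p ↥T := by
  obtain ⟨n, H, h0, hlast, hmono, hnormal, hstep⟩ := h
  refine ⟨n, fun i => (H i).subgroupOf T, ?_, ?_, ?_, ?_, ?_⟩
  · simp [h0]
  · simp [hlast]
  · intro i j hij x hx
    exact hmono hij hx
  · intro i
    have := hnormal i
    exact Subgroup.normal_subgroupOf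
  · intro i
    have hAB : H i.castSucc ≤ H i.succ := hmono (Fin.castSucc_le_succ i)
    have hnA : (H i.castSucc).Normal := hnormal _
    have hdvd : ((H i.castSucc).subgroupOf T).relIndex ((H i.succ).subgroupOf T) ∣
        (H i.castSucc).relIndex (H i.succ) := by
      rw [← Subgroup.inf_subgroupOf_right (H i.castSucc) T,
        ← Subgroup.inf_subgroupOf_right (H i.succ) T, Subgroup.relIndex_subgroupOf inf_le_right]
      have e1 : H i.castSucc ⊓ T = H i.castSucc ⊓ (H i.succ ⊓ T) := by
        rw [← inf_assoc, inf_of_le_left hAB]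
      rw [e1, Subgroup.inf_relIndex_right,
        ← Subgroup.relIndex_sup_right (H i.succ ⊓ T) (H i.castSucc)]
      have h1 := Subgroup.relIndex_mul_relIndex (H := H i.castSucc)
        (K := (H i.succ ⊓ T) ⊔ H i.castSucc) (L := H i.succ) le_sup_right
        (sup_le inf_le_left hAB)
      exact Dvd.intro _ h1
    rcases hstep i with ⟨m, hm⟩ | hc
    · left
      rw [hm] at hdvd
      obtain ⟨j, -, hj⟩ := (Nat.dvd_prime_pow hp.out).mp hdvd
      exact ⟨j, hj⟩
    · right
      exact Nat.Coprime.coprime_dvd_left hdvd hc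

/-- The preimage in `G` of the centre of `O_p(G / O_{p'}(G))`. -/
def zCore (p : ℕ) (G : Type u) [Group G] : Subgroup G :=
  (pCore p (G ⧸ pPrimeCore p G) ⊓
    Subgroup.centralizer (pCore p (G ⧸ pPrimeCore p G) : Set (G ⧸ pPrimeCore p G))).comap
      (QuotientGroup.mk' (pPrimeCore p G))

theorem mem_zCore_iff (p : ℕ) (x : G) :
    x ∈ zCore p G ↔ QuotientGroup.mk' (pPrimeCore p G) x ∈ pCore p (G ⧸ pPrimeCore p G) ∧
      QuotientGroup.mk' (pPrimeCore p G) x ∈
        Subgroup.centralizer (pCore p (G ⧸ pPrimeCore p G) : Set (G ⧸ pPrimeCore p G)) :=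
  Iff.rfl

instance zCore_normal (p : ℕ) (G : Type u) [Group G] : (zCore p G).Normal := by
  unfold zCore
  have h1 : (Subgroup.centralizer
      (pCore p (G ⧸ pPrimeCore p G) : Set (G ⧸ pPrimeCore p G))).Normal :=
    Subgroup.normal_centralizer
  infer_instance

theorem pPrimeCore_le_zCore (p : ℕ) : pPrimeCore p G ≤ zCore p G := by
  intro x hx
  rw [mem_zCore_iff]
  have h1 : QuotientGroup.mk' (pPrimeCore p G) x = 1 := (QuotientGroup.eq_one_iff x).mpr hx
  rw [h1]
  exact ⟨Subgroup.one_mem _, Subgroup.one_mem _⟩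

theorem comm_mem (p : ℕ) {a b : G} (ha : a ∈ zCore p G) (hb : b ∈ zCore p G) :
    a * b * a⁻¹ * b⁻¹ ∈ pPrimeCore p G := by
  rw [mem_zCore_iff] at ha hb
  have hc : QuotientGroup.mk' (pPrimeCore p G) b * QuotientGroup.mk' (pPrimeCore p G) a
      = QuotientGroup.mk' (pPrimeCore p G) a * QuotientGroup.mk' (pPrimeCore p G) b :=
    Subgroup.mem_centralizer_iff.mp ha.2 _ hb.1
  rw [← QuotientGroup.eq_one_iff]
  show QuotientGroup.mk' (pPrimeCore p G) (a * b * a⁻¹ * b⁻¹) = 1
  rw [map_mul, map_mul, map_mul, map_inv, map_inv, ← hc]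
  group

theorem relIndex_zCore [Finite G] (p : ℕ) [Fact p.Prime] :
    ∃ m : ℕ, (pPrimeCore p G).relIndex (zCore p G) = p ^ m := by
  have hcard : Nat.card (zCore p G)
      = Nat.card (pPrimeCore p G) * Nat.card ((pCore p (G ⧸ pPrimeCore p G) ⊓
        Subgroup.centralizer (pCore p (G ⧸ pPrimeCore p G) : Set (G ⧸ pPrimeCore p G)) :
          Subgroup (G ⧸ pPrimeCore p G))) :=
    QuotientGroup.card_preimage_mk (pPrimeCore p G)
      ((pCore p (G ⧸ pPrimeCore p G) ⊓
        Subgroup.centralizer (pCore p (G ⧸ pPrimeCore p G) : Set (G ⧸ pPrimeCore p G)) :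
          Subgroup (G ⧸ pPrimeCore p G)) : Set (G ⧸ pPrimeCore p G))
  have h2 := Cfsg.Agent.Lib.Helper76.PSolv.card_eq_card_mul_relIndex
    (pPrimeCore_le_zCore (G := G) p)
  have hpg : IsPGroup p ((pCore p (G ⧸ pPrimeCore p G) ⊓
        Subgroup.centralizer (pCore p (G ⧸ pPrimeCore p G) : Set (G ⧸ pPrimeCore p G)) :
          Subgroup (G ⧸ pPrimeCore p G))) :=
    (Cfsg.Agent.Lib.Helper76.PSolv.pCore_isPGroup (G := G ⧸ pPrimeCore p G) p).to_le inf_le_left
  obtain ⟨k, hk⟩ := IsPGroup.iff_card.mp hpg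
  refine ⟨k, ?_⟩
  have hpos : 0 < Nat.card (pPrimeCore p G) := Nat.card_pos
  rw [hcard] at h2
  rw [← hk]
  exact (Nat.eq_of_mul_eq_mul_left hpos h2).symm

/-- In a `p`-solvable group the centre of a Sylow `p`-subgroup lies in `zCore`. -/
theorem center_le_zCore [Finite G] (p : ℕ) [Fact p.Prime] (hsolv : IsPSolvable p G)
    (P : Sylow p G) (z : G) (_hz : z ∈ (P : Subgroup G))
    (hzc : ∀ x ∈ (P : Subgroup G), x * z = z * x) : z ∈ zCore p G := by
  have hHH := Cfsg.Agent.Lib.Helper76.PSolv.centralizer_pCore_le p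
    (Cfsg.Agent.Lib.Helper76.PSolv.isPSolvable_quotient p (pPrimeCore p G) hsolv)
    (Cfsg.Agent.Lib.Helper76.PSolv.pPrimeCore_quotient p)
  have hcent : QuotientGroup.mk' (pPrimeCore p G) z ∈
      Subgroup.centralizer (pCore p (G ⧸ pPrimeCore p G) : Set (G ⧸ pPrimeCore p G)) := by
    rw [Subgroup.mem_centralizer_iff]
    intro u hu
    have hU : pCore p (G ⧸ pPrimeCore p G) ≤
        ((P.mapSurjective (QuotientGroup.mk'_surjective (pPrimeCore p G)) :
          Sylow p (G ⧸ pPrimeCore p G)) : Subgroup (G ⧸ pPrimeCore p G)) :=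
      Cfsg.Agent.Lib.Helper76.PSolv.pCore_le_sylow _
    have hu' := hU hu
    rw [Sylow.coe_mapSurjective] at hu'
    obtain ⟨x, hx, rfl⟩ := hu'
    rw [← map_mul, ← map_mul, hzc x hx]
  rw [mem_zCore_iff]
  exact ⟨hHH hcent, hcent⟩

/-- `ν_p |G : zCore| ≤ ν_p |P : Z(P)|` for a Sylow `p`-subgroup `P` of a `p`-solvable group. -/
theorem index_factorization_le [Finite G] (p : ℕ) [Fact p.Prime] (hsolv : IsPSolvable p G)
    (P : Sylow p G) :
    (zCore p G).index.factorization p ≤
      ((Subgroup.center (P : Subgroup G)).index).factorization p := by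
  have hp := (Fact.out : p.Prime)
  obtain ⟨A, hAdef⟩ : ∃ A : Subgroup G, A = zCore p G := ⟨_, rfl⟩
  have hAn : A.Normal := by
    rw [hAdef]
    infer_instance
  rw [← hAdef]
  obtain ⟨Z, hZdef⟩ : ∃ Z : Subgroup G,
      Z = (Subgroup.center (P : Subgroup G)).map (P : Subgroup G).subtype := ⟨_, rfl⟩
  have hZP : Z ≤ (P : Subgroup G) := by
    rw [hZdef]
    exact Subgroup.map_subtype_le _
  have hZA : Z ≤ A := by
    intro z hz
    rw [hZdef] at hz
    obtain ⟨c, hc, rfl⟩ := hz
    rw [hAdef]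
    apply center_le_zCore p hsolv P _ c.2
    intro x hx
    have h1 := (Subgroup.mem_center_iff.mp hc) ⟨x, hx⟩
    have h2 := congrArg (Subtype.val) h1
    exact h2
  have h2 : (Subgroup.center (P : Subgroup G)).index = Z.relIndex (P : Subgroup G) := by
    rw [hZdef, Subgroup.relIndex, Subgroup.subgroupOf,
      Subgroup.comap_map_eq_self_of_injective (Subgroup.subtype_injective _)]
  have h3 : Z.relIndex ((P : Subgroup G) ⊓ A) * ((P : Subgroup G) ⊓ A).relIndex (P : Subgroup G)
      = Z.relIndex (P : Subgroup G) :=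
    Subgroup.relIndex_mul_relIndex Z ((P : Subgroup G) ⊓ A) (P : Subgroup G)
      (le_inf hZP hZA) inf_le_left
  have h4 : ((P : Subgroup G) ⊓ A).relIndex (P : Subgroup G) = A.relIndex (P : Subgroup G) :=
    Subgroup.inf_relIndex_left (P : Subgroup G) A
  have h5 : A.relIndex ((P : Subgroup G) ⊔ A) = A.relIndex (P : Subgroup G) :=
    Subgroup.relIndex_sup_right (P : Subgroup G) A
  have h6 : A.relIndex ((P : Subgroup G) ⊔ A) * ((P : Subgroup G) ⊔ A).index = A.index :=
    Subgroup.relIndex_mul_index le_sup_right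
  have h7 : ¬ p ∣ ((P : Subgroup G) ⊔ A).index := by
    intro hd
    exact P.not_dvd_index (dvd_trans hd (Subgroup.index_dvd_of_le le_sup_left))
  have hne1 : ((P : Subgroup G) ⊔ A).index ≠ 0 := Subgroup.index_ne_zero_of_finite
  have hne2 : A.relIndex (P : Subgroup G) ≠ 0 := by
    intro h0
    have := Subgroup.relIndex_dvd_card A (P : Subgroup G)
    rw [h0] at this
    exact (Nat.card_pos (α := (P : Subgroup G))).ne' (Nat.eq_zero_of_zero_dvd this)
  have hne3 : Z.relIndex (P : Subgroup G) ≠ 0 := by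
    intro h0
    have := Subgroup.relIndex_dvd_card Z (P : Subgroup G)
    rw [h0] at this
    exact (Nat.card_pos (α := (P : Subgroup G))).ne' (Nat.eq_zero_of_zero_dvd this)
  rw [h2, ← h6, h5, Nat.factorization_mul hne2 hne1, Finsupp.add_apply,
    Nat.factorization_eq_zero_of_not_dvd h7, add_zero]
  have hdvd : A.relIndex (P : Subgroup G) ∣ Z.relIndex (P : Subgroup G) := by
    rw [← h3, h4]
    exact Dvd.intro_left _ rfl
  exact (Nat.factorization_le_iff_dvd hne2 hne3).mpr hdvd p

/-- The index of the centre is an isomorphism invariant. -/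
theorem center_index_eq {D P : Type u} [Group D] [Group P] [Finite D] [Finite P] (e : D ≃* P) :
    (Subgroup.center P).index = (Subgroup.center D).index := by
  have h1 := Subgroup.card_mul_index (Subgroup.center D)
  have h2 := Subgroup.card_mul_index (Subgroup.center P)
  have h3 : Nat.card (Subgroup.center D) = Nat.card (Subgroup.center P) :=
    Nat.card_congr (Subgroup.centerCongr e).toEquiv
  have h4 : Nat.card D = Nat.card P := Nat.card_congr e.toEquiv
  have hpos : 0 < Nat.card (Subgroup.center P) := Nat.card_pos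
  apply Nat.eq_of_mul_eq_mul_left hpos
  rw [h2, ← h4, ← h1, h3]

end Cfsg.Agent.Lib.CT.HtPS1
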