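import Cfsg.Agent.S0925
import Cfsg.Agent.S0947
import Cfsg.Agent.Lib.Helper77.BPTransport
import Cfsg.Agent.Lib.CT.ThirdMain

/-!
# Column identities for the principal block

Block orthogonality for `p`-elements, the norm of a column of the principal block at a
`p`-element, and orbit counting for a subgroup acting by conjugation.
-/

set_option autoImplicit false
open Cfsg
open scoped ComplexConjugate

namespace Cfsg.Agent.Lib.CT.ColumnId

open Cfsg.Agent.Lib.CT.Wedderburn Cfsg.Agent.Lib.Helper77.BPTransport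

universe u
variable {G : Type u} [Group G]

theorem finsum_mem_eq_sum {α : Type*} [Fintype α] (s : Set α) [DecidablePred (· ∈ s)]
    {A : Type*} [AddCommMonoid A] (f : α → A) :
    ∑ᶠ a ∈ s, f a = ∑ a, if a ∈ s then f a else 0 := by
  rw [finsum_mem_def, finsum_eq_sum_of_fintype]
  refine Finset.sum_congr rfl fun a _ => ?_
  by_cases h : a ∈ s <;> simp [h]

theorem isPPart_self (p : ℕ) (hp : p.Prime) (g : G) (hg : ∃ k : ℕ, orderOf g = p ^ k) :
    IsPPart p g g :=
  ⟨1, mul_one g, Commute.one_right g, hg, by rw [orderOf_one]; exact hp.not_dvd_one⟩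

/-- Block orthogonality for two non-conjugate `p`-elements. -/
theorem block_orth [Finite G] (p : ℕ) [Fact p.Prime] (M : Ideal AlgInt) (hM : IsPModular p M)
    (B : Set (IrrCharacter G)) (hB : IsPBlock M B) (g h : G)
    (hg : ∃ k : ℕ, orderOf g = p ^ k) (hh : ∃ k : ℕ, orderOf h = p ^ k) (hne : ¬ IsConj g h) :
    ∑ᶠ χ ∈ B, (χ : G → ℂ) g * (χ : G → ℂ) h⁻¹ = 0 :=
  (Cfsg.Agent.S0925.result p M hM).2 g h g h (isPPart_self p Fact.out g hg)
    (isPPart_self p Fact.out h hh) hne B hB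

theorem isPBlock_principal (M : Ideal AlgInt) : IsPBlock M (principalBlock M G) :=
  ⟨Cfsg.Agent.Lib.CT.ThirdMain.triv G, rfl⟩

theorem pull_mem_principal {H K : Type u} [Group H] [Group K] (M : Ideal AlgInt) (φ : H ≃* K)
    (χ : IrrCharacter K) : pull φ χ ∈ principalBlock M H ↔ χ ∈ principalBlock M K :=
  sameBlock_pull_iff φ (fun _ => (1 : ℂ)) (χ : K → ℂ)

theorem charDegree_pull' {H K : Type u} [Group H] [Group K] (φ : H ≃* K) (χ : IrrCharacter K) :
    charDegree (pull φ χ : H → ℂ) = charDegree (χ : K → ℂ) := by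
  unfold charDegree
  rw [pull_apply, map_one]

/-- The sum of squared degrees over the principal block is invariant under isomorphism. -/
theorem principal_degree_sum_congr {H K : Type u} [Group H] [Group K] (M : Ideal AlgInt)
    (φ : H ≃* K) :
    ∑ᶠ ψ ∈ principalBlock M H, ((charDegree (ψ : H → ℂ) : ℕ) : ℂ) ^ 2 =
      ∑ᶠ χ ∈ principalBlock M K, ((charDegree (χ : K → ℂ) : ℕ) : ℂ) ^ 2 := by
  symm
  refine finsum_mem_eq_of_bijOn (pull φ) ⟨?_, ?_, ?_⟩ ?_
  · intro χ hχ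
    exact (pull_mem_principal M φ χ).mpr hχ
  · intro a _ b _ hab
    exact pull_injective φ hab
  · intro ψ hψ
    refine ⟨pull φ.symm ψ, ?_, pull_pull_symm φ ψ⟩
    have : pull φ (pull φ.symm ψ) ∈ principalBlock M H := by rwa [pull_pull_symm]
    exact (pull_mem_principal M φ _).mp this
  · intro χ _
    rw [charDegree_pull']

/-- The norm of the column of the principal block at a `p`-element `u` is the sum of the
squared degrees over the principal block of the centralizer of `u`. -/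
theorem principal_col [Finite G] (p : ℕ) [Fact p.Prime] (M : Ideal AlgInt) (hM : IsPModular p M)
    (u : G) (hu : ∃ k : ℕ, orderOf u = p ^ k) :
    ∑ᶠ χ ∈ principalBlock M G, (χ : G → ℂ) u * (χ : G → ℂ) u⁻¹ =
      ∑ᶠ ψ ∈ principalBlock M ↥(Subgroup.centralizer ({u} : Set G)),
        ((charDegree (ψ : ↥(Subgroup.centralizer ({u} : Set G)) → ℂ) : ℕ) : ℂ) ^ 2 := by
  classical
  have hp : p.Prime := Fact.out
  have := finite_irrCharacter G
  have := finite_irrCharacter ↥(Subgroup.centralizer ({u} : Set G))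
  by_cases hu1 : u = 1
  · subst hu1
    have htop : Subgroup.centralizer ({1} : Set G) = ⊤ := by
      rw [Subgroup.centralizer_eq_top_iff_subset]
      intro x hx
      rw [Set.mem_singleton_iff.mp hx]
      exact Subgroup.one_mem _
    rw [principal_degree_sum_congr M ((MulEquiv.subgroupCongr htop).trans Subgroup.topEquiv)]
    refine finsum_mem_congr rfl fun χ _ => ?_
    rw [inv_one, ← char_natCast_charDegree (isCharacter_of_irr χ.2), sq]
  · have h := (Cfsg.Agent.S0947.result p M hM u hu hu1 1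
      (by rw [orderOf_one]; exact hp.not_dvd_one)).1
    have e1 := AddMonoidHom.map_finsum_mem
      (fun ζ : IrrCharacter G =>
        ‖(ζ : G → ℂ) (u * ((1 : ↥(Subgroup.centralizer ({u} : Set G))) : G))‖ ^ 2)
      Complex.ofRealHom.toAddMonoidHom (Set.toFinite (principalBlock M G))
    have e2 := AddMonoidHom.map_finsum_mem
      (fun χ : IrrCharacter ↥(Subgroup.centralizer ({u} : Set G)) =>
        ‖(χ : ↥(Subgroup.centralizer ({u} : Set G)) → ℂ) 1‖ ^ 2)
      Complex.ofRealHom.toAddMonoidHom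
      (Set.toFinite (principalBlock M ↥(Subgroup.centralizer ({u} : Set G))))
    calc ∑ᶠ χ ∈ principalBlock M G, (χ : G → ℂ) u * (χ : G → ℂ) u⁻¹
        = ∑ᶠ ζ ∈ principalBlock M G, Complex.ofRealHom.toAddMonoidHom
            (‖(ζ : G → ℂ) (u * ((1 : ↥(Subgroup.centralizer ({u} : Set G))) : G))‖ ^ 2) := by
          refine finsum_mem_congr rfl fun ζ _ => ?_
          rw [char_apply_inv (isCharacter_of_irr ζ.2), Complex.mul_conj,
            Complex.normSq_eq_norm_sq, OneMemClass.coe_one, mul_one]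
          rfl
      _ = Complex.ofRealHom.toAddMonoidHom (∑ᶠ ζ ∈ principalBlock M G,
            ‖(ζ : G → ℂ) (u * ((1 : ↥(Subgroup.centralizer ({u} : Set G))) : G))‖ ^ 2) := e1.symm
      _ = Complex.ofRealHom.toAddMonoidHom
            (∑ᶠ χ ∈ principalBlock M ↥(Subgroup.centralizer ({u} : Set G)),
              ‖(χ : ↥(Subgroup.centralizer ({u} : Set G)) → ℂ) 1‖ ^ 2) := by rw [h]
      _ = ∑ᶠ χ ∈ principalBlock M ↥(Subgroup.centralizer ({u} : Set G)),
            Complex.ofRealHom.toAddMonoidHom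
              (‖(χ : ↥(Subgroup.centralizer ({u} : Set G)) → ℂ) 1‖ ^ 2) := e2
      _ = _ := by
          refine finsum_mem_congr rfl fun χ _ => ?_
          rw [← char_natCast_charDegree (isCharacter_of_irr χ.2), Complex.norm_natCast]
          show ((((charDegree (χ : ↥(Subgroup.centralizer ({u} : Set G)) → ℂ) : ℕ) : ℝ) ^ 2 : ℝ) : ℂ) = _
          push_cast
          rfl

theorem orderOf_coe_of_isPGroup {p : ℕ} [Fact p.Prime] {P : Subgroup G} (hP : IsPGroup p ↥P)
    (y : ↥P) : ∃ k : ℕ, orderOf (y : G) = p ^ k := by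
  obtain ⟨k, hk⟩ := IsPGroup.iff_orderOf.mp hP y
  exact ⟨k, by rw [Subgroup.orderOf_coe]; exact hk⟩

/-- The solutions `x ∈ N` of `x y x⁻¹ = y'` form a coset of `C_N(y)`. -/
theorem card_fiber (N : Subgroup G) (y y' : G) (n₀ : G) (hn₀ : n₀ ∈ N)
    (h : n₀ * y * n₀⁻¹ = y') :
    Nat.card {x : ↥N // (x : G) * y * (x : G)⁻¹ = y'} =
      Nat.card ↥(N ⊓ Subgroup.centralizer ({y} : Set G)) := by
  refine Nat.card_congr ⟨fun x => ⟨n₀⁻¹ * (x.1 : G), ?_⟩,
    fun c => ⟨⟨n₀ * (c : G), N.mul_mem hn₀ c.2.1⟩, ?_⟩, ?_, ?_⟩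
  · refine ⟨N.mul_mem (N.inv_mem hn₀) x.1.2, ?_⟩
    show n₀⁻¹ * (x.1 : G) ∈ Subgroup.centralizer ({y} : Set G)
    rw [Subgroup.mem_centralizer_iff]
    intro z hz
    rw [Set.mem_singleton_iff.mp hz]
    have hx : (x.1 : G) * y * (x.1 : G)⁻¹ = n₀ * y * n₀⁻¹ := x.2.trans h.symm
    have h2 : (x.1 : G) * y = n₀ * y * n₀⁻¹ * (x.1 : G) := by
      rw [← hx]; group
    calc y * (n₀⁻¹ * (x.1 : G)) = n₀⁻¹ * (n₀ * y * n₀⁻¹ * (x.1 : G)) := by group
      _ = n₀⁻¹ * ((x.1 : G) * y) := by rw [h2]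
      _ = n₀⁻¹ * (x.1 : G) * y := by group
  · have hc : (c : G) ∈ Subgroup.centralizer ({y} : Set G) := c.2.2
    rw [Subgroup.mem_centralizer_iff] at hc
    have hc' := hc y (Set.mem_singleton y)
    show n₀ * (c : G) * y * (n₀ * (c : G))⁻¹ = y'
    rw [← h]
    calc n₀ * (c : G) * y * (n₀ * (c : G))⁻¹ = n₀ * ((c : G) * y) * (c : G)⁻¹ * n₀⁻¹ := by group
      _ = n₀ * (y * (c : G)) * (c : G)⁻¹ * n₀⁻¹ := by rw [hc']
      _ = n₀ * y * n₀⁻¹ := by group
  · intro x
    apply Subtype.ext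
    apply Subtype.ext
    show n₀ * (n₀⁻¹ * (x.1 : G)) = (x.1 : G)
    group
  · intro c
    apply Subtype.ext
    show n₀⁻¹ * (n₀ * (c : G)) = (c : G)
    group

/-- Orbit counting for `N` acting by conjugation on a subgroup `P` that it normalizes. -/
theorem sum_conj_fiber (P N : Subgroup G) (hNN : N ≤ Subgroup.normalizer (P : Set G))
    [Fintype ↥P] [Fintype ↥N] [∀ a b : G, Decidable (IsConj a b)] (η : ↥P → ℂ) (y : ↥P)
    (hfus : ∀ g : G, g * (y : G) * g⁻¹ ∈ (P : Set G) →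
      ∃ n ∈ N, n * (y : G) * n⁻¹ = g * (y : G) * g⁻¹) :
    ∑ x : ↥N, extendByZero P η ((x : G) * (y : G) * (x : G)⁻¹) =
      (Nat.card ↥(N ⊓ Subgroup.centralizer ({(y : G)} : Set G)) : ℂ) *
        ∑ y' : ↥P, if IsConj (y' : G) (y : G) then η y' else 0 := by
  classical
  have hmem : ∀ x : ↥N, (x : G) * (y : G) * (x : G)⁻¹ ∈ P := fun x =>
    (Subgroup.mem_normalizer_iff.mp (hNN x.2) _).mp y.2
  have h1 : ∀ x : ↥N, extendByZero P η ((x : G) * (y : G) * (x : G)⁻¹) =
      ∑ y' : ↥P, if (y' : G) = (x : G) * (y : G) * (x : G)⁻¹ then η y' else 0 := by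
    intro x
    have h2 : extendByZero P η ((x : G) * (y : G) * (x : G)⁻¹) = η ⟨_, hmem x⟩ :=
      Subtype.val_injective.extend_apply η 0 ⟨_, hmem x⟩
    rw [h2, Finset.sum_eq_single ⟨_, hmem x⟩]
    · simp
    · intro b _ hb
      rw [if_neg]
      intro h
      exact hb (Subtype.ext h)
    · intro h
      exact absurd (Finset.mem_univ _) h
  rw [Finset.sum_congr rfl (fun x _ => h1 x), Finset.sum_comm, Finset.mul_sum]
  refine Finset.sum_congr rfl fun y' _ => ?_
  rw [← Finset.sum_filter, Finset.sum_const, nsmul_eq_mul]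
  by_cases hc : IsConj (y' : G) (y : G)
  · rw [if_pos hc]
    congr 1
    obtain ⟨g, hg⟩ := isConj_iff.mp hc.symm
    obtain ⟨n₀, hn₀, hn₀'⟩ := hfus g (by rw [hg]; exact y'.2)
    rw [← card_fiber N (y : G) (y' : G) n₀ hn₀ (hn₀'.trans hg), Nat.card_eq_fintype_card,
      Fintype.card_subtype]
    congr 2
    ext x
    simp only [Finset.mem_filter, Finset.mem_univ, true_and]
    exact eq_comm
  · rw [if_neg hc, mul_zero]
    have : (Finset.univ.filter fun x : ↥N => (y' : G) = (x : G) * (y : G) * (x : G)⁻¹) = ∅ := by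
      rw [Finset.filter_eq_empty_iff]
      intro x _ hx
      exact hc (isConj_iff.mpr ⟨(x : G), hx.symm⟩).symm
    rw [this, Finset.card_empty, Nat.cast_zero, zero_mul]

/-- Expansion of the product of two pairings of an irreducible character with functions
on a subgroup. -/
theorem pairing_expand [Finite G] (P : Subgroup G) [Fintype ↥P] (c : ℂ) (hc : conj c = c)
    (θ η : ↥P → ℂ) (χ : IrrCharacter G) :
    (c * ∑ y : ↥P, (χ : G → ℂ) (y : G) * θ y⁻¹) *
        conj (c * ∑ y : ↥P, (χ : G → ℂ) (y : G) * η y⁻¹) =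
      c * c * ∑ y : ↥P, ∑ y' : ↥P,
        θ y * conj (η y') * ((χ : G → ℂ) (y' : G) * (χ : G → ℂ) (y : G)⁻¹) := by
  have hχ := isCharacter_of_irr χ.2
  have e1 : ∑ y : ↥P, (χ : G → ℂ) (y : G) * θ y⁻¹ =
      ∑ y : ↥P, (χ : G → ℂ) (y : G)⁻¹ * θ y := by
    rw [← Equiv.sum_comp (Equiv.inv ↥P) (fun y : ↥P => (χ : G → ℂ) (y : G) * θ y⁻¹)]
    refine Finset.sum_congr rfl fun y _ => ?_
    show (χ : G → ℂ) ((y⁻¹ : ↥P) : G) * θ (y⁻¹)⁻¹ = _
    rw [inv_inv, Subgroup.coe_inv]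
  have e2 : conj (∑ y : ↥P, (χ : G → ℂ) (y : G) * η y⁻¹) =
      ∑ y : ↥P, (χ : G → ℂ) (y : G) * conj (η y) := by
    rw [map_sum, ← Equiv.sum_comp (Equiv.inv ↥P)
      (fun y : ↥P => conj ((χ : G → ℂ) (y : G) * η y⁻¹))]
    refine Finset.sum_congr rfl fun y _ => ?_
    show conj ((χ : G → ℂ) ((y⁻¹ : ↥P) : G) * η (y⁻¹)⁻¹) = _
    rw [inv_inv, Subgroup.coe_inv, map_mul, char_apply_inv hχ, Complex.conj_conj]
  rw [map_mul, hc, e1, e2]
  have h3 : ∀ a b : ℂ, c * a * (c * b) = c * c * (a * b) := by intros; ring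
  rw [h3, Finset.sum_mul_sum]
  congr 1
  refine Finset.sum_congr rfl fun y _ => Finset.sum_congr rfl fun y' _ => ?_
  ring

/-- The principal-block column identity. -/
theorem column_identity [Finite G] (p : ℕ) [Fact p.Prime] (M : Ideal AlgInt)
    (hM : IsPModular p M) (P : Subgroup G) (hP : IsPGroup p ↥P) (N : Subgroup G)
    (hNN : N ≤ Subgroup.normalizer (P : Set G)) (U : Set G)
    (hfus : ∀ u ∈ U, ∀ g : G, g * u * g⁻¹ ∈ (P : Set G) → ∃ n ∈ N, n * u * n⁻¹ = g * u * g⁻¹)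
    (w : ℚ)
    (hw : ∀ y ∈ U, ((∑ᶠ ψ ∈ principalBlock M ↥(Subgroup.centralizer ({y} : Set G)),
      (charDegree (ψ : ↥(Subgroup.centralizer ({y} : Set G)) → ℂ) : ℚ) ^ 2) : ℚ) =
        w * Nat.card ↥(N ⊓ Subgroup.centralizer ({y} : Set G)))
    (θ η : ↥P → ℂ) (hθU : ∀ y : ↥P, (y : G) ∉ U → θ y = 0) :
    ∑ᶠ χ ∈ principalBlock M G, ((Nat.card ↥P : ℂ)⁻¹ * ∑ᶠ y : ↥P, (χ : G → ℂ) (y : G) * θ y⁻¹) *
        (starRingEnd ℂ) ((Nat.card ↥P : ℂ)⁻¹ * ∑ᶠ y : ↥P, (χ : G → ℂ) (y : G) * η y⁻¹) =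
      ((w : ℂ) / ((Nat.card ↥P : ℂ) ^ 2)) * ∑ᶠ y : ↥P, θ y *
        (starRingEnd ℂ) (∑ᶠ x : ↥N, extendByZero P η ((x : G) * (y : G) * (x : G)⁻¹)) := by
  classical
  have := finite_irrCharacter G
  let _ := Fintype.ofFinite (IrrCharacter G)
  let _ : Fintype ↥P := Fintype.ofFinite _
  let _ : Fintype ↥N := Fintype.ofFinite _
  have hT : ∀ y : ↥P, (y : G) ∈ U → ∀ y' : ↥P,
      ∑ᶠ χ ∈ principalBlock M G, (χ : G → ℂ) (y' : G) * (χ : G → ℂ) (y : G)⁻¹ =
        if IsConj (y' : G) (y : G) then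
          (w : ℂ) * (Nat.card ↥(N ⊓ Subgroup.centralizer ({(y : G)} : Set G)) : ℂ) else 0 := by
    intro y hyU y'
    by_cases hc : IsConj (y' : G) (y : G)
    · rw [if_pos hc]
      obtain ⟨g, hg⟩ := isConj_iff.mp hc
      have e : ∀ χ : IrrCharacter G, (χ : G → ℂ) (y' : G) = (χ : G → ℂ) (y : G) := by
        intro χ
        rw [← hg]
        exact (char_isClassFunction (isCharacter_of_irr χ.2) _ _).symm
      rw [finsum_mem_congr rfl (fun χ _ => by rw [e χ]),
        principal_col p M hM (y : G) (orderOf_coe_of_isPGroup hP y)]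
      have h2 := congrArg (fun q : ℚ => (q : ℂ)) (hw (y : G) hyU)
      beta_reduce at h2
      rw [Rat.cast_mul, Rat.cast_natCast] at h2
      rw [← h2]
      have := finite_irrCharacter ↥(Subgroup.centralizer ({(y : G)} : Set G))
      have e3 := AddMonoidHom.map_finsum_mem
        (fun ψ : IrrCharacter ↥(Subgroup.centralizer ({(y : G)} : Set G)) =>
          ((charDegree (ψ : ↥(Subgroup.centralizer ({(y : G)} : Set G)) → ℂ) : ℚ)) ^ 2)
        (Rat.castHom ℂ).toAddMonoidHom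
        (Set.toFinite (principalBlock M ↥(Subgroup.centralizer ({(y : G)} : Set G))))
      refine Eq.trans ?_ e3.symm
      refine finsum_mem_congr rfl fun ψ _ => ?_
      show _ = (((charDegree (ψ : ↥(Subgroup.centralizer ({(y : G)} : Set G)) → ℂ) : ℚ) ^ 2 : ℚ) : ℂ)
      push_cast
      rfl
    · rw [if_neg hc]
      exact block_orth p M hM _ (isPBlock_principal M) (y' : G) (y : G)
        (orderOf_coe_of_isPGroup hP y') (orderOf_coe_of_isPGroup hP y) hc
  have hc : conj ((Nat.card ↥P : ℂ)⁻¹) = (Nat.card ↥P : ℂ)⁻¹ := by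
    rw [map_inv₀, Complex.conj_natCast]
  rw [finsum_mem_eq_sum]
  simp only [finsum_eq_sum_of_fintype]
  have hexp : ∀ χ : IrrCharacter G,
      (if χ ∈ principalBlock M G then
        ((Nat.card ↥P : ℂ)⁻¹ * ∑ y : ↥P, (χ : G → ℂ) (y : G) * θ y⁻¹) *
          conj ((Nat.card ↥P : ℂ)⁻¹ * ∑ y : ↥P, (χ : G → ℂ) (y : G) * η y⁻¹) else 0) =
      (Nat.card ↥P : ℂ)⁻¹ * (Nat.card ↥P : ℂ)⁻¹ * ∑ y : ↥P, ∑ y' : ↥P,
        θ y * conj (η y') * (if χ ∈ principalBlock M G then
          (χ : G → ℂ) (y' : G) * (χ : G → ℂ) (y : G)⁻¹ else 0) := by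
    intro χ
    by_cases h : χ ∈ principalBlock M G
    · simp only [if_pos h]
      exact pairing_expand P _ hc θ η χ
    · simp only [if_neg h, mul_zero, Finset.sum_const_zero]
  rw [Finset.sum_congr rfl (fun χ _ => hexp χ), ← Finset.mul_sum, Finset.sum_comm]
  have hy : ∀ y : ↥P, ∑ χ : IrrCharacter G, ∑ y' : ↥P,
      θ y * conj (η y') * (if χ ∈ principalBlock M G then
          (χ : G → ℂ) (y' : G) * (χ : G → ℂ) (y : G)⁻¹ else 0) =
      (w : ℂ) * (θ y * conj (∑ x : ↥N, extendByZero P η ((x : G) * (y : G) * (x : G)⁻¹))) := by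
    intro y
    rw [Finset.sum_comm]
    by_cases hyU : (y : G) ∈ U
    · rw [sum_conj_fiber P N hNN η y (hfus (y : G) hyU), map_mul, Complex.conj_natCast, map_sum,
        Finset.mul_sum, Finset.mul_sum, Finset.mul_sum]
      refine Finset.sum_congr rfl fun y' _ => ?_
      rw [← Finset.mul_sum, ← finsum_mem_eq_sum, hT y hyU y']
      by_cases hcj : IsConj (y' : G) (y : G)
      · rw [if_pos hcj, if_pos hcj]; ring
      · rw [if_neg hcj, if_neg hcj, map_zero]; ring
    · rw [hθU y hyU]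
      simp
  rw [Finset.sum_congr rfl (fun y _ => hy y), ← Finset.mul_sum]
  have hP0 : (Nat.card ↥P : ℂ) ≠ 0 := Nat.cast_ne_zero.mpr Nat.card_pos.ne'
  field_simp

end Cfsg.Agent.Lib.CT.ColumnId
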