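import Cfsg.Agent.Lib.CT.KnConj
import Cfsg.Agent.Lib.Helper16.Cover2
import Cfsg.Agent.Lib.CT.PrincipalSection

/-!
# Regular blocks: blocks whose defect group has centralizer inside a normal subgroup

* `regular_of_centralizer`: if `B` has a defect group `P` with `C_G(P) ≤ N ⊴ G`, then the central
  characters of `B` vanish (mod `M`) outside `N`.
* `isInducedBlock_of_regular`: a regular block covering `b` is `b^G`.
* `induced_of_cover_of_centralizer`: if `b` is a block of `N ⊴ G` with defect group `Q` and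
  `C_G(Q) ≤ N`, then every block of `G` covering `b` is `b^G`.
-/

set_option autoImplicit false
open Cfsg

namespace Cfsg.Agent.Lib.CT.FongPS1

open Cfsg.Agent.Lib.Helper77.LocalRing Cfsg.Agent.Lib.CT.Wedderburn
  Cfsg.Agent.Lib.Helper16.ZR Cfsg.Agent.Lib.Helper16.Cover
open Cfsg.Agent.Lib.Helper33.Conj Cfsg.Agent.Lib.Helper16.MinMax

universe u
variable {G : Type u} [Group G] {M : Ideal AlgInt}

/-- If a block has a defect group whose centralizer lies in the normal subgroup `N`, its central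
characters lie in the local ideal outside `N`. -/
theorem regular_of_centralizer [Finite G] {p : ℕ} [Fact p.Prime] (hM : IsPModular p M)
    (N : Subgroup G) [hN : N.Normal] (B : Set (IrrCharacter G)) (hB : IsPBlock M B)
    (P : Subgroup G) (hP : IsDefectGroup p M B P)
    (hC : Subgroup.centralizer (P : Set G) ≤ N) (g : G) (hg : g ∉ N) (χ : IrrCharacter G)
    (hχ : χ ∈ B) : MemLocalIdeal M (centralChar (χ : G → ℂ) g) := by
  by_contra hcon
  apply hg
  rw [isDefectGroup_iff] at hP
  obtain ⟨g₀, hg₀, hsyl⟩ := hP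
  obtain ⟨x, Q', hQ', hle⟩ := minmax_b hM B hB g₀ hg₀ P hsyl g ⟨χ, hχ, hcon⟩
  -- `x⁻¹ g x` centralizes `P`
  have h1 : x⁻¹ * g * x ∈ Subgroup.centralizer (P : Set G) := by
    rw [Subgroup.mem_centralizer_iff]
    intro y hy
    have hy' : x * y * x⁻¹ ∈ Subgroup.centralizer ({g} : Set G) := by
      apply hQ'.1
      apply hle
      rw [mem_cj]
      have : x⁻¹ * (x * y * x⁻¹) * x = y := by group
      rw [this]
      exact hy
    rw [mem_centralizer_singleton] at hy'
    calc y * (x⁻¹ * g * x) = x⁻¹ * ((x * y * x⁻¹) * g) * x := by group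
      _ = x⁻¹ * (g * (x * y * x⁻¹)) * x := by rw [hy']
      _ = x⁻¹ * g * x * y := by group
  have h2 := hN.conj_mem _ (hC h1) x
  have h3 : x * (x⁻¹ * g * x) * x⁻¹ = g := by group
  rw [h3] at h2
  exact h2

/-- A regular block covering `b` is induced from `b`. -/
theorem isInducedBlock_of_regular [Fintype G] {p : ℕ} [Fact p.Prime] (hM : IsPModular p M)
    (H : Subgroup G) [hH : H.Normal]
    [Fintype H] (b : Set (IrrCharacter H))
    (hb : IsPBlock M b) (B : Set (IrrCharacter G)) (hB : IsPBlock M B)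
    (hreg : ∀ g : G, g ∉ H → ∀ χ ∈ B, MemLocalIdeal M (centralChar (χ : G → ℂ) g))
    (χ : IrrCharacter G)
    (hχ : χ ∈ B) (θ : IrrCharacter H) (hθ : θ ∈ b)
    (hcon : classInner (fun n : H => (χ : G → ℂ) n) (θ : H → ℂ) ≠ 0) :
    IsInducedBlock M H b B := by
  have hMp := isPrime_of_isPModular hM
  refine ⟨hb, hB, ?_⟩
  intro ξ hξ χ' hχ' g
  have t1 := Cfsg.Agent.Lib.Helper16.Induced.induced_sub_induced_mem hM.2.1 H (ξ : H → ℂ)
    (θ : H → ℂ) (fun x k => irr_conj_inv ξ k x) (fun x k => irr_conj_inv θ k x)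
    (sameBlock_of_mem hMp hb hξ hθ) g
  have t2 : MemLocalIdeal M (inducedCentralChar H (θ : H → ℂ) g - centralChar (χ : G → ℂ) g) := by
    by_cases hg : g ∈ H
    · have := centralChar_eq_induced_of_constituent H hH χ θ hcon ⟨g, hg⟩
      rw [← this, sub_self]
      exact memLocalIdeal_zero hMp
    · rw [Cfsg.Agent.Lib.Helper16.Cover2.inducedCentralChar_eq_zero_of_not_mem H _ g hg, zero_sub]
      exact memLocalIdeal_neg (hreg g hg χ hχ)
  have t3 : MemLocalIdeal M (centralChar (χ : G → ℂ) g - centralChar (χ' : G → ℂ) g) :=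
    sameBlock_of_mem hMp hB hχ hχ' g
  have := memLocalIdeal_add hMp (memLocalIdeal_add hMp t1 t2) t3
  convert this using 1
  ring

/-- If `b` is a block of `N ⊴ G` with a defect group `Q` such that `C_G(Q) ≤ N`, then every block
of `G` covering `b` is the induced block `b^G`. -/
theorem induced_of_cover_of_centralizer [Fintype G] (p : ℕ) [Fact p.Prime] (hM : IsPModular p M)
    (N : Subgroup G) [hN : N.Normal] [Fintype N] (b : Set (IrrCharacter N)) (hb : IsPBlock M b)
    (Q : Subgroup G) (hQN : Q ≤ N) (hQ : IsDefectGroup p M b (Q.subgroupOf N))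
    (hC : Subgroup.centralizer (Q : Set G) ≤ N)
    (B : Set (IrrCharacter G)) (hB : IsPBlock M B)
    (hcov : ∃ χ ∈ B, ∃ θ ∈ b, classInner (fun n : N => (χ : G → ℂ) n) (θ : N → ℂ) ≠ 0) :
    IsInducedBlock M N b B := by
  obtain ⟨P, hP, hPN⟩ := Cfsg.Agent.Lib.CT.KnConj.knorr p hM N b hb Q hQN hQ B hB hcov
  have hQP : Q ≤ P := by
    rw [← hPN]
    exact inf_le_left
  have hCP : Subgroup.centralizer (P : Set G) ≤ N :=
    le_trans (Subgroup.centralizer_le (by exact_mod_cast hQP)) hC
  obtain ⟨χ, hχ, θ, hθ, hcon⟩ := hcov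
  exact isInducedBlock_of_regular hM N b hb B hB
    (fun g hg χ' hχ' => regular_of_centralizer hM N B hB P hP hCP g hg χ' hχ') χ hχ θ hθ hcon

/-- Under the same hypotheses, the covering block is unique. -/
theorem cover_unique_of_centralizer [Fintype G] (p : ℕ) [Fact p.Prime] (hM : IsPModular p M)
    (N : Subgroup G) [hN : N.Normal] [Fintype N] (b : Set (IrrCharacter N)) (hb : IsPBlock M b)
    (Q : Subgroup G) (hQN : Q ≤ N) (hQ : IsDefectGroup p M b (Q.subgroupOf N))
    (hC : Subgroup.centralizer (Q : Set G) ≤ N)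
    (B B' : Set (IrrCharacter G)) (hB : IsPBlock M B) (hB' : IsPBlock M B')
    (hcov : ∃ χ ∈ B, ∃ θ ∈ b, classInner (fun n : N => (χ : G → ℂ) n) (θ : N → ℂ) ≠ 0)
    (hcov' : ∃ χ ∈ B', ∃ θ ∈ b, classInner (fun n : N => (χ : G → ℂ) n) (θ : N → ℂ) ≠ 0) :
    B = B' :=
  Cfsg.Agent.Lib.CT.PrincipalSection.isInducedBlock_unique (isPrime_of_isPModular hM) N b B B'
    (induced_of_cover_of_centralizer p hM N b hb Q hQN hQ hC B hB hcov)
    (induced_of_cover_of_centralizer p hM N b hb Q hQN hQ hC B' hB' hcov')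

end Cfsg.Agent.Lib.CT.FongPS1
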