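import Cfsg.Agent.Lib.CT.KnHK0

/-!
# The Harris–Knörr correspondence

Let `N ⊴ G`, `Q` a `p`-subgroup of `N`, `H = N_G(Q)`, `K = H ⊓ N = N_N(Q)`, `d` a block of `N`
with defect group `Q` and `e` its Brauer correspondent in `K`.  Block induction is a bijection
from the blocks of `H` covering `e` onto the blocks of `G` covering `d`.
-/

set_option autoImplicit false
open Cfsg

namespace Cfsg.Agent.Lib.CT.KnHK

open Cfsg.Agent.Lib.CT.Wedderburn Cfsg.Agent.Lib.CT.KnUtil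
open Cfsg.Agent.Lib.Helper77.BPTransport Cfsg.Agent.Lib.Helper16.Transfer
open Cfsg.Agent.Lib.Helper77.LocalRing Cfsg.Agent.Lib.Helper16.Normal
open Cfsg.Agent.Lib.Helper33.Conj Cfsg.Agent.Lib.Helper16.MinMax
open Cfsg.Agent.Lib.CT.KnMain Cfsg.Agent.Lib.CT.KnConj Cfsg.Agent.Lib.CT.KnRel
open Cfsg.Agent.Lib.CT.KnHK0 Cfsg.Agent.Lib.CT.KnInd Cfsg.Agent.Lib.Helper16.UniqueCover

universe u
variable {G : Type u} [Group G] {M : Ideal AlgInt}

/-- A block of `H = N_G(Q)` covering `e` has a defect group `P` with `P ⊓ N = Q`. -/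
theorem defect_of_cover [Fintype G] (p : ℕ) [Fact p.Prime] (hM : IsPModular p M)
    (N : Subgroup G) [hN : N.Normal] (Q : Subgroup G) (hQN : Q ≤ N)
    (H : Subgroup G) (hQH : Q ≤ H) (K : Subgroup G) [Fintype K] (hK : K = H ⊓ N) (hKH : K ≤ H)
    (e : Set (IrrCharacter K)) (he : IsPBlock M e)
    (heQ : IsDefectGroup p M e (Q.subgroupOf K))
    (c : Set (IrrCharacter H)) (hc : IsPBlock M c)
    (hcov : ∃ ψ ∈ c, ∃ ξ ∈ e,
      classInner (fun k : K => (ψ : H → ℂ) ⟨k, hKH k.2⟩) (ξ : K → ℂ) ≠ 0) :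
    ∃ P : Subgroup G, P ≤ H ∧ IsDefectGroup p M c (P.subgroupOf H) ∧ P ⊓ N = Q := by
  classical
  let _ : Fintype H := Fintype.ofFinite _
  have hKmem : ∀ x, x ∈ H → x ∈ N → x ∈ K := fun x h1 h2 => hK ▸ ⟨h1, h2⟩
  have hQK : Q ≤ K := hK ▸ le_inf hQH hQN
  have hK₁n : (K.subgroupOf H).Normal := by
    rw [hK, Subgroup.inf_subgroupOf_left]
    infer_instance
  let _ : Fintype (K.subgroupOf H) := Fintype.ofFinite _
  have he₁ : IsPBlock M (pull (sIso K H hKH) '' e) := isPBlock_pull _ he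
  have he₁D : IsDefectGroup p M (pull (sIso K H hKH) '' e)
      ((Q.subgroupOf H).subgroupOf (K.subgroupOf H)) :=
    (isDefectGroup_sIso_iff K H hKH Q e).mpr heQ
  have hcov₁ := (cover_pull_iff K H hKH e c).mpr hcov
  obtain ⟨P', hP', hP'K⟩ := knorr (G := H) p hM (K.subgroupOf H) _ he₁ (Q.subgroupOf H)
    (fun x hx => hQK hx) he₁D c hc hcov₁
  refine ⟨P'.map H.subtype, Subgroup.map_subtype_le P', ?_, ?_⟩
  · have e1 : (P'.map H.subtype).subgroupOf H = P' :=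
      Subgroup.comap_map_eq_self_of_injective H.subtype_injective P'
    rw [e1]
    exact hP'
  · ext x
    constructor
    · rintro ⟨⟨y, hy, rfl⟩, hxN⟩
      have h1 : y ∈ P' ⊓ K.subgroupOf H := ⟨hy, hKmem _ y.2 hxN⟩
      rw [hP'K] at h1
      exact h1
    · intro hx
      have h1 : (⟨x, hQH hx⟩ : H) ∈ Q.subgroupOf H := hx
      rw [← hP'K] at h1
      exact ⟨⟨_, h1.1, rfl⟩, hQN hx⟩

/-- Uniqueness of the block of `H` covering `e` and inducing `B`. -/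
theorem hk_unique [Fintype G] (p : ℕ) [Fact p.Prime] (hM : IsPModular p M)
    (N : Subgroup G) [hN : N.Normal] (Q : Subgroup G) (hQN : Q ≤ N)
    (H : Subgroup G) (hH : H = Subgroup.normalizer (Q : Set G))
    (K : Subgroup G) [Fintype K] (hK : K = H ⊓ N) (hKH : K ≤ H)
    (e : Set (IrrCharacter K)) (he : IsPBlock M e) (heQ : IsDefectGroup p M e (Q.subgroupOf K))
    (B : Set (IrrCharacter G)) (hB : IsPBlock M B) (c₁ c₂ : Set (IrrCharacter H))
    (hc₁ : IsPBlock M c₁) (hc₂ : IsPBlock M c₂)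
    (hcov₁ : ∃ ψ ∈ c₁, ∃ ξ ∈ e,
      classInner (fun k : K => (ψ : H → ℂ) ⟨k, hKH k.2⟩) (ξ : K → ℂ) ≠ 0)
    (hcov₂ : ∃ ψ ∈ c₂, ∃ ξ ∈ e,
      classInner (fun k : K => (ψ : H → ℂ) ⟨k, hKH k.2⟩) (ξ : K → ℂ) ≠ 0)
    (hi₁ : IsInducedBlock M H c₁ B) (hi₂ : IsInducedBlock M H c₂ B) : c₁ = c₂ := by
  classical
  have hQH : Q ≤ H := hH ▸ Subgroup.le_normalizer
  obtain ⟨P₁, hP₁H, hP₁D, hP₁N⟩ :=
    defect_of_cover p hM N Q hQN H hQH K hK hKH e he heQ c₁ hc₁ hcov₁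
  obtain ⟨P₂, hP₂H, hP₂D, hP₂N⟩ :=
    defect_of_cover p hM N Q hQN H hQH K hK hKH e he heQ c₂ hc₂ hcov₂
  have hNP : ∀ P : Subgroup G, P ⊓ N = Q → Subgroup.normalizer (P : Set G) ≤ H := by
    intro P hP
    rw [hH, ← hP]
    exact normalizer_le_normalizer_inf P N
  have hB₁ := isDefectGroup_of_induced p hM P₁ H (hNP P₁ hP₁N) c₁ hc₁ hP₁D B hi₁
  have hB₂ := isDefectGroup_of_induced p hM P₂ H (hNP P₂ hP₂N) c₂ hc₂ hP₂D B hi₂
  obtain ⟨g, hg⟩ := defectGroup_conj hM B hB hB₁ hB₂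
  have hgH : g ∈ H := by
    rw [hH, Subgroup.mem_normalizer_iff]
    intro x
    constructor
    · intro hx
      have hx' : x ∈ P₁ ⊓ N := by rw [hP₁N]; exact hx
      have h3 : g * x * g⁻¹ ∈ P₂ ⊓ N := by
        rw [hg]
        refine ⟨mem_cj.mpr ?_, hN.conj_mem x hx'.2 g⟩
        have e1 : g⁻¹ * (g * x * g⁻¹) * g = x := by group
        rw [e1]
        exact hx'.1
      rw [hP₂N] at h3
      exact h3
    · intro hx
      have hx' : g * x * g⁻¹ ∈ P₂ ⊓ N := by rw [hP₂N]; exact hx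
      rw [hg] at hx'
      have h1 := mem_cj.mp hx'.1
      have h2 := hN.conj_mem _ hx'.2 g⁻¹
      have e1 : g⁻¹ * (g * x * g⁻¹) * g = x := by group
      have e2 : g⁻¹ * (g * x * g⁻¹) * g⁻¹⁻¹ = x := by group
      rw [e1] at h1
      rw [e2] at h2
      have h3 : x ∈ P₁ ⊓ N := ⟨h1, h2⟩
      rw [hP₁N] at h3
      exact h3
  have hP₁D' : IsDefectGroup p M c₁ (P₂.subgroupOf H) := by
    have h1 := isDefectGroup_conj hP₁D (⟨g, hgH⟩ : H)
    have e1 : (P₁.subgroupOf H).map (MulAut.conj (⟨g, hgH⟩ : H)).toMonoidHom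
        = P₂.subgroupOf H := by
      ext y
      rw [mem_cj, Subgroup.mem_subgroupOf, Subgroup.mem_subgroupOf, hg, mem_cj]
      rfl
    rw [e1] at h1
    exact h1
  exact correspondent_unique p hM P₂ H (hNP P₂ hP₂N) c₁ c₂ hc₁ hc₂ hP₁D' hP₂D B hi₁ hi₂

/-- Existence of a block of `H` covering `e` and inducing `B`. -/
theorem hk_exists [Fintype G] (p : ℕ) [Fact p.Prime] (hM : IsPModular p M)
    (N : Subgroup G) [hN : N.Normal] [Fintype N] (Q : Subgroup G) (hQ : IsPGroup p Q)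
    (hQN : Q ≤ N) (H : Subgroup G) (hH : H = Subgroup.normalizer (Q : Set G))
    (K : Subgroup G) [Fintype K] (hK : K = H ⊓ N) (hKH : K ≤ H) (hKN : K ≤ N)
    (d : Set (IrrCharacter N)) (hd : IsPBlock M d)
    (hdQ : IsDefectGroup p M d (Q.subgroupOf N))
    (e : Set (IrrCharacter K)) (he : IsPBlock M e)
    (hed : IsInducedBlockIn M N K e d)
    (B : Set (IrrCharacter G)) (hB : IsPBlock M B)
    (hcov : ∃ χ ∈ B, ∃ θ ∈ d, classInner (fun n : N => (χ : G → ℂ) n) (θ : N → ℂ) ≠ 0) :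
    ∃ c : Set (IrrCharacter H), (IsPBlock M c ∧ ∃ ψ ∈ c, ∃ ξ ∈ e,
      classInner (fun k : K => (ψ : H → ℂ) ⟨k, hKH k.2⟩) (ξ : K → ℂ) ≠ 0) ∧
      IsInducedBlock M H c B := by
  classical
  have hMp := isPrime_of_isPModular hM
  let _ : Fintype H := Fintype.ofFinite _
  have hQH : Q ≤ H := hH ▸ Subgroup.le_normalizer
  have hKmem : ∀ x, x ∈ H → x ∈ N → x ∈ K := fun x h1 h2 => hK ▸ ⟨h1, h2⟩
  have hK' : K = Subgroup.normalizer (Q : Set G) ⊓ N := by rw [hK, hH]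
  obtain ⟨P, hP, hPN⟩ := knorr p hM N d hd Q hQN hdQ B hB hcov
  have hNPH : Subgroup.normalizer (P : Set G) ≤ H := by
    rw [hH, ← hPN]
    exact normalizer_le_normalizer_inf P N
  obtain ⟨c, hcD, hci⟩ := exists_correspondent p hM P H hNPH B hB hP
  have hc : IsPBlock M c := hci.1
  refine ⟨c, ⟨hc, ?_⟩, hci⟩
  -- `c` covers a block `e'` of `K` with defect group `Q`
  have hK₁n : (K.subgroupOf H).Normal := by
    rw [hK, Subgroup.inf_subgroupOf_left]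
    infer_instance
  let _ : Fintype (K.subgroupOf H) := Fintype.ofFinite _
  obtain ⟨c', hc', -, hcov', hc'D⟩ := knorr_stable (G := H) p hM (K.subgroupOf H) c hc
    (P.subgroupOf H) hcD
  have hPK : P.subgroupOf H ⊓ K.subgroupOf H = Q.subgroupOf H := by
    ext y
    constructor
    · rintro ⟨h1, h2⟩
      have h3 : (y : G) ∈ P ⊓ N := ⟨h1, hKN h2⟩
      rw [hPN] at h3
      exact h3
    · intro hy
      have h3 : (y : G) ∈ P ⊓ N := by
        rw [hPN]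
        exact hy
      exact ⟨h3.1, hKmem _ y.2 h3.2⟩
  rw [hPK] at hc'D
  obtain ⟨e', he'def⟩ : ∃ e' : Set (IrrCharacter K), e' = pull (sIso K H hKH).symm '' c' :=
    ⟨_, rfl⟩
  have he'' : pull (sIso K H hKH) '' e' = c' := by
    rw [he'def, pull_image_pull_symm_image]
  have he' : IsPBlock M e' := he'def ▸ isPBlock_pull _ hc'
  have he'D : IsDefectGroup p M e' (Q.subgroupOf K) := by
    rw [← isDefectGroup_sIso_iff K H hKH Q, he'']
    exact hc'D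
  have hcove' : ∃ ψ ∈ c, ∃ ξ ∈ e',
      classInner (fun k : K => (ψ : H → ℂ) ⟨k, hKH k.2⟩) (ξ : K → ℂ) ≠ 0 := by
    apply (cover_pull_iff K H hKH e' c).mp
    rw [he'']
    exact hcov'
  -- the induced block `d'` of `N`
  obtain ⟨d', hind', hd'D⟩ := rel_induced p hM Q N K hQN hK' hKN hQ e' he' he'D
  have hd' : IsPBlock M d' := hind'.2.1
  have hBd' := induced_covers hMp N H K hKH hKN hKmem c B hci e' d' hind' hcove'
  obtain ⟨g, hg⟩ := covered_conj hMp N B hB d' d hd' hd hBd' hcov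
  have h1 := isDefectGroup_conjNormal N d Q hdQ g
  rw [← hg] at h1
  obtain ⟨n, hn⟩ := defectGroup_conj hM d' hd' hd'D h1
  obtain ⟨h, hhdef⟩ : ∃ h : G, h = (n : G)⁻¹ * g := ⟨_, rfl⟩
  have hE : ∀ y : G, y ∈ N → (g⁻¹ * y * g ∈ Q ↔ (n : G)⁻¹ * y * n ∈ Q) := by
    intro y hy
    have h2 : (⟨y, hy⟩ : N) ∈ (Q.map (MulAut.conj g).toMonoidHom).subgroupOf N ↔
        (⟨y, hy⟩ : N) ∈ (Q.subgroupOf N).map (MulAut.conj n).toMonoidHom := by rw [hn]
    rw [Subgroup.mem_subgroupOf, mem_cj, mem_cj, Subgroup.mem_subgroupOf] at h2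
    exact h2
  have hhH : h ∈ H := by
    rw [hH, Subgroup.mem_normalizer_iff]
    intro x
    have e1 : h * x * h⁻¹ = (n : G)⁻¹ * (g * x * g⁻¹) * n := by
      rw [hhdef]
      group
    have e2 : g⁻¹ * (g * x * g⁻¹) * g = x := by group
    rw [e1]
    constructor
    · intro hx
      have h3 := (hE (g * x * g⁻¹) (hN.conj_mem x (hQN hx) g)).mp (by rw [e2]; exact hx)
      exact h3
    · intro hx
      have hxN : g * x * g⁻¹ ∈ N := by
        have h4 := hN.conj_mem _ (hQN hx) n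
        have e3 : (n : G) * ((n : G)⁻¹ * (g * x * g⁻¹) * n) * (n : G)⁻¹ = g * x * g⁻¹ := by
          group
        rw [e3] at h4
        exact h4
      have h3 := (hE (g * x * g⁻¹) hxN).mpr hx
      rw [e2] at h3
      exact h3
  have hd'h : d' = pull (MulAut.conjNormal h⁻¹ : N ≃* N) '' d := by
    rw [hg]
    apply Set.image_congr
    intro θ _
    apply Subtype.ext
    funext x
    have h5 := Cfsg.Agent.Lib.Helper16.ZR.irr_conj_inv
      (pull (MulAut.conjNormal h⁻¹ : N ≃* N) θ) n⁻¹ x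
    rw [pull_apply] at h5 ⊢
    rw [← h5]
    refine congrArg _ (Subtype.ext ?_)
    rw [MulAut.conjNormal_apply, MulAut.conjNormal_apply, hhdef]
    push_cast
    group
  have hhK : h⁻¹ ∈ Subgroup.normalizer (K : Set G) :=
    inv_mem ((Subgroup.normal_subgroupOf_iff_le_normalizer hKH).mp hK₁n hhH)
  have hconj := isInducedBlockIn_conj N K h⁻¹ (conjK K h⁻¹ hhK)
    (fun k => coe_conjK K h⁻¹ hhK k) e d hed
  rw [← hd'h] at hconj
  have hconj' := (isInducedBlock_sIso_iff K N hKN (isPBlock_pull _ he) d').mpr hconj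
  have heq : e' = pull (conjK K h⁻¹ hhK) '' e :=
    rel_unique p hM Q N K hQN hK' hKN d' e' _ he'D hind' hconj'
  obtain ⟨ψ, hψ, ξ', hξ', hne⟩ := hcove'
  rw [heq] at hξ'
  obtain ⟨ξ, hξ, rfl⟩ := hξ'
  rw [classInner_conjK K H hKH h⁻¹ (H.inv_mem hhH) hhK ψ ξ] at hne
  exact ⟨ψ, hψ, ξ, hξ, hne⟩

/-- **The Harris–Knörr correspondence.** -/
theorem harris_knorr [Fintype G] (p : ℕ) [Fact p.Prime] (hM : IsPModular p M)
    (N : Subgroup G) [hN : N.Normal] [Fintype N] (Q : Subgroup G) (hQ : IsPGroup p Q)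
    (hQN : Q ≤ N) (H : Subgroup G) (hH : H = Subgroup.normalizer (Q : Set G))
    (K : Subgroup G) [Fintype K] (hK : K = H ⊓ N) (hKH : K ≤ H) (hKN : K ≤ N)
    (d : Set (IrrCharacter N)) (hd : IsPBlock M d)
    (hdQ : IsDefectGroup p M d (Q.subgroupOf N))
    (e : Set (IrrCharacter K)) (he : IsPBlock M e) (heQ : IsDefectGroup p M e (Q.subgroupOf K))
    (hed : IsInducedBlockIn M N K e d) :
    (∀ c : Set (IrrCharacter H), IsPBlock M c →
      (∃ ψ ∈ c, ∃ ξ ∈ e,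
        classInner (fun k : K => (ψ : H → ℂ) ⟨k, hKH k.2⟩) (ξ : K → ℂ) ≠ 0) →
      ∃! B : Set (IrrCharacter G), IsInducedBlock M H c B ∧
        ∃ χ ∈ B, ∃ θ ∈ d, classInner (fun n : N => (χ : G → ℂ) n) (θ : N → ℂ) ≠ 0) ∧
    (∀ B : Set (IrrCharacter G), IsPBlock M B →
      (∃ χ ∈ B, ∃ θ ∈ d, classInner (fun n : N => (χ : G → ℂ) n) (θ : N → ℂ) ≠ 0) →
      ∃! c : Set (IrrCharacter H), (IsPBlock M c ∧ ∃ ψ ∈ c, ∃ ξ ∈ e,
        classInner (fun k : K => (ψ : H → ℂ) ⟨k, hKH k.2⟩) (ξ : K → ℂ) ≠ 0) ∧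
        IsInducedBlock M H c B) := by
  classical
  have hMp := isPrime_of_isPModular hM
  let _ : Fintype H := Fintype.ofFinite _
  have hQH : Q ≤ H := hH ▸ Subgroup.le_normalizer
  have hCH : Subgroup.centralizer (Q : Set G) ≤ H := hH ▸ Subgroup.centralizer_le_normalizer _
  have hKmem : ∀ x, x ∈ H → x ∈ N → x ∈ K := fun x h1 h2 => hK ▸ ⟨h1, h2⟩
  have hed' : IsInducedBlock M (K.subgroupOf N) (pull (sIso K N hKN) '' e) d :=
    (isInducedBlock_sIso_iff K N hKN he d).mpr hed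
  refine ⟨?_, ?_⟩
  · intro c hc hcov
    obtain ⟨B, hB⟩ := Cfsg.Agent.Lib.Helper16.Brauer.inducedBlockDefined_of_local hM Q H hQ hQH
      hCH (le_of_eq hH) c hc
    refine ⟨B, ⟨hB, induced_covers hMp N H K hKH hKN hKmem c B hB e d hed' hcov⟩, ?_⟩
    rintro B' ⟨hB', -⟩
    exact Cfsg.Agent.Lib.CT.PrincipalSection.isInducedBlock_unique hMp H c B' B hB' hB
  · intro B hB hcov
    obtain ⟨c, ⟨hc, hcovc⟩, hci⟩ :=
      hk_exists p hM N Q hQ hQN H hH K hK hKH hKN d hd hdQ e he hed B hB hcov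
    refine ⟨c, ⟨⟨hc, hcovc⟩, hci⟩, ?_⟩
    rintro c₂ ⟨⟨hc₂, hcov₂⟩, hi₂⟩
    exact hk_unique p hM N Q hQN H hH K hK hKH e he heQ B hB c₂ c hc₂ hc hcov₂ hcovc hi₂ hci

end Cfsg.Agent.Lib.CT.KnHK
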