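import Cfsg.Agent.Lib.CT.FongPS1
import Cfsg.Agent.Lib.CT.KnHK
import Cfsg.Agent.Lib.Helper76.PSolv
import Cfsg.Agent.Lib.Helper11.PConstr
import Cfsg.Agent.Lib.Helper16.Reynolds
import Cfsg.Prelude.Def_Local

/-!
# Fong's theorem for `p`-solvable groups: the block over an invariant character of `O_{p'}(G)`

`fong_psolvable`: if `G` is `p`-solvable and `θ` is a `G`-invariant irreducible character of
`N = O_{p'}(G)`, then the irreducible characters of `G` over `θ` form one `p`-block, whose defect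
groups are the Sylow `p`-subgroups of `G`.
-/

set_option autoImplicit false
open Cfsg

namespace Cfsg.Agent.Lib.CT.FongPS2

open Cfsg.Agent.Lib.CT.Wedderburn Cfsg.Agent.Lib.CT.KnUtil Cfsg.Agent.Lib.CT.DefectZeroBlock
open Cfsg.Agent.Lib.Helper77.BPTransport Cfsg.Agent.Lib.Helper16.Transfer
open Cfsg.Agent.Lib.Helper77.LocalRing Cfsg.Agent.Lib.Helper16.Normal
open Cfsg.Agent.Lib.Helper33.Conj Cfsg.Agent.Lib.Helper16.MinMax
open Cfsg.Agent.Lib.CT.KnMain Cfsg.Agent.Lib.Helper77.DefectClass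
open Cfsg.Agent.Lib.Helper16.UniqueCover Cfsg.Agent.Lib.CT.FongPS1
open scoped Pointwise

universe u
variable {G : Type u} [Group G] {M : Ideal AlgInt}

/-- Consequence of the Hall–Higman lemma: a subgroup `Q` with `O_{p'}(G) Q = O_{p',p}(G)` has its
centralizer inside `O_{p',p}(G)`, for `p`-solvable `G`. -/
theorem centralizer_le_pPrimePCore [Finite G] (p : ℕ) [Fact p.Prime] (hsolv : IsPSolvable p G)
    (Q : Subgroup G) (hQ : pPrimeCore p G ⊔ Q = pPrimePCore p G) :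
    Subgroup.centralizer (Q : Set G) ≤ pPrimePCore p G := by
  intro x hx
  have hHH := Cfsg.Agent.Lib.Helper76.PSolv.centralizer_pCore_le p
    (Cfsg.Agent.Lib.Helper76.PSolv.isPSolvable_quotient p (pPrimeCore p G) hsolv)
    (Cfsg.Agent.Lib.Helper76.PSolv.pPrimeCore_quotient p)
  show QuotientGroup.mk' (pPrimeCore p G) x ∈ pCore p (G ⧸ pPrimeCore p G)
  apply hHH
  rw [Subgroup.mem_centralizer_iff]
  intro u hu
  obtain ⟨g, rfl⟩ := QuotientGroup.mk'_surjective _ u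
  have hg : g ∈ pPrimePCore p G := hu
  rw [← hQ] at hg
  have hg' : g ∈ ((pPrimeCore p G : Subgroup G) : Set G) * (Q : Set G) := by
    rw [← Subgroup.normal_mul]
    exact hg
  obtain ⟨n, hn, q, hq, rfl⟩ := Set.mem_mul.mp hg'
  have hn1 : QuotientGroup.mk' (pPrimeCore p G) n = 1 := (QuotientGroup.eq_one_iff n).mpr hn
  have hqx : q * x = x * q := Subgroup.mem_centralizer_iff.mp hx q hq
  rw [map_mul, hn1, one_mul, ← map_mul, ← map_mul, hqx]

/-- `|O_{p',p}(G) : O_{p'}(G)|` is a power of `p`. -/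
theorem relIndex_pPrimeCore [Finite G] (p : ℕ) [Fact p.Prime] :
    ∃ k : ℕ, (pPrimeCore p G).relIndex (pPrimePCore p G) = p ^ k := by
  have hcard : Nat.card (pPrimePCore p G)
      = Nat.card (pPrimeCore p G) * Nat.card (pCore p (G ⧸ pPrimeCore p G)) :=
    QuotientGroup.card_preimage_mk (pPrimeCore p G)
      ((pCore p (G ⧸ pPrimeCore p G) : Subgroup (G ⧸ pPrimeCore p G)) : Set (G ⧸ pPrimeCore p G))
  have h2 := Cfsg.Agent.Lib.Helper76.PSolv.card_eq_card_mul_relIndex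
    (Cfsg.Agent.Lib.Helper11.PConstr.pPrimeCore_le_pPrimePCore p G)
  obtain ⟨k, hk⟩ := IsPGroup.iff_card.mp
    (Cfsg.Agent.Lib.Helper76.PSolv.pCore_isPGroup (G := G ⧸ pPrimeCore p G) p)
  refine ⟨k, ?_⟩
  have hpos : 0 < Nat.card (pPrimeCore p G) := Nat.card_pos
  rw [hcard] at h2
  rw [← hk]
  exact (Nat.eq_of_mul_eq_mul_left hpos h2).symm

/-- A `p`-subgroup `D` with `p ∤ |G : D N|`, `N` a normal `p'`-subgroup, is a Sylow
`p`-subgroup. -/
theorem not_dvd_index_of_sup [Finite G] (p : ℕ) [Fact p.Prime] (N D : Subgroup G) [hN : N.Normal]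
    (hNp : ¬ p ∣ Nat.card N) (hD : IsPGroup p D) (h : ¬ p ∣ (D ⊔ N).index) : ¬ p ∣ D.index := by
  have hp := (Fact.out : p.Prime)
  intro hdvd
  obtain ⟨m, hm⟩ := IsPGroup.iff_card.mp hD
  have h1 : Nat.card (D ⊔ N : Subgroup G) * (D ⊔ N).index = Nat.card G :=
    Subgroup.card_mul_index _
  have h2 : Nat.card (D ⊔ N : Subgroup G) = Nat.card N * N.relIndex (D ⊔ N) :=
    Cfsg.Agent.Lib.Helper76.PSolv.card_eq_card_mul_relIndex le_sup_right
  have h3 : N.relIndex (D ⊔ N) = N.relIndex D := Subgroup.relIndex_sup_right D N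
  have h4 : N.relIndex D ∣ Nat.card D := Subgroup.relIndex_dvd_card N D
  have h5 : Nat.card D * D.index = Nat.card G := Subgroup.card_mul_index _
  rw [hm] at h4 h5
  obtain ⟨j, hj, hj'⟩ := (Nat.dvd_prime_pow hp).mp h4
  have h6 : p ^ (m + 1) ∣ Nat.card G := by
    rw [← h5, pow_succ]
    exact Nat.mul_dvd_mul_left _ hdvd
  rw [← h1, h2, h3, hj'] at h6
  have h7 : p ^ (m + 1) ∣ p ^ j * (Nat.card N * (D ⊔ N).index) := by
    have e : Nat.card N * p ^ j * (D ⊔ N).index = p ^ j * (Nat.card N * (D ⊔ N).index) := by ring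
    rw [← e]
    exact h6
  have hcop : Nat.Coprime (p ^ (m + 1)) (Nat.card N * (D ⊔ N).index) :=
    Nat.Coprime.pow_left _ (Nat.Coprime.mul_right ((Nat.Prime.coprime_iff_not_dvd hp).mpr hNp)
      ((Nat.Prime.coprime_iff_not_dvd hp).mpr h))
  have h8 : p ^ (m + 1) ∣ p ^ j := Nat.Coprime.dvd_of_dvd_mul_right hcop h7
  have h9 := (Nat.pow_dvd_pow_iff_le_right hp.one_lt).mp h8
  omega

/-- **Fong's theorem** for a `G`-invariant character of `O_{p'}(G)`, `G` `p`-solvable. -/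
theorem fong_psolvable [Fintype G] (p : ℕ) [Fact p.Prime] (hM : IsPModular p M)
    (hsolv : IsPSolvable p G) (N : Subgroup G) [hN : N.Normal] [Fintype N]
    (hNdef : N = pPrimeCore p G) (θ : IrrCharacter N)
    (hinv : ∀ (g : G) (n : N),
      (θ : N → ℂ) ⟨g * n * g⁻¹, hN.conj_mem n n.2 g⟩ = (θ : N → ℂ) n) :
    ∃ B : Set (IrrCharacter G), IsPBlock M B ∧
      (∀ χ : IrrCharacter G, χ ∈ B ↔
        classInner (fun n : N => (χ : G → ℂ) n) (θ : N → ℂ) ≠ 0) ∧
      (∀ P : Sylow p G, IsDefectGroup p M B (P : Subgroup G)) ∧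
      ∀ D : Subgroup G, IsDefectGroup p M B D → ∃ P : Sylow p G, D = (P : Subgroup G) := by
  classical
  have hMp := isPrime_of_isPModular hM
  have hp := (Fact.out : p.Prime)
  have hcop : (Nat.card N).Coprime p := by
    rw [hNdef]
    exact Cfsg.Agent.Lib.Helper76.PSolv.pPrimeCore_coprime p
  have hndvd : ¬ p ∣ Nat.card N := fun h =>
    hp.one_lt.ne' (Nat.Coprime.eq_one_of_dvd hcop.symm h)
  -- `{θ}` is a `G`-stable block of `N`
  have hc0 : blockOf M (θ : N → ℂ) = {θ} := by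
    apply blockOf_eq_singleton_of_defect_zero hM θ
    have h1 : (Nat.card N).factorization p = 0 := Nat.factorization_eq_zero_of_not_dvd hndvd
    have h2 := factorization_charDegree_le p θ
    omega
  have hc : IsPBlock M ({θ} : Set (IrrCharacter N)) := by
    rw [← hc0]
    exact isPBlock_blockOf θ
  have hcI : ∀ g : G, cI N hN g θ = θ := by
    intro g
    apply Subtype.ext
    funext n
    rw [cI_apply]
    exact hinv g n
  have hst : GStable N hN ({θ} : Set (IrrCharacter N)) := by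
    intro θ' hθ' g
    rw [Set.mem_singleton_iff] at hθ' ⊢
    rw [hθ']
    exact hcI g
  -- `L = O_{p',p}(G)`
  obtain ⟨L, hLdef⟩ : ∃ L : Subgroup G, L = pPrimePCore p G := ⟨_, rfl⟩
  have hLn : L.Normal := by
    rw [hLdef]
    exact Cfsg.Agent.Lib.Helper11.PConstr.pPrimePCore_normal p G
  have hNL : N ≤ L := by
    rw [hLdef, hNdef]
    exact Cfsg.Agent.Lib.Helper11.PConstr.pPrimeCore_le_pPrimePCore p G
  let _ : Fintype L := Fintype.ofFinite _
  have hnL : (N.subgroupOf L).Normal := inferInstance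
  let _ : Fintype (N.subgroupOf L) := Fintype.ofFinite _
  obtain ⟨k, hk⟩ : ∃ k : ℕ, (N.subgroupOf L).index = p ^ k := by
    obtain ⟨k, hk⟩ := relIndex_pPrimeCore (G := G) p
    refine ⟨k, ?_⟩
    rw [← hk, hLdef, hNdef]
    rfl
  -- the unique block `b` of `L` covering `{θ}`
  obtain ⟨c', hc'def⟩ : ∃ c' : Set (IrrCharacter (N.subgroupOf L)),
      c' = pull (sIso N L hNL) '' ({θ} : Set (IrrCharacter N)) := ⟨_, rfl⟩
  have hc' : IsPBlock M c' := by
    rw [hc'def]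
    exact isPBlock_pull _ hc
  have hst' : GStable (N.subgroupOf L) hnL c' := by
    intro θ' hθ' s
    rw [hc'def] at hθ' ⊢
    obtain ⟨θ₀, hθ₀, rfl⟩ := hθ'
    rw [Set.mem_singleton_iff] at hθ₀
    rw [hθ₀, cI_pull_subgroupOf N L hN hNL hnL s θ, hcI]
    exact Set.mem_image_of_mem _ rfl
  obtain ⟨b, hb, hiota, -, hbuniq⟩ :=
    Cfsg.Agent.Lib.Helper16.Fong2.exists_block_of_pow_index p hM (N.subgroupOf L) hk c' hc' hst'
  obtain ⟨P₀, hP₀⟩ := exists_defectGroup hM b hb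
  obtain ⟨hsup, -⟩ := Cfsg.Agent.Lib.Helper16.Fong2.defect_of_pow_index p hM (N.subgroupOf L) hk
    c' hc' hst' b hiota P₀ hP₀
  obtain ⟨Q, hQdef⟩ : ∃ Q : Subgroup G, Q = P₀.map L.subtype := ⟨_, rfl⟩
  have hQL : Q ≤ L := by
    rw [hQdef]
    exact Subgroup.map_subtype_le _
  have hQsub : Q.subgroupOf L = P₀ := by
    rw [hQdef]
    exact Subgroup.comap_map_eq_self_of_injective L.subtype_injective P₀
  have hQ : IsDefectGroup p M b (Q.subgroupOf L) := by
    rw [hQsub]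
    exact hP₀
  have hNQ : N ⊔ Q = L := by
    have h1 := congrArg (Subgroup.map L.subtype) hsup
    rw [Subgroup.map_sup, Subgroup.map_subgroupOf_eq_of_le hNL, ← hQdef] at h1
    rw [h1, ← MonoidHom.range_eq_map, Subgroup.range_subtype]
  have hCQ : Subgroup.centralizer (Q : Set G) ≤ L := by
    rw [hLdef]
    apply centralizer_le_pPrimePCore p hsolv Q
    rw [← hNdef, ← hLdef]
    exact hNQ
  -- a character over `θ` lies over a character of `b`
  have hover : ∀ χ : IrrCharacter G,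
      classInner (fun n : N => (χ : G → ℂ) n) (θ : N → ℂ) ≠ 0 →
      ∃ ψ ∈ b, classInner (fun l : L => (χ : G → ℂ) l) (ψ : L → ℂ) ≠ 0 := by
    intro χ hχ
    obtain ⟨ψ, hψ1, hψ2⟩ := exists_middle N L hNL χ θ hχ
    refine ⟨ψ, ?_, hψ1⟩
    have h1 : blockOf M (ψ : L → ℂ) = b := by
      apply hbuniq _ (isPBlock_blockOf ψ)
      rw [hc'def, cover_pull_iff N L hNL {θ} (blockOf M (ψ : L → ℂ))]
      exact ⟨ψ, self_mem_blockOf hMp ψ, θ, rfl, hψ2⟩
    rw [← h1]
    exact self_mem_blockOf hMp ψ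
  obtain ⟨χ₀, hχ₀⟩ := Cfsg.Agent.Lib.Helper16.Cover4.exists_over N θ
  obtain ⟨B, hBdef⟩ : ∃ B : Set (IrrCharacter G), B = blockOf M (χ₀ : G → ℂ) := ⟨_, rfl⟩
  have hB : IsPBlock M B := by
    rw [hBdef]
    exact isPBlock_blockOf χ₀
  have hχ₀B : χ₀ ∈ B := by
    rw [hBdef]
    exact self_mem_blockOf hMp χ₀
  have hBcovb : ∃ χ ∈ B, ∃ ψ ∈ b,
      classInner (fun l : L => (χ : G → ℂ) l) (ψ : L → ℂ) ≠ 0 := by
    obtain ⟨ψ, hψ, h⟩ := hover χ₀ hχ₀
    exact ⟨χ₀, hχ₀B, ψ, hψ, h⟩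
  have hBcovc : ∃ χ ∈ B, ∃ θ' ∈ ({θ} : Set (IrrCharacter N)),
      classInner (fun n : N => (χ : G → ℂ) n) (θ' : N → ℂ) ≠ 0 :=
    ⟨χ₀, hχ₀B, θ, rfl, hχ₀⟩
  have hmem : ∀ χ : IrrCharacter G, χ ∈ B ↔
      classInner (fun n : N => (χ : G → ℂ) n) (θ : N → ℂ) ≠ 0 := by
    intro χ
    constructor
    · intro hχ
      obtain ⟨θ', hθ', h⟩ := Cfsg.Agent.Lib.Helper16.Reynolds.forall_cover hMp N hN {θ} hc B hB
        hBcovc χ hχ
      rw [Set.mem_singleton_iff] at hθ'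
      rw [hθ'] at h
      exact h
    · intro hχ
      obtain ⟨ψ, hψ, h⟩ := hover χ hχ
      have h1 : B = blockOf M (χ : G → ℂ) :=
        cover_unique_of_centralizer p hM L b hb Q hQL hQ hCQ B _ hB (isPBlock_blockOf χ) hBcovb
          ⟨χ, self_mem_blockOf hMp χ, ψ, hψ, h⟩
      rw [h1]
      exact self_mem_blockOf hMp χ
  -- defect groups
  have hfong : ∀ P : Subgroup G, IsDefectGroup p M B P → ¬ p ∣ (P ⊔ N).index := by
    intro P hP
    refine (Cfsg.Agent.Lib.Helper16.Fong.fong p hM N {θ} hc hst B hB hBcovc ?_ P hP).1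
    intro B' hB' hcov'
    obtain ⟨χ', hχ', θ', hθ', h⟩ := hcov'
    rw [Set.mem_singleton_iff] at hθ'
    rw [hθ'] at h
    have h1 : χ' ∈ B := (hmem χ').mpr h
    have h2 : B' = B := by
      rw [eq_blockOf_of_mem hMp hB' hχ', eq_blockOf_of_mem hMp hB h1]
    rw [h2]
  have hsyl : ∀ D : Subgroup G, IsDefectGroup p M B D →
      ∃ P : Sylow p G, D = (P : Subgroup G) := by
    intro D hD
    have hDp : IsPGroup p D := isPGroup_of_isDefectGroup hD
    have h2 : ¬ p ∣ D.index := not_dvd_index_of_sup p N D hndvd hDp (hfong D hD)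
    exact ⟨hDp.toSylow h2, (IsPGroup.toSylow_coe hDp h2).symm⟩
  refine ⟨B, hB, hmem, ?_, hsyl⟩
  intro P
  obtain ⟨D, hD⟩ := exists_defectGroup hM B hB
  obtain ⟨P', hP'⟩ := hsyl D hD
  obtain ⟨g, hg⟩ := MulAction.exists_smul_eq G P' P
  have h1 := isDefectGroup_conj hD g
  have h2 : (P : Subgroup G) = D.map (MulAut.conj g).toMonoidHom := by
    rw [← hg, hP']
    ext x
    rw [mem_cj, Sylow.coe_subgroup_smul, Subgroup.mem_pointwise_smul_iff_inv_smul_mem]
    simp [MulAut.smul_def, mul_assoc]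
  rw [h2]
  exact h1

end Cfsg.Agent.Lib.CT.FongPS2
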