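import Cfsg.Agent.Lib.CT.SecondMain2
import Cfsg.Agent.Lib.Helper75.NumMinMax
import Cfsg.Agent.Lib.Helper16.Defect
import Cfsg.Agent.S4604

/-!
# Characters of height zero on defect classes

* `char_mul_sub_mem`: `χ(x y) ≡ χ(y)` modulo the local ideal, for a `p`-element `x` commuting
  with `y`.
* `height_zero_not_mem`: a character of height zero of `B` does not vanish modulo the local
  ideal at a defect class of `B`.
* `height_zero_mul_not_mem`: nor at `x * y` for `y` a defect class and `x` a `p`-element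
  commuting with `y`.
-/

set_option autoImplicit false

namespace Cfsg.Agent.Lib.CT.HeightZero

open Cfsg Cfsg.Agent.Lib.Helper77.LocalRing Cfsg.Agent.Lib.Helper77.CentralChar
  Cfsg.Agent.Lib.Helper77.BlockIdem Cfsg.Agent.Lib.CT.Wedderburn
  Cfsg.Agent.Lib.CT.DefectZeroBlock

universe u
variable {G : Type u} [Group G]

/-- `χ(x y) ≡ χ(y)` modulo the local ideal, for a `p`-element `x` commuting with `y`. -/
theorem char_mul_sub_mem [Finite G] {p : ℕ} {M : Ideal AlgInt} (hM : IsPModular p M)
    {χ : G → ℂ} (hχ : IsCharacter G χ) (x y : G) (hxy : Commute x y) (k : ℕ)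
    (hx : x ^ (p ^ k) = 1) : MemLocalIdeal M (χ (x * y) - χ y) := by
  have hMp : M.IsPrime := isPrime_of_isPModular hM
  have hp : p.Prime := hM.1
  have hint : ∀ g : G, MemLocalRing M (χ g) := fun g =>
    memLocalRing_of_isIntegral hMp
      (Cfsg.Agent.Lib.Helper80.Integrality.isIntegral_of_isCharacter hχ g)
  obtain ⟨γ1, h1⟩ := Cfsg.Agent.S4604.frob_congr hχ p hp k (x * y)
  obtain ⟨γ2, h2⟩ := Cfsg.Agent.S4604.frob_congr hχ p hp k y
  rw [hxy.mul_pow, hx, one_mul] at h1
  let a' : localSubring M hMp := ⟨χ (x * y) - χ y,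
    (mem_localSubring hMp).mpr (memLocalRing_sub hMp (hint _) (hint _))⟩
  let b' : localSubring M hMp := ⟨χ y, (mem_localSubring hMp).mpr (hint _)⟩
  obtain ⟨r, hr⟩ := exists_add_pow_prime_pow_eq hp a' b' k
  have hr' : (χ (x * y) - χ y + χ y) ^ p ^ k = (χ (x * y) - χ y) ^ p ^ k + χ y ^ p ^ k +
      (p : ℂ) * (χ (x * y) - χ y) * χ y * (r : ℂ) := by
    have h := congrArg (Subtype.val) hr
    simpa [a', b'] using h
  have hrR : MemLocalRing M (r : ℂ) := (mem_localSubring hMp).mp r.2
  have hpow : (χ (x * y) - χ y) ^ p ^ k =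
      (p : ℂ) * ((γ1 : ℂ) - (γ2 : ℂ) - (χ (x * y) - χ y) * χ y * (r : ℂ)) := by
    rw [sub_add_cancel] at hr'
    linear_combination -hr' + h1 - h2
  apply memLocalIdeal_of_pow hMp (memLocalRing_sub hMp (hint _) (hint _)) (p ^ k)
  rw [hpow]
  exact memLocalIdeal_mul_right hMp (memLocalIdeal_natCast_of_dvd hM (dvd_refl p))
    (memLocalRing_sub hMp (memLocalRing_sub hMp (memLocalRing_algInt hMp γ1)
      (memLocalRing_algInt hMp γ2))
      (memLocalRing_mul hMp (memLocalRing_mul hMp (memLocalRing_sub hMp (hint _) (hint _))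
        (hint _)) hrR))

/-- A character of height zero in `B` is a unit modulo the local ideal at every defect class of
`B`. -/
theorem height_zero_not_mem [Finite G] (p : ℕ) [Fact p.Prime] {M : Ideal AlgInt}
    (hM : IsPModular p M) (B : Set (IrrCharacter G)) (hB : IsPBlock M B) (y : G)
    (hy : IsDefectClass M B y) (χ : IrrCharacter G) (hχ : χ ∈ B)
    (h0 : blockHeight p B (χ : G → ℂ) = 0) : ¬ MemLocalIdeal M ((χ : G → ℂ) y) := by
  have hMp : M.IsPrime := isPrime_of_isPModular hM
  have hp : p.Prime := hM.1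
  intro hmem
  apply hy.2.2 χ hχ
  have hle : (Nat.card (Subgroup.centralizer ({y} : Set G))).factorization p ≤
      blockDefect p B := not_lt.mp fun h =>
    hy.2.1 (Cfsg.Agent.Lib.Helper75.NumMinMax.memLocalIdeal_blockCoeff_of_lt p M hM B hB y h)
  obtain ⟨e, he, hdvd, ψ, hψ, hψe⟩ :=
    Cfsg.Agent.Lib.Helper75.NumMinMax.exists_defect_data p B ⟨χ, hχ⟩
  have hinf : sInf ((fun χ : IrrCharacter G => (charDegree (χ : G → ℂ)).factorization p) '' B)
      ≤ e := by
    rw [← hψe]
    exact Nat.sInf_le ⟨ψ, hψ, rfl⟩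
  have hχe : (charDegree (χ : G → ℂ)).factorization p ≤ e := by
    unfold blockHeight at h0
    exact (Nat.sub_eq_zero_iff_le.mp h0).trans hinf
  have hidx : (Subgroup.centralizer ({y} : Set G)).index *
      Nat.card (Subgroup.centralizer ({y} : Set G)) = Nat.card G :=
    Subgroup.index_mul_card _
  have hidx0 : (Subgroup.centralizer ({y} : Set G)).index ≠ 0 :=
    Subgroup.index_ne_zero_of_finite
  have hfac : ((Subgroup.centralizer ({y} : Set G)).index).factorization p +
      (Nat.card (Subgroup.centralizer ({y} : Set G))).factorization p =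
      (Nat.card G).factorization p := by
    rw [← hidx, Nat.factorization_mul hidx0 Nat.card_pos.ne']
    rfl
  have hge : (charDegree (χ : G → ℂ)).factorization p ≤
      ((Subgroup.centralizer ({y} : Set G)).index).factorization p := by omega
  have hdiv : p ^ (charDegree (χ : G → ℂ)).factorization p ∣
      (Subgroup.centralizer ({y} : Set G)).index :=
    (pow_dvd_pow p hge).trans (Nat.ordProj_dvd _ p)
  have hdeg0 : charDegree (χ : G → ℂ) ≠ 0 := by
    intro h
    have := char_natCast_charDegree (isCharacter_of_irr χ.2)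
    rw [h, Nat.cast_zero] at this
    exact irr_one_ne_zero χ.2 this.symm
  have hR := Cfsg.Agent.Lib.Helper16.Defect.natCast_div_memLocalRing hM
    (Subgroup.centralizer ({y} : Set G)).index (charDegree (χ : G → ℂ)) hdeg0 hdiv
  have heq : centralChar (χ : G → ℂ) y =
      ((Subgroup.centralizer ({y} : Set G)).index : ℂ) / (charDegree (χ : G → ℂ) : ℂ) *
        (χ : G → ℂ) y := by
    unfold centralChar
    rw [char_natCast_charDegree (isCharacter_of_irr χ.2)]
    ring
  rw [heq]
  exact memLocalIdeal_mul_left hMp hR hmem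

/-- A character of height zero in `B` is a unit modulo the local ideal at `x * y`, for `y` a
defect class of `B` and `x` a `p`-element commuting with `y`. -/
theorem height_zero_mul_not_mem [Finite G] (p : ℕ) [Fact p.Prime] {M : Ideal AlgInt}
    (hM : IsPModular p M) (B : Set (IrrCharacter G)) (hB : IsPBlock M B) (y : G)
    (hy : IsDefectClass M B y) (χ : IrrCharacter G) (hχ : χ ∈ B)
    (h0 : blockHeight p B (χ : G → ℂ) = 0) (x : G) (hxy : Commute x y) (k : ℕ)
    (hx : x ^ (p ^ k) = 1) : ¬ MemLocalIdeal M ((χ : G → ℂ) (x * y)) := by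
  have hMp : M.IsPrime := isPrime_of_isPModular hM
  intro hmem
  apply height_zero_not_mem p hM B hB y hy χ hχ h0
  have h1 := char_mul_sub_mem hM (isCharacter_of_irr χ.2) x y hxy k hx
  have h2 := memLocalIdeal_sub hMp hmem h1
  rwa [sub_sub_cancel] at h2

end Cfsg.Agent.Lib.CT.HeightZero
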