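import Cfsg.Agent.Lib.CT.HtPS1
import Cfsg.Agent.S0867
import Cfsg.Agent.S0856
import Cfsg.Agent.S0887
import Cfsg.Agent.Lib.Helper81.SemiChar
import Cfsg.Agent.Lib.Helper4.GlauDet

/-!
# Degrees of characters over an invariant character of a normal `p'`-subgroup

* `degree_eq_of_abelian_quotient`: if `N ⊴ A` is a `p'`-group with `A / N` an abelian `p`-group and
  `θ ∈ Irr(N)` is `A`-invariant, then every `η ∈ Irr(A | θ)` has `η(1) = θ(1)`.
* `factorization_degree_le`: for `K ≤ A` normal in `G` in this situation and `χ ∈ Irr(G | θ)`,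
  `ν_p(χ(1)) ≤ ν_p |G : A|`.
-/

set_option autoImplicit false
open Cfsg

namespace Cfsg.Agent.Lib.CT.HtPS2

open Cfsg.Agent.Lib.CT.Wedderburn Cfsg.Agent.Lib.CT.KnUtil
open Cfsg.Agent.Lib.Helper77.BPTransport Cfsg.Agent.Lib.Helper16.Transfer
open Cfsg.Agent.Lib.CT.FrobRec

universe u

theorem degree_eq_of_abelian_quotient {A : Type u} [Group A] [Fintype A] (p : ℕ) [Fact p.Prime]
    (N : Subgroup A) [hN : N.Normal] [Fintype N] (hcop : ¬ p ∣ Nat.card N) (m : ℕ)
    (hidx : N.index = p ^ m) (hcomm : ∀ a b : A, a * b * a⁻¹ * b⁻¹ ∈ N)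
    (θ : IrrCharacter N)
    (hinv : ∀ (a : A) (n : N),
      (θ : N → ℂ) ⟨a * n * a⁻¹, hN.conj_mem n n.2 a⟩ = (θ : N → ℂ) n)
    (η : IrrCharacter A)
    (hη : classInner (fun n : N => (η : A → ℂ) n) (θ : N → ℂ) ≠ 0) :
    (η : A → ℂ) 1 = (θ : N → ℂ) 1 := by
  classical
  have hp := (Fact.out : p.Prime)
  have hd : (θ : N → ℂ) 1 = (charDegree (θ : N → ℂ) : ℂ) :=
    Cfsg.Agent.Lib.Helper80.Integrality.apply_one_eq_charDegree (isCharacter_of_irr θ.2)
  have hpN : Nat.Coprime p (Nat.card N) := (Nat.Prime.coprime_iff_not_dvd hp).mpr hcop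
  have hcop' : Nat.Coprime N.index (detOrder (θ : N → ℂ) * charDegree (θ : N → ℂ)) := by
    rw [hidx]
    exact Nat.Coprime.pow_left m (Nat.Coprime.mul_right
      (Nat.Coprime.coprime_dvd_right (Cfsg.Agent.Lib.Helper4.GlauDet.detOrder_dvd_card θ.2) hpN)
      (Nat.Coprime.coprime_dvd_right
        (Cfsg.Agent.Lib.Helper80.Integrality.charDegree_dvd_card θ) hpN))
  obtain ⟨θh, ⟨hθh, hext, -⟩, -⟩ := Cfsg.Agent.S0867.result N (θ : N → ℂ) θ.2 hinv
    (charDegree (θ : N → ℂ)) hd hcop'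
  -- Gallagher
  have hφθ : (fun _ : N => (1 : ℂ)) * (θ : N → ℂ) = (θ : N → ℂ) := by
    funext n
    simp
  have hbij := Cfsg.Agent.S0856.result N (fun _ : N => (1 : ℂ)) (θ : N → ℂ)
    Cfsg.Agent.Lib.CT.Ops.isIrrCharacter_one θ.2 (fun _ _ => rfl) hinv
    (by rw [hφθ]; exact θ.2) θh hθh hext
  have hηT : (η : A → ℂ) ∈ {ψ : A → ℂ | IsIrrCharacter A ψ ∧
      classInner (indFun N ((fun _ : N => (1 : ℂ)) * (θ : N → ℂ))) ψ ≠ 0} := by
    refine ⟨η.2, ?_⟩
    rw [hφθ, frobenius_reciprocity N (θ : N → ℂ) (η : A → ℂ)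
      (char_isClassFunction (isCharacter_of_irr η.2)),
      Cfsg.Agent.Lib.CT.Clifford.classInner_conj_symm]
    intro h0
    apply hη
    have := congrArg (starRingEnd ℂ) h0
    simpa using this
  obtain ⟨β, ⟨hβ, hβind⟩, hβη⟩ := hbij.surjOn hηT
  have hβη' : β * θh = (η : A → ℂ) := hβη
  -- `β` is linear
  have hΨ : IsCharacter A (indFun N (fun _ : N => (1 : ℂ))) :=
    Cfsg.Agent.Lib.CT.IndChar.isCharacter_indFun N _ Cfsg.Agent.Lib.CT.Ops.isCharacter_one
  have hβker : ∀ n ∈ N, β n = β 1 := by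
    intro n hn
    refine Cfsg.Agent.Lib.CT.KnUtil2.ker_of_constituent' hΨ ⟨β, hβ⟩ hβind n ?_
    rw [indFun_apply, indFun_apply]
    congr 1
    apply Finset.sum_congr rfl
    intro x _
    have h1 : x⁻¹ * n * x ∈ N := by
      have := hN.conj_mem n hn x⁻¹
      simpa using this
    have h2 : x⁻¹ * 1 * x ∈ N := by
      simp
    have e1 : x⁻¹ * n * x = ((⟨x⁻¹ * n * x, h1⟩ : N) : A) := rfl
    have e2 : x⁻¹ * 1 * x = ((⟨x⁻¹ * 1 * x, h2⟩ : N) : A) := rfl
    rw [e1, e2, extendByZero_apply_coe, extendByZero_apply_coe]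
  obtain ⟨βb, hβb, hβe⟩ := Cfsg.Agent.Lib.CT.Kernel.exists_quotient_irr N hβ hβker
  have hab : ∀ a b : A ⧸ N, a * b = b * a := by
    intro a b
    induction a using QuotientGroup.induction_on with
    | H a =>
      induction b using QuotientGroup.induction_on with
      | H b =>
        rw [← QuotientGroup.mk_mul, ← QuotientGroup.mk_mul, QuotientGroup.eq]
        have := hcomm b⁻¹ a⁻¹
        simpa [mul_assoc] using this
  have h1 : βb 1 = 1 := Cfsg.Agent.Lib.Helper81.SemiChar.abelian_linear hab ⟨βb, hβb⟩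
  have hβ1 : β 1 = 1 := by
    rw [← hβe 1]
    exact h1
  have hθh1 : θh 1 = (θ : N → ℂ) 1 := hext 1
  rw [← hβη']
  show β 1 * θh 1 = (θ : N → ℂ) 1
  rw [hβ1, one_mul, hθh1]

theorem factorization_degree_le {G : Type u} [Group G] [Fintype G] (p : ℕ) [Fact p.Prime]
    (K A : Subgroup G) [hK : K.Normal] [hA : A.Normal] [Fintype K] (hKA : K ≤ A)
    (hcop : ¬ p ∣ Nat.card K) (m : ℕ) (hidx : K.relIndex A = p ^ m)
    (hcomm : ∀ a ∈ A, ∀ b ∈ A, a * b * a⁻¹ * b⁻¹ ∈ K) (θ : IrrCharacter K)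
    (hinv : ∀ a ∈ A, ∀ n : K,
      (θ : K → ℂ) ⟨a * n * a⁻¹, hK.conj_mem n n.2 a⟩ = (θ : K → ℂ) n)
    (χ : IrrCharacter G)
    (hχ : classInner (fun k : K => (χ : G → ℂ) k) (θ : K → ℂ) ≠ 0) :
    (charDegree (χ : G → ℂ)).factorization p ≤ A.index.factorization p := by
  classical
  have hp := (Fact.out : p.Prime)
  let _ : Fintype A := Fintype.ofFinite _
  let _ : Fintype (K.subgroupOf A) := Fintype.ofFinite _
  have hnA : (K.subgroupOf A).Normal := inferInstance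
  obtain ⟨η, hη1, hη2⟩ := exists_middle K A hKA χ θ hχ
  have hcard : Nat.card (K.subgroupOf A) = Nat.card K :=
    Nat.card_congr (sIso K A hKA).toEquiv
  have hdeg : (η : A → ℂ) 1 = ((pull (sIso K A hKA) θ : IrrCharacter (K.subgroupOf A)) :
      (K.subgroupOf A) → ℂ) 1 := by
    apply degree_eq_of_abelian_quotient p (K.subgroupOf A) (by rw [hcard]; exact hcop) m hidx
    · intro a b
      rw [Subgroup.mem_subgroupOf]
      exact hcomm a a.2 b b.2
    · intro a n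
      rw [pull_apply, pull_apply]
      have h1 := hinv a a.2 (sIso K A hKA n)
      rw [← h1]
      refine congrArg _ (Subtype.ext ?_)
      rw [coe_sIso]
      rfl
    · rw [classInner_pull_subgroupOf K A hKA (η : A → ℂ) θ]
      exact hη2
  have hdeg' : (η : A → ℂ) 1 = (θ : K → ℂ) 1 := by
    rw [hdeg, pull_apply, map_one]
  have hcd : charDegree (η : A → ℂ) = charDegree (θ : K → ℂ) := by
    unfold charDegree
    rw [hdeg']
  obtain ⟨hd1, hd2⟩ := Cfsg.Agent.S0887.result A (χ : G → ℂ) χ.2 (η : A → ℂ) η.2 hη1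
    (charDegree (χ : G → ℂ)) (charDegree (η : A → ℂ))
    (Cfsg.Agent.Lib.Helper80.Integrality.apply_one_eq_charDegree (isCharacter_of_irr χ.2))
    (Cfsg.Agent.Lib.Helper80.Integrality.apply_one_eq_charDegree (isCharacter_of_irr η.2))
  have hdpos : 0 < charDegree (η : A → ℂ) := irr_charDegree_pos η.2
  have hcpos : 0 < charDegree (χ : G → ℂ) := irr_charDegree_pos χ.2
  have hmul : charDegree (χ : G → ℂ)
      = charDegree (η : A → ℂ) * (charDegree (χ : G → ℂ) / charDegree (η : A → ℂ)) :=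
    (Nat.mul_div_cancel' hd1).symm
  have hq0 : charDegree (χ : G → ℂ) / charDegree (η : A → ℂ) ≠ 0 := by
    intro h0
    rw [h0, mul_zero] at hmul
    omega
  have hpd : ¬ p ∣ charDegree (η : A → ℂ) := by
    rw [hcd]
    intro hdv
    exact hcop (dvd_trans hdv (Cfsg.Agent.Lib.Helper80.Integrality.charDegree_dvd_card θ))
  have hAne : A.index ≠ 0 := Subgroup.index_ne_zero_of_finite
  rw [hmul, Nat.factorization_mul hdpos.ne' hq0, Finsupp.add_apply,
    Nat.factorization_eq_zero_of_not_dvd hpd, zero_add]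
  exact (Nat.factorization_le_iff_dvd hq0 hAne).mpr hd2 p

end Cfsg.Agent.Lib.CT.HtPS2
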