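import Cfsg.Agent.Lib.CT.HtPS2

/-!
# Heights in blocks of `p`-solvable groups

`height_le`: in a `p`-solvable group, a character in a block with defect group `P` has height at
most `ν_p |P : Z(P)|`.
-/

set_option autoImplicit false
open Cfsg

namespace Cfsg.Agent.Lib.CT.HtPS3

open Cfsg.Agent.Lib.CT.Wedderburn Cfsg.Agent.Lib.CT.KnUtil Cfsg.Agent.Lib.CT.DefectZeroBlock
open Cfsg.Agent.Lib.Helper77.BPTransport Cfsg.Agent.Lib.Helper16.Transfer
open Cfsg.Agent.Lib.Helper77.LocalRing Cfsg.Agent.Lib.Helper16.Normal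
open Cfsg.Agent.Lib.Helper33.Conj Cfsg.Agent.Lib.Helper16.MinMax
open Cfsg.Agent.Lib.CT.KnMain Cfsg.Agent.Lib.Helper77.DefectClass
open Cfsg.Agent.Lib.CT.HtPS1 Cfsg.Agent.Lib.CT.HtPS2 Cfsg.Agent.Lib.CT.FongPS2

universe u

theorem height_le_aux (p : ℕ) [Fact p.Prime] (M : Ideal AlgInt) (hM : IsPModular p M) :
    ∀ (n : ℕ) (G : Type u) [Group G] [Fintype G], Nat.card G = n → IsPSolvable p G →
      ∀ (B : Set (IrrCharacter G)), IsPBlock M B → ∀ (P : Subgroup G), IsDefectGroup p M B P →
        ∀ χ : IrrCharacter G, χ ∈ B →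
          blockHeight p B (χ : G → ℂ) ≤ ((Subgroup.center P).index).factorization p := by
  intro n
  induction n using Nat.strong_induction_on with
  | _ n ih =>
    intro G _ _ hn hsolv B hB P hP χ hχ
    classical
    have hMp := isPrime_of_isPModular hM
    have hp := (Fact.out : p.Prime)
    obtain ⟨K, hKdef⟩ : ∃ K : Subgroup G, K = pPrimeCore p G := ⟨_, rfl⟩
    have hKn : K.Normal := by
      rw [hKdef]
      infer_instance
    let _ : Fintype K := Fintype.ofFinite _
    obtain ⟨θ, hθ⟩ := Cfsg.Agent.Lib.Helper16.Cover.exists_constituent K χ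
    have hcop : (Nat.card K).Coprime p := by
      rw [hKdef]
      exact Cfsg.Agent.Lib.Helper76.PSolv.pPrimeCore_coprime p
    have hndvd : ¬ p ∣ Nat.card K := fun h =>
      hp.one_lt.ne' (Nat.Coprime.eq_one_of_dvd hcop.symm h)
    have hc0 : blockOf M (θ : K → ℂ) = {θ} := by
      apply blockOf_eq_singleton_of_defect_zero hM θ
      have h1 : (Nat.card K).factorization p = 0 := Nat.factorization_eq_zero_of_not_dvd hndvd
      have h2 := factorization_charDegree_le p θ
      omega
    have hc : IsPBlock M ({θ} : Set (IrrCharacter K)) := by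
      rw [← hc0]
      exact isPBlock_blockOf θ
    obtain ⟨T, hT⟩ := Cfsg.Agent.Lib.Helper16.Reynolds.exists_stab K hKn
      ({θ} : Set (IrrCharacter K))
    have hKT : K ≤ T := by
      intro g hg
      rw [hT]
      intro θ' hθ'
      rw [Set.mem_singleton_iff] at hθ' ⊢
      rw [hθ']
      exact Cfsg.Agent.Lib.Helper16.ExtFirst2.cI_of_mem K hKn g hg θ
    by_cases hTtop : T = ⊤
    · -- `θ` is `G`-invariant
      have hcI : ∀ g : G, cI K hKn g θ = θ := by
        intro g
        have hg : g ∈ T := by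
          rw [hTtop]
          trivial
        exact (hT g).mp hg θ rfl
      have hinv : ∀ (g : G) (n : K),
          (θ : K → ℂ) ⟨g * n * g⁻¹, hKn.conj_mem n n.2 g⟩ = (θ : K → ℂ) n := by
        intro g n
        have h1 := congrArg (fun t : IrrCharacter K => (t : K → ℂ) n) (hcI g)
        simp only [cI_apply] at h1
        exact h1
      obtain ⟨B₀, hB₀, hmem, -, hdef⟩ := fong_psolvable p hM hsolv K hKdef θ hinv
      have hχB₀ : χ ∈ B₀ := (hmem χ).mpr hθ
      have hBB₀ : B = B₀ := by
        rw [eq_blockOf_of_mem hMp hB hχ, eq_blockOf_of_mem hMp hB₀ hχB₀]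
      rw [hBB₀] at hP
      obtain ⟨S, hS⟩ := hdef P hP
      subst hS
      have h1 : blockHeight p B (χ : G → ℂ) ≤ (charDegree (χ : G → ℂ)).factorization p :=
        Nat.sub_le _ _
      obtain ⟨m, hm⟩ := relIndex_zCore (G := G) p
      have hKA : K ≤ zCore p G := by
        rw [hKdef]
        exact pPrimeCore_le_zCore p
      have h2 := factorization_degree_le p K (zCore p G) hKA hndvd m (by rw [hKdef]; exact hm)
        (fun a ha b hb => by rw [hKdef]; exact comm_mem p ha hb) θ
        (fun a _ n => hinv a n) χ hθ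
      have h3 := index_factorization_le p hsolv S
      exact le_trans h1 (le_trans h2 h3)
    · -- Fong-Reynolds reduction to the stabilizer
      let _ : Fintype T := Fintype.ofFinite _
      have hlt : Nat.card T < Nat.card G := by
        apply lt_of_le_of_ne (Subgroup.card_le_card_group T)
        intro h
        exact hTtop ((Subgroup.card_eq_iff_eq_top T).mp h)
      have hcovB : ∃ χ ∈ B, ∃ θ' ∈ ({θ} : Set (IrrCharacter K)),
          classInner (fun n : K => (χ : G → ℂ) n) (θ' : K → ℂ) ≠ 0 := ⟨χ, hχ, θ, rfl, hθ⟩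
      obtain ⟨B', hB', hcov', hind⟩ := Cfsg.Agent.Lib.Helper16.FR4.fr_surjective K hKn T hKT
        ({θ} : Set (IrrCharacter K)) p hM hc hT B hB hcovB
      obtain ⟨B₁, hind₁, -, -, hmem₁⟩ := Cfsg.Agent.Lib.Helper16.FR4.fr_induced K hKn T hKT
        ({θ} : Set (IrrCharacter K)) p hM hc hT B' hB' hcov'
      have hBB₁ : B₁ = B :=
        Cfsg.Agent.Lib.CT.PrincipalSection.isInducedBlock_unique hMp T B' B₁ B hind₁ hind
      rw [hBB₁] at hmem₁
      obtain ⟨ψ, hψ, hχψ⟩ := (hmem₁ χ).mp hχ
      obtain ⟨hdefect, hheight⟩ := Cfsg.Agent.Lib.Helper16.FR4.fr_defect K hKn T hKT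
        ({θ} : Set (IrrCharacter K)) p hM hc hT B' hB' hcov' B hind
      obtain ⟨χ', -, hχ'ψ, hht⟩ := hheight ψ hψ
      have hht' : blockHeight p B (χ : G → ℂ) = blockHeight p B' (ψ : T → ℂ) := by
        rw [hχψ, ← hχ'ψ]
        exact hht
      obtain ⟨D', hD'⟩ := exists_defectGroup hM B' hB'
      have hIH := ih (Nat.card T) (hn ▸ hlt) ↥T rfl (isPSolvable_subgroup p T hsolv) B' hB' D' hD'
        ψ hψ
      have hD := hdefect D' hD'
      obtain ⟨x, hx⟩ := defectGroup_conj hM B hB hD hP
      have e : D' ≃* P :=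
        ((D'.equivMapOfInjective T.subtype T.subtype_injective).trans
          ((D'.map T.subtype).equivMapOfInjective (MulAut.conj x).toMonoidHom
            (MulAut.conj x).injective)).trans (MulEquiv.subgroupCongr hx.symm)
      rw [hht', center_index_eq e]
      exact hIH

/-- In a `p`-solvable group, the height of a character in a block with defect group `P` is at
most `ν_p |P : Z(P)|`. -/
theorem height_le {G : Type u} [Group G] [Finite G] (p : ℕ) [Fact p.Prime] (M : Ideal AlgInt)
    (hM : IsPModular p M) (hsolv : IsPSolvable p G) (B : Set (IrrCharacter G))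
    (hB : IsPBlock M B) (P : Subgroup G) (hP : IsDefectGroup p M B P) (χ : IrrCharacter G)
    (hχ : χ ∈ B) :
    blockHeight p B (χ : G → ℂ) ≤ ((Subgroup.center P).index).factorization p := by
  classical
  let _ : Fintype G := Fintype.ofFinite G
  exact height_le_aux p M hM (Nat.card G) G rfl hsolv B hB P hP χ hχ

end Cfsg.Agent.Lib.CT.HtPS3
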