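import Cfsg.Agent.S1496
import Cfsg.Agent.Lib.CT.FongPS2

/-!
# Group-theoretic lemmas for the Kiyota–Okuyama theorem

* `sz_coset`: for `K ≤ L` normal in `G` with `L / K` a `p`-group, `y` a `p`-regular element and
  `l ∈ L` with `l y` again `p`-regular, `l y` is conjugate to an element of `K y` under `L`.
* `count`: a class function vanishing on `p`-singular elements, summed over the coset `L y`.
* `card_filter_lt`: for `K = O_{p'}(G)`, `L = O_{p',p}(G)` in a `p`-solvable group, a `p`-regular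
  element outside `K` does not centralize `L / K`.
-/

set_option autoImplicit false
open Cfsg

namespace Cfsg.Agent.Lib.CT.KO2

universe u
variable {G : Type u} [Group G]

/-- The number of elements `w` of `L` with `[w, y] ∈ K`. -/
noncomputable def cc (K L : Subgroup G) (y : G) : ℕ :=
  Nat.card {w : L // (w : G) * y * (w : G)⁻¹ * y⁻¹ ∈ K}

theorem cc_eq_card_filter (K L : Subgroup G) [Fintype L] (y : G)
    [DecidablePred (fun w : L => (w : G) * y * (w : G)⁻¹ * y⁻¹ ∈ K)] :
    cc K L y = (Finset.univ.filter (fun w : L => (w : G) * y * (w : G)⁻¹ * y⁻¹ ∈ K)).card := by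
  unfold cc
  rw [Nat.card_eq_fintype_card, Fintype.card_subtype]

theorem cc_pos [Finite G] (K L : Subgroup G) (y : G) : 0 < cc K L y := by
  unfold cc
  have : Nonempty {w : L // (w : G) * y * (w : G)⁻¹ * y⁻¹ ∈ K} :=
    ⟨⟨1, by simp⟩⟩
  exact Nat.card_pos

theorem cc_le [Finite G] (K L : Subgroup G) (y : G) : cc K L y ≤ Nat.card L := by
  unfold cc
  exact Nat.card_le_card_of_injective _ Subtype.val_injective

theorem cc_one (K L : Subgroup G) : cc K L 1 = Nat.card L := by
  unfold cc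
  apply Nat.card_congr
  exact Equiv.subtypeUnivEquiv (fun w => by simp)

theorem card_map_mk [Finite G] (K L : Subgroup G) [hK : K.Normal] (hKL : K ≤ L) :
    Nat.card (L.map (QuotientGroup.mk' K)) = K.relIndex L := by
  have hpre : (QuotientGroup.mk : G → G ⧸ K) ⁻¹' ((L.map (QuotientGroup.mk' K) : Subgroup (G ⧸ K)) : Set (G ⧸ K))
      = (L : Set G) := by
    ext x
    simp only [Set.mem_preimage, SetLike.mem_coe, Subgroup.mem_map]
    constructor
    · rintro ⟨l, hl, hlx⟩
      have h1 : l⁻¹ * x ∈ K := QuotientGroup.eq.mp hlx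
      have h2 : x = l * (l⁻¹ * x) := by group
      rw [h2]
      exact L.mul_mem hl (hKL h1)
    · intro hx
      exact ⟨x, hx, rfl⟩
  have hcard := QuotientGroup.card_preimage_mk K
    ((L.map (QuotientGroup.mk' K) : Subgroup (G ⧸ K)) : Set (G ⧸ K))
  rw [hpre] at hcard
  have h2 := Cfsg.Agent.Lib.Helper76.PSolv.card_eq_card_mul_relIndex hKL
  have hKpos : 0 < Nat.card K := Nat.card_pos
  have h3 : Nat.card K * Nat.card (L.map (QuotientGroup.mk' K)) = Nat.card K * K.relIndex L := by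
    rw [← h2]
    exact hcard.symm
  exact Nat.eq_of_mul_eq_mul_left hKpos h3

/-- Schur–Zassenhaus inside a coset. -/
theorem sz_coset [Finite G] (p : ℕ) [Fact p.Prime] (K L : Subgroup G) [hK : K.Normal]
    [hL : L.Normal] (hKL : K ≤ L) (m : ℕ) (hidx : K.relIndex L = p ^ m) (y : G)
    (hy : ¬ p ∣ orderOf y) (l : G) (hl : l ∈ L) (hly : ¬ p ∣ orderOf (l * y)) :
    ∃ w ∈ L, w * (l * y) * w⁻¹ * y⁻¹ ∈ K := by
  have hp := (Fact.out : p.Prime)
  have hLn : (L.map (QuotientGroup.mk' K)).Normal :=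
    hL.map (QuotientGroup.mk' K) (QuotientGroup.mk'_surjective K)
  have hcard : Nat.card (L.map (QuotientGroup.mk' K)) = p ^ m := by
    rw [card_map_mk K L hKL, hidx]
  have hy1 : orderOf (QuotientGroup.mk' K y) ∣ orderOf y := orderOf_map_dvd _ y
  have hcopy : (orderOf (QuotientGroup.mk' K y)).Coprime p := by
    rw [Nat.coprime_comm, Nat.Prime.coprime_iff_not_dvd hp]
    exact fun h => hy (dvd_trans h hy1)
  have hord : (orderOf (QuotientGroup.mk' K y)).Coprime (Nat.card (L.map (QuotientGroup.mk' K))) := by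
    rw [hcard]
    exact Nat.Coprime.pow_right m hcopy
  obtain ⟨x, hx, c, hc, hcg, hxc⟩ := Cfsg.Agent.S1496.normal_case (L.map (QuotientGroup.mk' K))
    (QuotientGroup.mk' K y) hord (QuotientGroup.mk' K l) (Subgroup.mem_map_of_mem _ hl)
  have hc1 : c = 1 := by
    have h1 : orderOf c ∣ p ^ m := by
      rw [← hcard]
      exact Subgroup.orderOf_dvd_natCard _ hc
    obtain ⟨j, -, hj⟩ := (Nat.dvd_prime_pow hp).mp h1
    have hcop : (orderOf c).Coprime (orderOf (QuotientGroup.mk' K y)) := by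
      rw [hj]
      exact Nat.Coprime.pow_left j hcopy.symm
    have h2 : orderOf (c * QuotientGroup.mk' K y) = orderOf c * orderOf (QuotientGroup.mk' K y) :=
      Commute.orderOf_mul_eq_mul_orderOf_of_coprime hcg hcop
    have h3 : orderOf (c * QuotientGroup.mk' K y) = orderOf (QuotientGroup.mk' K (l * y)) := by
      rw [← hxc, map_mul]
      have := (MulAut.conj x).orderOf_eq (QuotientGroup.mk' K l * QuotientGroup.mk' K y)
      rw [MulAut.conj_apply] at this
      exact this
    have h4 : orderOf (QuotientGroup.mk' K (l * y)) ∣ orderOf (l * y) := orderOf_map_dvd _ _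
    have h5 : p ^ j ∣ orderOf (l * y) := by
      rw [← hj]
      exact dvd_trans (Dvd.intro _ (h2.symm.trans h3)) h4
    rcases Nat.eq_zero_or_pos j with h0 | h0
    · rw [h0, pow_zero] at hj
      exact orderOf_eq_one_iff.mp hj
    · exfalso
      exact hly (dvd_trans (dvd_pow_self p h0.ne') h5)
  obtain ⟨w, hw, rfl⟩ := hx
  refine ⟨w, hw, ?_⟩
  rw [← QuotientGroup.eq_one_iff]
  have h6 : ((w * (l * y) * w⁻¹ * y⁻¹ : G) : G ⧸ K)
      = QuotientGroup.mk' K w * (QuotientGroup.mk' K l * QuotientGroup.mk' K y)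
        * (QuotientGroup.mk' K w)⁻¹ * (QuotientGroup.mk' K y)⁻¹ := by
    simp
  rw [h6, hxc, hc1]
  group

/-- Counting over a coset of `L`: a function invariant under `L`-conjugation and vanishing on
`p`-singular elements. -/
theorem count [Fintype G] (p : ℕ) [Fact p.Prime] (K L : Subgroup G) [hK : K.Normal]
    [hL : L.Normal] [Fintype K] [Fintype L] (hKL : K ≤ L) (m : ℕ) (hidx : K.relIndex L = p ^ m)
    (y : G) (hy : ¬ p ∣ orderOf y) (g : G → ℂ)
    (hg1 : ∀ w ∈ L, ∀ x : G, g (w * x * w⁻¹) = g x)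
    (hg2 : ∀ x : G, p ∣ orderOf x → g x = 0) :
    (Fintype.card L : ℂ) * ∑ k : K, g ((k : G) * y)
      = (cc K L y : ℂ) * ∑ l : L, g ((l : G) * y) := by
  classical
  rw [cc_eq_card_filter]
  have hi : ∀ w : L, ∑ k : K, g ((k : G) * y)
      = ∑ l ∈ Finset.univ.filter (fun l : L => (w : G) * (l : G) * y * (w : G)⁻¹ * y⁻¹ ∈ K),
          g ((l : G) * y) := by
    intro w
    have hmem : ∀ k : K, (w : G)⁻¹ * (k : G) * (y * (w : G) * y⁻¹) ∈ L := fun k =>
      L.mul_mem (L.mul_mem (L.inv_mem w.2) (hKL k.2)) (hL.conj_mem _ w.2 y)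
    refine Finset.sum_bij' (fun k _ => (⟨(w : G)⁻¹ * (k : G) * (y * (w : G) * y⁻¹), hmem k⟩ : L))
      (fun l hl => (⟨(w : G) * (l : G) * y * (w : G)⁻¹ * y⁻¹, (Finset.mem_filter.mp hl).2⟩ : K))
      ?_ ?_ ?_ ?_ ?_
    · intro k _
      rw [Finset.mem_filter]
      refine ⟨Finset.mem_univ _, ?_⟩
      have e : (w : G) * ((w : G)⁻¹ * (k : G) * (y * (w : G) * y⁻¹)) * y * (w : G)⁻¹ * y⁻¹ = (k : G) := by
        group
      simp only
      rw [e]
      exact k.2
    · intro l _
      exact Finset.mem_univ _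
    · intro k _
      apply Subtype.ext
      simp only
      group
    · intro l _
      apply Subtype.ext
      simp only
      group
    · intro k _
      have e : (w : G)⁻¹ * (k : G) * (y * (w : G) * y⁻¹) * y
          = (w : G)⁻¹ * ((k : G) * y) * ((w : G)⁻¹)⁻¹ := by
        group
      simp only
      rw [e, hg1 _ (L.inv_mem w.2)]
  have hii : (Fintype.card L : ℂ) * ∑ k : K, g ((k : G) * y)
      = ∑ l : L, ((Finset.univ.filter
          (fun w : L => (w : G) * (l : G) * y * (w : G)⁻¹ * y⁻¹ ∈ K)).card : ℂ) * g ((l : G) * y) := by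
    have h1 : (Fintype.card L : ℂ) * ∑ k : K, g ((k : G) * y)
        = ∑ w : L, ∑ k : K, g ((k : G) * y) := by
      rw [Finset.sum_const, Finset.card_univ, nsmul_eq_mul]
    rw [h1, Finset.sum_congr rfl (fun w _ => hi w)]
    simp only [Finset.sum_filter]
    rw [Finset.sum_comm]
    apply Finset.sum_congr rfl
    intro l _
    rw [← Finset.sum_filter, Finset.sum_const, nsmul_eq_mul]
  rw [hii, Finset.mul_sum]
  apply Finset.sum_congr rfl
  intro l _
  by_cases hsing : p ∣ orderOf ((l : G) * y)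
  · rw [hg2 _ hsing, mul_zero, mul_zero]
  · congr 2
    obtain ⟨w₀, hw₀, hk₀⟩ := sz_coset p K L hKL m hidx y hy (l : G) l.2 hsing
    apply Finset.card_equiv (Equiv.mulRight (⟨w₀, hw₀⟩ : L)⁻¹)
    intro w
    rw [Finset.mem_filter, Finset.mem_filter]
    simp only [Finset.mem_univ, true_and, Equiv.coe_mulRight, Subgroup.coe_mul, Subgroup.coe_inv]
    have e : (w : G) * (l : G) * y * (w : G)⁻¹ * y⁻¹
        = ((w : G) * w₀⁻¹) * (w₀ * ((l : G) * y) * w₀⁻¹ * y⁻¹) * ((w : G) * w₀⁻¹)⁻¹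
          * ((w : G) * w₀⁻¹ * y * ((w : G) * w₀⁻¹)⁻¹ * y⁻¹) := by
      group
    rw [e]
    exact Subgroup.mul_mem_cancel_left K (hK.conj_mem _ hk₀ _)

/-- Hall–Higman: a `p`-regular element outside `O_{p'}(G)` does not centralize
`O_{p',p}(G) / O_{p'}(G)`. -/
theorem card_filter_lt [Fintype G] (p : ℕ) [Fact p.Prime] (hsolv : IsPSolvable p G)
    (K L : Subgroup G) (hKdef : K = pPrimeCore p G) (hLdef : L = pPrimePCore p G) [Fintype L]
    (y : G) (hy : ¬ p ∣ orderOf y) (hyK : y ∉ K) :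
    cc K L y < Fintype.card L := by
  classical
  rw [cc_eq_card_filter]
  have hp := (Fact.out : p.Prime)
  apply lt_of_le_of_ne (Finset.card_le_univ _)
  intro hcard
  have huniv := (Finset.card_eq_iff_eq_univ _).mp hcard
  have hall : ∀ w ∈ L, w * y * w⁻¹ * y⁻¹ ∈ K := by
    intro w hw
    have h1 : (⟨w, hw⟩ : L) ∈ Finset.univ.filter
        (fun w : L => (w : G) * y * (w : G)⁻¹ * y⁻¹ ∈ K) := by
      rw [huniv]
      exact Finset.mem_univ _
    exact (Finset.mem_filter.mp h1).2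
  apply hyK
  subst hKdef hLdef
  have hHH := Cfsg.Agent.Lib.Helper76.PSolv.centralizer_pCore_le p
    (Cfsg.Agent.Lib.Helper76.PSolv.isPSolvable_quotient p (pPrimeCore p G) hsolv)
    (Cfsg.Agent.Lib.Helper76.PSolv.pPrimeCore_quotient p)
  have hcent : QuotientGroup.mk' (pPrimeCore p G) y ∈
      Subgroup.centralizer (pCore p (G ⧸ pPrimeCore p G) : Set (G ⧸ pPrimeCore p G)) := by
    rw [Subgroup.mem_centralizer_iff]
    intro v hv
    obtain ⟨w, rfl⟩ := QuotientGroup.mk'_surjective (pPrimeCore p G) v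
    have hw : w ∈ pPrimePCore p G := hv
    have h1 := hall w hw
    rw [← QuotientGroup.eq_one_iff] at h1
    have h2 : ((w * y * w⁻¹ * y⁻¹ : G) : G ⧸ pPrimeCore p G)
        = QuotientGroup.mk' (pPrimeCore p G) w * QuotientGroup.mk' (pPrimeCore p G) y
          * (QuotientGroup.mk' (pPrimeCore p G) w)⁻¹ * (QuotientGroup.mk' (pPrimeCore p G) y)⁻¹ := by
      simp
    rw [h2] at h1
    have h3 := mul_inv_eq_one.mp h1
    exact (mul_inv_eq_iff_eq_mul.mp h3)
  have hmem := hHH hcent
  have hpg := Cfsg.Agent.Lib.Helper76.PSolv.pCore_isPGroup (G := G ⧸ pPrimeCore p G) p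
  obtain ⟨k, hk⟩ := hpg ⟨_, hmem⟩
  have hk' : (QuotientGroup.mk' (pPrimeCore p G) y) ^ (p ^ k) = 1 := by
    have := congrArg Subtype.val hk
    simpa using this
  have h1 : orderOf (QuotientGroup.mk' (pPrimeCore p G) y) ∣ p ^ k := orderOf_dvd_of_pow_eq_one hk'
  have h2 : orderOf (QuotientGroup.mk' (pPrimeCore p G) y) ∣ orderOf y := orderOf_map_dvd _ y
  obtain ⟨j, -, hj⟩ := (Nat.dvd_prime_pow hp).mp h1
  rcases Nat.eq_zero_or_pos j with h0 | h0
  · rw [h0, pow_zero] at hj
    have h3 := orderOf_eq_one_iff.mp hj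
    exact (QuotientGroup.eq_one_iff y).mp h3
  · exfalso
    apply hy
    rw [hj] at h2
    exact dvd_trans (dvd_pow_self p h0.ne') h2

end Cfsg.Agent.Lib.CT.KO2
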