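import Cfsg.Agent.Lib.CT.KO1
import Cfsg.Agent.Lib.CT.KO2
import Cfsg.Agent.S0867
import Cfsg.Agent.S0886
import Cfsg.Agent.Lib.Helper4.GlauDet
import Cfsg.Agent.Lib.Helper80.Integrality

/-!
# The core identity for the Kiyota–Okuyama theorem

* `exists_invariant_extension`: an invariant character of a normal `p'`-subgroup `K` has a
  `G`-invariant extension to `L ⊴ G` when `L / K` is a `p`-group.
* `exists_rep_extension`: an invariant character of `L ⊴ G` extends to a representation of a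
  subgroup containing `L` and a given element `y`.
* `core_identity`: for a weighted sum `F` of irreducible characters vanishing on `p`-singular
  elements and `y` a `p`-regular element, `cc K L y * F_θ̂(y) = |K| * F_θ(y)`.
-/

set_option autoImplicit false
open Cfsg

namespace Cfsg.Agent.Lib.CT.KO3

open Cfsg.Agent.Lib.Helper77.CentralChar Cfsg.Agent.Lib.Helper77.ClassSum
  Cfsg.Agent.Lib.Helper77.BlockIdem Cfsg.Agent.Lib.Helper16.Normal
  Cfsg.Agent.Lib.CT.Wedderburn Cfsg.Agent.Lib.CT.MatCoeff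
  Cfsg.Agent.Lib.Helper77.BPTransport Cfsg.Agent.Lib.Helper16.Transfer
  Cfsg.Agent.Lib.CT.KO1 Cfsg.Agent.Lib.CT.KO2
open scoped ComplexConjugate

universe u
variable {G : Type u} [Group G]

theorem detOrder_comp {A : Type u} [Group A] [Finite A] (c : A ≃* A) {χ : A → ℂ}
    (hχ : IsIrrCharacter A χ) : detOrder (fun x => χ (c x)) = detOrder χ := by
  unfold detOrder
  rw [Cfsg.Agent.S0863.detChar_comp_mulEquiv c hχ]
  let Φ : (A → ℂ) →* (A → ℂ) :=
    { toFun := fun f => fun x => f (c x)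
      map_one' := rfl
      map_mul' := fun _ _ => rfl }
  have hΦ : Function.Injective Φ := by
    intro f g h
    funext x
    have h1 := congrFun h (c.symm x)
    simpa [Φ] using h1
  exact orderOf_injective Φ hΦ (detChar χ)

theorem exists_invariant_extension [Finite G] (p : ℕ) [Fact p.Prime] (K L : Subgroup G)
    [hK : K.Normal] [hL : L.Normal] (hKL : K ≤ L) (hcop : ¬ p ∣ Nat.card K) (m : ℕ)
    (hidx : K.relIndex L = p ^ m) (θ : IrrCharacter K)
    (hinv : ∀ (g : G) (k : K),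
      (θ : K → ℂ) ⟨g * k * g⁻¹, hK.conj_mem k k.2 g⟩ = (θ : K → ℂ) k) :
    ∃ θh : IrrCharacter L, (∀ k : K, (θh : L → ℂ) ⟨(k : G), hKL k.2⟩ = (θ : K → ℂ) k) ∧
      ∀ (g : G) (l : L),
        (θh : L → ℂ) ⟨g * l * g⁻¹, hL.conj_mem l l.2 g⟩ = (θh : L → ℂ) l := by
  classical
  have hp := (Fact.out : p.Prime)
  have hnL : (K.subgroupOf L).Normal := inferInstance
  obtain ⟨θ', hθ'def⟩ : ∃ θ' : IrrCharacter (K.subgroupOf L), θ' = pull (sIso K L hKL) θ :=
    ⟨_, rfl⟩
  have hcard : Nat.card (K.subgroupOf L) = Nat.card K :=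
    Nat.card_congr (sIso K L hKL).toEquiv
  have hpN : Nat.Coprime p (Nat.card (K.subgroupOf L)) := by
    rw [hcard]
    exact (Nat.Prime.coprime_iff_not_dvd hp).mpr hcop
  have hd : (θ' : (K.subgroupOf L) → ℂ) 1 = (charDegree (θ' : (K.subgroupOf L) → ℂ) : ℂ) :=
    Cfsg.Agent.Lib.Helper80.Integrality.apply_one_eq_charDegree (isCharacter_of_irr θ'.2)
  have hcop' : Nat.Coprime (K.subgroupOf L).index
      (detOrder (θ' : (K.subgroupOf L) → ℂ) * charDegree (θ' : (K.subgroupOf L) → ℂ)) := by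
    have h1 : (K.subgroupOf L).index = p ^ m := hidx
    rw [h1]
    exact Nat.Coprime.pow_left m (Nat.Coprime.mul_right
      (Nat.Coprime.coprime_dvd_right (Cfsg.Agent.Lib.Helper4.GlauDet.detOrder_dvd_card θ'.2) hpN)
      (Nat.Coprime.coprime_dvd_right
        (Cfsg.Agent.Lib.Helper80.Integrality.charDegree_dvd_card θ') hpN))
  have hinv' : ∀ (a : L) (n : K.subgroupOf L),
      (θ' : (K.subgroupOf L) → ℂ) ⟨a * n * a⁻¹, hnL.conj_mem n n.2 a⟩
        = (θ' : (K.subgroupOf L) → ℂ) n := by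
    intro a n
    rw [hθ'def, pull_apply, pull_apply]
    have h1 := hinv a (sIso K L hKL n)
    rw [← h1]
    refine congrArg _ (Subtype.ext ?_)
    rw [coe_sIso]
    rfl
  obtain ⟨χ, ⟨hχ, hext, hdet⟩, huniq⟩ := Cfsg.Agent.S0867.result (K.subgroupOf L)
    (θ' : (K.subgroupOf L) → ℂ) θ'.2 hinv' (charDegree (θ' : (K.subgroupOf L) → ℂ)) hd hcop'
  refine ⟨⟨χ, hχ⟩, ?_, ?_⟩
  · intro k
    have h1 := hext ((sIso K L hKL).symm k)
    rw [hθ'def, pull_apply, MulEquiv.apply_symm_apply] at h1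
    rw [← h1]
    rfl
  · intro g l
    obtain ⟨c, hcdef⟩ : ∃ c : L ≃* L, c = MulAut.conjNormal g := ⟨_, rfl⟩
    have hc : ∀ x : L, c x = ⟨g * x * g⁻¹, hL.conj_mem (x : G) x.2 g⟩ := fun x => by
      rw [hcdef]
      exact Subtype.ext (MulAut.conjNormal_apply g x)
    have hχ' : IsIrrCharacter L (fun x => χ (c x)) :=
      Cfsg.Agent.Lib.CT.Ops.isIrrCharacter_comp_mulEquiv c hχ
    have hext' : ∀ n : K.subgroupOf L, (fun x => χ (c x)) n = (θ' : (K.subgroupOf L) → ℂ) n := by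
      intro n
      have hmem : c (n : L) ∈ K.subgroupOf L := by
        rw [Subgroup.mem_subgroupOf, hc]
        exact hK.conj_mem _ (Subgroup.mem_subgroupOf.mp n.2) g
      have h1 := hext ⟨c (n : L), hmem⟩
      show χ (c (n : L)) = _
      rw [h1, hθ'def, pull_apply, pull_apply]
      have h2 := hinv g (sIso K L hKL n)
      rw [← h2]
      refine congrArg _ (Subtype.ext ?_)
      rw [coe_sIso]
      show ((c (n : L) : L) : G) = _
      rw [hc]
      rfl
    have hdet' : Nat.Coprime (K.subgroupOf L).index (detOrder (fun x => χ (c x))) := by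
      rw [detOrder_comp c hχ, hdet]
      exact Nat.Coprime.coprime_mul_right_right hcop'
    have h3 := huniq _ hχ' hext' hdet'
    have h4 : χ (c l) = χ l := congrFun h3 l
    show χ _ = χ l
    rw [← h4, hc]

theorem exists_rep_extension [Finite G] (L : Subgroup G) [hL : L.Normal] (θh : IrrCharacter L)
    (hinvh : ∀ (g : G) (l : L),
      (θh : L → ℂ) ⟨g * l * g⁻¹, hL.conj_mem l l.2 g⟩ = (θh : L → ℂ) l) (y : G) :
    ∃ (H : Subgroup G) (hLH : L ≤ H) (_ : y ∈ H) (d : ℕ) (R : Representation ℂ H (Fin d → ℂ)),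
      ∀ l : L, R.character ⟨(l : G), hLH l.2⟩ = (θh : L → ℂ) l := by
  classical
  obtain ⟨H, hHdef⟩ : ∃ H : Subgroup G, H = L ⊔ Subgroup.zpowers y := ⟨_, rfl⟩
  have hLH : L ≤ H := by
    rw [hHdef]
    exact le_sup_left
  have hyH : y ∈ H := by
    rw [hHdef]
    exact (le_sup_right : Subgroup.zpowers y ≤ L ⊔ Subgroup.zpowers y) (Subgroup.mem_zpowers y)
  have hnH : (L.subgroupOf H).Normal := inferInstance
  have hcyc : IsCyclic (H ⧸ L.subgroupOf H) := by
    refine ⟨⟨QuotientGroup.mk (⟨y, hyH⟩ : H), ?_⟩⟩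
    intro q
    obtain ⟨h, rfl⟩ := QuotientGroup.mk_surjective q
    have hh : (h : G) ∈ L ⊔ Subgroup.zpowers y := by
      rw [← hHdef]
      exact h.2
    obtain ⟨l, hl, z, hz, hlz⟩ := Subgroup.mem_sup_of_normal_left.mp hh
    obtain ⟨i, rfl⟩ := Subgroup.mem_zpowers_iff.mp hz
    refine ⟨i, ?_⟩
    show (QuotientGroup.mk (⟨y, hyH⟩ : H) : H ⧸ L.subgroupOf H) ^ i = QuotientGroup.mk h
    have e : h = (⟨l, hLH hl⟩ : H) * (⟨y, hyH⟩ : H) ^ i := by
      apply Subtype.ext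
      rw [Subgroup.coe_mul, Subgroup.coe_zpow]
      exact hlz.symm
    have h1 : (QuotientGroup.mk (⟨l, hLH hl⟩ : H) : H ⧸ L.subgroupOf H) = 1 := by
      rw [QuotientGroup.eq_one_iff, Subgroup.mem_subgroupOf]
      exact hl
    rw [e, QuotientGroup.mk_mul, h1, one_mul, QuotientGroup.mk_zpow]
  obtain ⟨θ'', hθ''def⟩ : ∃ θ'' : IrrCharacter (L.subgroupOf H), θ'' = pull (sIso L H hLH) θh :=
    ⟨_, rfl⟩
  have hinv'' : ∀ (a : H) (n : L.subgroupOf H),
      (θ'' : (L.subgroupOf H) → ℂ) ⟨a * n * a⁻¹, hnH.conj_mem n n.2 a⟩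
        = (θ'' : (L.subgroupOf H) → ℂ) n := by
    intro a n
    rw [hθ''def, pull_apply, pull_apply]
    have h1 := hinvh a (sIso L H hLH n)
    rw [← h1]
    refine congrArg _ (Subtype.ext ?_)
    rw [coe_sIso]
    rfl
  obtain ⟨χ, hχ, hext⟩ := Cfsg.Agent.S0886.result (L.subgroupOf H) hcyc
    (θ'' : (L.subgroupOf H) → ℂ) θ''.2 hinv''
  obtain ⟨d, R, hirr, hR⟩ := hχ
  refine ⟨H, hLH, hyH, d, R, fun l => ?_⟩
  rw [hR]
  have h1 := hext ((sIso L H hLH).symm l)
  rw [hθ''def, pull_apply, MulEquiv.apply_symm_apply] at h1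
  rw [← h1]
  rfl

theorem core_identity [Fintype G] [Fintype (IrrCharacter G)] (p : ℕ) [Fact p.Prime]
    (K L : Subgroup G) [hK : K.Normal] [hL : L.Normal] [Fintype K] [Fintype L] (hKL : K ≤ L)
    (m : ℕ) (hidx : K.relIndex L = p ^ m) (θ : IrrCharacter K) (θh : IrrCharacter L)
    (hext : ∀ k : K, (θh : L → ℂ) ⟨(k : G), hKL k.2⟩ = (θ : K → ℂ) k)
    (hinv : ∀ g : G, cI K hK g θ = θ) (hinvh : ∀ g : G, cI L hL g θh = θh)
    (a : IrrCharacter G → ℂ)
    (hsing : ∀ x : G, p ∣ orderOf x → ∑ χ : IrrCharacter G, a χ * (χ : G → ℂ) x = 0)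
    (y : G) (hy : ¬ p ∣ orderOf y) :
    (cc K L y : ℂ) * ∑ χ : IrrCharacter G,
        a χ * omega (χ : G → ℂ) (iota L (blockIdem ({θh} : Set (IrrCharacter L))))
          * (χ : G → ℂ) y
      = (Nat.card K : ℂ) * ∑ χ : IrrCharacter G,
        a χ * omega (χ : G → ℂ) (iota K (blockIdem ({θ} : Set (IrrCharacter K))))
          * (χ : G → ℂ) y := by
  classical
  obtain ⟨F, hFdef⟩ : ∃ F : G → ℂ, F = fun x => ∑ χ : IrrCharacter G, a χ * (χ : G → ℂ) x :=
    ⟨_, rfl⟩
  have hFcf : ∀ w x : G, F (w * x * w⁻¹) = F x := by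
    intro w x
    rw [hFdef]
    simp only
    apply Finset.sum_congr rfl
    intro χ _
    rw [char_isClassFunction (isCharacter_of_irr χ.2) x w]
  have hinvh' : ∀ (g : G) (l : L),
      (θh : L → ℂ) ⟨g * l * g⁻¹, hL.conj_mem l l.2 g⟩ = (θh : L → ℂ) l := by
    intro g l
    have h1 := congrArg (fun t : IrrCharacter L => (t : L → ℂ) l) (hinvh g)
    simp only [cI_apply] at h1
    exact h1
  obtain ⟨H, hLH, hyH, d, R, hR⟩ := exists_rep_extension L θh hinvh' y
  have hKH : K ≤ H := hKL.trans hLH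
  obtain ⟨σL, hσLdef⟩ : ∃ σL : Representation ℂ L (Fin d → ℂ),
      σL = MonoidHom.comp R (Subgroup.inclusion hLH) := ⟨_, rfl⟩
  obtain ⟨σK, hσKdef⟩ : ∃ σK : Representation ℂ K (Fin d → ℂ),
      σK = MonoidHom.comp R (Subgroup.inclusion hKH) := ⟨_, rfl⟩
  have hσL : ∀ l : L, σL l = R ⟨(l : G), hLH l.2⟩ := fun l => by rw [hσLdef]; rfl
  have hσK : ∀ k : K, σK k = R ⟨(k : G), hKH k.2⟩ := fun k => by rw [hσKdef]; rfl
  have hcharL : σL.character = (θh : L → ℂ) := by
    funext l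
    rw [← hR l]
    unfold Representation.character
    rw [hσL]
  have hcharK : σK.character = (θ : K → ℂ) := by
    funext k
    rw [← hext k, ← hR ⟨(k : G), hKL k.2⟩]
    unfold Representation.character
    rw [hσK]
  have hirrL : σL.IsIrreducible :=
    Cfsg.Agent.Lib.Helper15.DetChar.isIrreducible_of_isIrrCharacter σL
      (by rw [hcharL]; exact θh.2)
  have hirrK : σK.IsIrreducible :=
    Cfsg.Agent.Lib.Helper15.DetChar.isIrreducible_of_isIrrCharacter σK
      (by rw [hcharK]; exact θ.2)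
  have hd1 : (θh : L → ℂ) 1 = d := by
    rw [← hcharL, Representation.char_one]
    simp
  have hd2 : (θ : K → ℂ) 1 = d := by
    rw [← hcharK, Representation.char_one]
    simp
  have hd0 : (d : ℂ) ≠ 0 := by
    rw [← hd1]
    exact irr_apply_one_ne_zero θh.2
  have hcL := coset_identity L H hLH R σL hσL F (fun w x => hFcf w x) y hyH
  have hcK := coset_identity K H hKH R σK hσK F (fun w x => hFcf w x) y hyH
  have hpL := proj_sum L hL θh hinvh a y
  have hpK := proj_sum K hK θ hinv a y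
  obtain ⟨g, hgdef⟩ : ∃ g : G → ℂ,
      g = fun x => if hx : x ∈ H then F x * R.character (⟨x, hx⟩ : H)⁻¹ else 0 := ⟨_, rfl⟩
  have hg1 : ∀ w ∈ L, ∀ x : G, g (w * x * w⁻¹) = g x := by
    intro w hw x
    rw [hgdef]
    simp only
    by_cases hx : x ∈ H
    · have hx' : w * x * w⁻¹ ∈ H := H.mul_mem (H.mul_mem (hLH hw) hx) (H.inv_mem (hLH hw))
      rw [dif_pos hx, dif_pos hx', hFcf]
      congr 1
      have e : (⟨w * x * w⁻¹, hx'⟩ : H)⁻¹
          = (⟨w, hLH hw⟩ : H) * (⟨x, hx⟩ : H)⁻¹ * (⟨w, hLH hw⟩ : H)⁻¹ := by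
        apply Subtype.ext
        simp [mul_assoc]
      rw [e, Representation.char_conj]
    · have hx' : ¬ w * x * w⁻¹ ∈ H := by
        intro h
        apply hx
        have h2 := H.mul_mem (H.mul_mem (H.inv_mem (hLH hw)) h) (hLH hw)
        simpa [mul_assoc] using h2
      rw [dif_neg hx, dif_neg hx']
  have hg2 : ∀ x : G, p ∣ orderOf x → g x = 0 := by
    intro x hx
    rw [hgdef]
    simp only
    split_ifs with h
    · have h0 : F x = 0 := by
        rw [hFdef]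
        exact hsing x hx
      rw [h0, zero_mul]
    · rfl
  have hcount := count p K L hKL m hidx y hy g hg1 hg2
  have hgL : ∀ l : L, g ((l : G) * y)
      = F ((l : G) * y) * R.character (⟨(l : G) * y, H.mul_mem (hLH l.2) hyH⟩ : H)⁻¹ := by
    intro l
    rw [hgdef]
    simp only
    rw [dif_pos (H.mul_mem (hLH l.2) hyH)]
  have hgK : ∀ k : K, g ((k : G) * y)
      = F ((k : G) * y) * R.character (⟨(k : G) * y, H.mul_mem (hKH k.2) hyH⟩ : H)⁻¹ := by
    intro k
    rw [hgdef]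
    simp only
    rw [dif_pos (H.mul_mem (hKH k.2) hyH)]
  have hcardL : (Nat.card L : ℂ) ≠ 0 := Nat.cast_ne_zero.mpr Nat.card_pos.ne'
  have hcardK : (Nat.card K : ℂ) ≠ 0 := Nat.cast_ne_zero.mpr Nat.card_pos.ne'
  have eL : ∑ χ : IrrCharacter G,
        a χ * omega (χ : G → ℂ) (iota L (blockIdem ({θh} : Set (IrrCharacter L))))
          * (χ : G → ℂ) y
      = (Nat.card L : ℂ)⁻¹ * (R.character ⟨y, hyH⟩ * ∑ l : L, g ((l : G) * y)) := by
    rw [← hpL]
    have h1 : ∀ l : L, (Nat.card L : ℂ)⁻¹ * ((θh : L → ℂ) 1 * conj ((θh : L → ℂ) l))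
          * ∑ χ : IrrCharacter G, a χ * (χ : G → ℂ) ((l : G) * y)
        = (Nat.card L : ℂ)⁻¹ * d * (σL.character l⁻¹ * F ((l : G) * y)) := by
      intro l
      rw [hd1, hcharL, char_apply_inv (isCharacter_of_irr θh.2), hFdef]
      ring
    rw [Finset.sum_congr rfl (fun l _ => h1 l), ← Finset.mul_sum, hcL,
      Finset.sum_congr rfl (fun l _ => hgL l)]
    field_simp
  have eK : ∑ χ : IrrCharacter G,
        a χ * omega (χ : G → ℂ) (iota K (blockIdem ({θ} : Set (IrrCharacter K))))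
          * (χ : G → ℂ) y
      = (Nat.card K : ℂ)⁻¹ * (R.character ⟨y, hyH⟩ * ∑ k : K, g ((k : G) * y)) := by
    rw [← hpK]
    have h1 : ∀ k : K, (Nat.card K : ℂ)⁻¹ * ((θ : K → ℂ) 1 * conj ((θ : K → ℂ) k))
          * ∑ χ : IrrCharacter G, a χ * (χ : G → ℂ) ((k : G) * y)
        = (Nat.card K : ℂ)⁻¹ * d * (σK.character k⁻¹ * F ((k : G) * y)) := by
      intro k
      rw [hd2, hcharK, char_apply_inv (isCharacter_of_irr θ.2), hFdef]
      ring
    rw [Finset.sum_congr rfl (fun k _ => h1 k), ← Finset.mul_sum, hcK,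
      Finset.sum_congr rfl (fun k _ => hgK k)]
    field_simp
  rw [eL, eK]
  rw [← Nat.card_eq_fintype_card] at hcount
  have h3 : (cc K L y : ℂ) * ((Nat.card L : ℂ)⁻¹ *
      (R.character ⟨y, hyH⟩ * ∑ l : L, g ((l : G) * y)))
      = (Nat.card L : ℂ)⁻¹ * R.character ⟨y, hyH⟩ *
        ((cc K L y : ℂ) * ∑ l : L, g ((l : G) * y)) := by
    ring
  rw [h3, ← hcount]
  field_simp

end Cfsg.Agent.Lib.CT.KO3
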