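import Cfsg.Agent.Lib.CT.KO3
import Cfsg.Agent.Lib.CT.HtPS3
import Cfsg.Agent.Lib.Helper15.CliffTools
import Cfsg.Agent.Lib.Helper16.FR4
import Cfsg.Agent.Lib.CT.Orth

/-!
# The Kiyota–Okuyama theorem for `p`-solvable groups

`ko`: in a `p`-solvable group, a set `U` of irreducible characters such that `∑_{χ ∈ U} χ(1) χ`
vanishes on `p`-singular elements is a union of `p`-blocks.
-/

set_option autoImplicit false
open Cfsg

namespace Cfsg.Agent.Lib.CT.KO4

open Cfsg.Agent.Lib.Helper77.CentralChar Cfsg.Agent.Lib.Helper77.ClassSum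
  Cfsg.Agent.Lib.Helper77.BlockIdem Cfsg.Agent.Lib.Helper16.Normal
  Cfsg.Agent.Lib.CT.Wedderburn Cfsg.Agent.Lib.CT.MatCoeff
  Cfsg.Agent.Lib.Helper77.BPTransport Cfsg.Agent.Lib.Helper16.Transfer
  Cfsg.Agent.Lib.CT.KO1 Cfsg.Agent.Lib.CT.KO2 Cfsg.Agent.Lib.CT.KO3
  Cfsg.Agent.Lib.Helper77.LocalRing Cfsg.Agent.Lib.Helper16.ZR
  Cfsg.Agent.Lib.CT.DefectZeroBlock Cfsg.Agent.Lib.CT.HtPS1 Cfsg.Agent.Lib.CT.FongPS2
  Cfsg.Agent.Lib.Helper16.FR1 Cfsg.Agent.Lib.CT.Orth Cfsg.Agent.Lib.CT.FrobRec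
  Cfsg.Agent.Lib.CT.Clifford
open scoped ComplexConjugate

universe u
variable {G : Type u} [Group G]

/-- The weight `χ(1)` on the members of `U`, zero elsewhere. -/
noncomputable def wt (U : Set (IrrCharacter G)) (χ : IrrCharacter G) : ℂ :=
  U.indicator (fun χ : IrrCharacter G => (χ : G → ℂ) 1) χ

theorem wt_of_mem {U : Set (IrrCharacter G)} {χ : IrrCharacter G} (h : χ ∈ U) :
    wt U χ = (χ : G → ℂ) 1 := Set.indicator_of_mem h _

theorem wt_of_not_mem {U : Set (IrrCharacter G)} {χ : IrrCharacter G} (h : χ ∉ U) :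
    wt U χ = 0 := Set.indicator_of_notMem h _

theorem fsum_eq [Fintype (IrrCharacter G)] (U : Set (IrrCharacter G)) (x : G) :
    ∑ᶠ χ ∈ U, (χ : G → ℂ) 1 * (χ : G → ℂ) x
      = ∑ χ : IrrCharacter G, wt U χ * (χ : G → ℂ) x := by
  rw [finsum_mem_def, finsum_eq_sum_of_fintype]
  apply Finset.sum_congr rfl
  intro χ _
  by_cases h : χ ∈ U
  · rw [Set.indicator_of_mem h, wt_of_mem h]
  · rw [Set.indicator_of_notMem h, wt_of_not_mem h, zero_mul]

/-- Multiplying a `p`-singular element by an element of a normal `p'`-subgroup keeps it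
`p`-singular. -/
theorem sing_mul [Finite G] (p : ℕ) [Fact p.Prime] (K : Subgroup G) [hK : K.Normal]
    (hcop : ¬ p ∣ Nat.card K) (k : G) (hk : k ∈ K) (x : G) (hx : p ∣ orderOf x) :
    p ∣ orderOf (k * x) := by
  have hp := (Fact.out : p.Prime)
  by_contra hn
  have h1 : (k * x) ^ orderOf (k * x) = 1 := pow_orderOf_eq_one _
  have h2 : x ^ orderOf (k * x) ∈ K := by
    rw [← QuotientGroup.eq_one_iff]
    have e : ((k * x : G) : G ⧸ K) = (x : G ⧸ K) := by
      rw [QuotientGroup.mk_mul, (QuotientGroup.eq_one_iff k).mpr hk, one_mul]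
    rw [QuotientGroup.mk_pow, ← e, ← QuotientGroup.mk_pow, h1]
    rfl
  have h3 : (x ^ orderOf (k * x)) ^ Nat.card K = 1 := by
    have h4 := pow_card_eq_one' (G := K) (x := ⟨x ^ orderOf (k * x), h2⟩)
    have h5 := congrArg Subtype.val h4
    rw [Subgroup.coe_pow, Subgroup.coe_one] at h5
    exact h5
  rw [← pow_mul] at h3
  have h6 : orderOf x ∣ orderOf (k * x) * Nat.card K := orderOf_dvd_of_pow_eq_one h3
  rcases (Nat.Prime.dvd_mul hp).mp (dvd_trans hx h6) with h7 | h7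
  · exact hn h7
  · exact hcop h7

theorem pair_shift_incl {N T : Subgroup G} (hNT : N ≤ T) (ψ : T → ℂ) (a : MonoidAlgebra ℂ N)
    (t : T) :
    pair ψ (incl hNT a * MonoidAlgebra.single t 1)
      = pair (fun n : N => ψ (⟨(n : G), hNT n.2⟩ * t)) a := by
  induction a using MonoidAlgebra.induction_on with
  | of n =>
    rw [MonoidAlgebra.of_apply, incl_single, MonoidAlgebra.single_mul_single, pair_single,
      pair_single, mul_one]
  | add x z hx hz => rw [map_add, add_mul, pair_add, pair_add, hx, hz]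
  | smul r x hx => rw [map_smul, smul_mul_assoc, pair_smul, pair_smul, hx]

theorem proj_apply_incl [Finite G] (N : Subgroup G) [Fintype N] (hN : N.Normal) (T : Subgroup G)
    (hNT : N ≤ T) (ϑ : IrrCharacter N)
    (hT : ∀ g : G, g ∈ T ↔ ∀ θ ∈ ({ϑ} : Set (IrrCharacter N)),
      cI N hN g θ ∈ ({ϑ} : Set (IrrCharacter N)))
    (η : IrrCharacter T) (t : T) :
    ∑ n : N, (Nat.card N : ℂ)⁻¹ * ((ϑ : N → ℂ) 1 * conj ((ϑ : N → ℂ) n))
        * (η : T → ℂ) (⟨(n : G), hNT n.2⟩ * t)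
      = omega (η : T → ℂ) (incl hNT (blockIdem ({ϑ} : Set (IrrCharacter N))))
        * (η : T → ℂ) t := by
  have hc := incl_blockIdem_mem_center N hN T hNT ({ϑ} : Set (IrrCharacter N)) hT
  have h1 := pair_mul_center η.2 (incl hNT (blockIdem ({ϑ} : Set (IrrCharacter N))))
    (MonoidAlgebra.single t 1) hc
  rw [pair_shift_incl, pair_single, one_mul, pair_eq_sum] at h1
  rw [← h1]
  apply Finset.sum_congr rfl
  intro n _
  rw [coeff_blockIdem, KO1.blockCoeff_singleton]

/-- The core case: `θ` is `G`-invariant and all members of `U` lie over `θ`. -/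
theorem core [Fintype G] (p : ℕ) [Fact p.Prime] (hsolv : IsPSolvable p G) (K : Subgroup G)
    [hK : K.Normal] [Fintype K] (hKdef : K = pPrimeCore p G) (θ : IrrCharacter K)
    (hinv : ∀ g : G, cI K hK g θ = θ) (U : Set (IrrCharacter G))
    (hUθ : ∀ χ ∈ U, classInner (fun n : K => (χ : G → ℂ) n) (θ : K → ℂ) ≠ 0)
    (hU : ∀ x : G, p ∣ orderOf x → ∑ᶠ χ ∈ U, (χ : G → ℂ) 1 * (χ : G → ℂ) x = 0)
    (χ₀ : IrrCharacter G) (hχ₀ : χ₀ ∈ U) (ψ : IrrCharacter G)
    (hψ : classInner (fun n : K => (ψ : G → ℂ) n) (θ : K → ℂ) ≠ 0) : ψ ∈ U := by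
  classical
  have hp := (Fact.out : p.Prime)
  have := finite_irrCharacter G
  let _ : Fintype (IrrCharacter G) := Fintype.ofFinite _
  obtain ⟨L, hLdef⟩ : ∃ L : Subgroup G, L = pPrimePCore p G := ⟨_, rfl⟩
  have hLn : L.Normal := by
    rw [hLdef]
    exact Cfsg.Agent.Lib.Helper11.PConstr.pPrimePCore_normal p G
  let _ : Fintype L := Fintype.ofFinite _
  have hKL : K ≤ L := by
    rw [hKdef, hLdef]
    exact Cfsg.Agent.Lib.Helper11.PConstr.pPrimeCore_le_pPrimePCore p G
  obtain ⟨m, hm⟩ := relIndex_pPrimeCore (G := G) p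
  have hidx : K.relIndex L = p ^ m := by
    rw [hKdef, hLdef]
    exact hm
  have hcop : (Nat.card K).Coprime p := by
    rw [hKdef]
    exact Cfsg.Agent.Lib.Helper76.PSolv.pPrimeCore_coprime p
  have hndvd : ¬ p ∣ Nat.card K := fun h =>
    hp.one_lt.ne' (Nat.Coprime.eq_one_of_dvd hcop.symm h)
  have hinv' : ∀ (g : G) (k : K),
      (θ : K → ℂ) ⟨g * k * g⁻¹, hK.conj_mem k k.2 g⟩ = (θ : K → ℂ) k := by
    intro g k
    have h1 := congrArg (fun t : IrrCharacter K => (t : K → ℂ) k) (hinv g)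
    simp only [cI_apply] at h1
    exact h1
  obtain ⟨θh, hext, hinvh'⟩ := exists_invariant_extension p K L hKL hndvd m hidx θ hinv'
  have hinvh : ∀ g : G, cI L hLn g θh = θh := by
    intro g
    apply Subtype.ext
    funext l
    rw [cI_apply]
    exact hinvh' g l
  obtain ⟨a, hadef⟩ : ∃ a : IrrCharacter G → ℂ, a = wt U := ⟨_, rfl⟩
  obtain ⟨ωL, hωLdef⟩ : ∃ ωL : IrrCharacter G → ℂ, ωL = fun χ : IrrCharacter G =>
      omega (χ : G → ℂ) (iota L (blockIdem ({θh} : Set (IrrCharacter L)))) := ⟨_, rfl⟩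
  obtain ⟨F, hFdef⟩ : ∃ F : G → ℂ, F = fun x => ∑ χ : IrrCharacter G, a χ * (χ : G → ℂ) x :=
    ⟨_, rfl⟩
  obtain ⟨F₁, hF₁def⟩ : ∃ F₁ : G → ℂ,
      F₁ = fun x => ∑ χ : IrrCharacter G, a χ * ωL χ * (χ : G → ℂ) x := ⟨_, rfl⟩
  have hsing' : ∀ x : G, p ∣ orderOf x → ∑ χ : IrrCharacter G, a χ * (χ : G → ℂ) x = 0 := by
    intro x hx
    rw [hadef, ← fsum_eq]
    exact hU x hx
  have hsing : ∀ x : G, p ∣ orderOf x → F x = 0 := by
    intro x hx
    rw [hFdef]
    exact hsing' x hx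
  have hωK : ∀ χ : IrrCharacter G,
      a χ * omega (χ : G → ℂ) (iota K (blockIdem ({θ} : Set (IrrCharacter K)))) = a χ := by
    intro χ
    by_cases hχ : χ ∈ U
    · rw [omega_iota_blockIdem_of_exists K hK ({θ} : Set (IrrCharacter K))
        (gstable_singleton K hK θ hinv) χ ⟨θ, rfl, hUθ χ hχ⟩, mul_one]
    · rw [hadef, wt_of_not_mem hχ, zero_mul]
  have hωL01 : ∀ χ : IrrCharacter G, ωL χ = 0 ∨ ωL χ = 1 := by
    intro χ
    rw [hωLdef]
    simp only
    by_cases h : ∃ θ' ∈ ({θh} : Set (IrrCharacter L)),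
        classInner (fun n : L => (χ : G → ℂ) n) (θ' : L → ℂ) ≠ 0
    · right
      exact omega_iota_blockIdem_of_exists L hLn ({θh} : Set (IrrCharacter L))
        (gstable_singleton L hLn θh hinvh) χ h
    · left
      push Not at h
      exact omega_iota_blockIdem_of_forall L ({θh} : Set (IrrCharacter L)) χ h
  have hc : ∀ y : G, ¬ p ∣ orderOf y → (cc K L y : ℂ) * F₁ y = (Nat.card K : ℂ) * F y := by
    intro y hy
    have h1 := core_identity p K L hKL m hidx θ θh hext hinv hinvh a hsing' y hy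
    rw [hF₁def, hFdef, hωLdef]
    simp only
    rw [h1]
    congr 1
    apply Finset.sum_congr rfl
    intro χ _
    rw [hωK]
  have hconj1 : ∀ χ : IrrCharacter G, conj ((χ : G → ℂ) 1) = (χ : G → ℂ) 1 :=
    fun χ => irr_conj_apply_one χ
  have haa : ∀ χ : IrrCharacter G, a χ * conj (a χ) = a χ * (χ : G → ℂ) 1 := by
    intro χ
    rw [hadef]
    by_cases hχ : χ ∈ U
    · rw [wt_of_mem hχ, hconj1]
    · rw [wt_of_not_mem hχ, zero_mul, zero_mul]
  have hωconj : ∀ χ : IrrCharacter G, conj (ωL χ) = ωL χ := by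
    intro χ
    rcases hωL01 χ with h | h <;> rw [h] <;> simp
  have hFF : ∑ x : G, F x * conj (F x) = (Nat.card G : ℂ) * F 1 := by
    rw [hFdef]
    simp only
    rw [inner_sum a a]
    congr 1
    apply Finset.sum_congr rfl
    intro χ _
    exact haa χ
  have hFF₁ : ∑ x : G, F x * conj (F₁ x) = (Nat.card G : ℂ) * F₁ 1 := by
    rw [hFdef, hF₁def]
    simp only
    rw [inner_sum a (fun χ => a χ * ωL χ)]
    congr 1
    apply Finset.sum_congr rfl
    intro χ _
    rw [map_mul, hωconj, ← mul_assoc, haa]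
    ring
  have h1reg : ¬ p ∣ orderOf (1 : G) := by
    rw [orderOf_one]
    exact fun h => hp.one_lt.ne' (Nat.dvd_one.mp h)
  have hone : (Nat.card L : ℂ) * F₁ 1 = (Nat.card K : ℂ) * F 1 := by
    have h1 := hc 1 h1reg
    rwa [cc_one] at h1
  have hsum : ∑ x : G, ((Nat.card L : ℂ) * (F x * conj (F₁ x))
      - (Nat.card K : ℂ) * (F x * conj (F x))) = 0 := by
    rw [Finset.sum_sub_distrib, ← Finset.mul_sum, ← Finset.mul_sum, hFF, hFF₁]
    linear_combination (Nat.card G : ℂ) * hone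
  obtain ⟨r, hrdef⟩ : ∃ r : G → ℝ, r = fun x => (Nat.card K : ℝ)
      * (((Nat.card L : ℝ) - cc K L x) / cc K L x) * Complex.normSq (F x) := ⟨_, rfl⟩
  have hr0 : ∀ x : G, 0 ≤ r x := by
    intro x
    rw [hrdef]
    simp only
    have h1 : (cc K L x : ℝ) ≤ Nat.card L := by exact_mod_cast cc_le K L x
    have h2 : (0 : ℝ) < cc K L x := by exact_mod_cast cc_pos K L x
    have h3 : (0 : ℝ) ≤ Nat.card K := Nat.cast_nonneg _
    exact mul_nonneg (mul_nonneg h3 (div_nonneg (sub_nonneg.mpr h1) h2.le))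
      (Complex.normSq_nonneg _)
  have hterm : ∀ x : G, (Nat.card L : ℂ) * (F x * conj (F₁ x))
      - (Nat.card K : ℂ) * (F x * conj (F x)) = ((r x : ℝ) : ℂ) := by
    intro x
    by_cases hx : p ∣ orderOf x
    · rw [hrdef]
      simp only
      rw [hsing x hx]
      simp
    · have h1 := hc x hx
      have h2 : (cc K L x : ℂ) ≠ 0 := Nat.cast_ne_zero.mpr (cc_pos K L x).ne'
      have h3 : F₁ x = (Nat.card K : ℂ) / (cc K L x : ℂ) * F x := by
        rw [div_mul_eq_mul_div, eq_div_iff h2, mul_comm]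
        exact h1
      have h4 : F x * conj (F x) = ((Complex.normSq (F x) : ℝ) : ℂ) := Complex.mul_conj (F x)
      rw [h3, hrdef]
      simp only
      rw [map_mul, map_div₀, Complex.conj_natCast, Complex.conj_natCast]
      push_cast
      rw [← h4]
      field_simp
  have hrsum : ∑ x : G, r x = 0 := by
    have h1 : ((∑ x : G, r x : ℝ) : ℂ) = 0 := by
      rw [Complex.ofReal_sum, ← hsum]
      exact Finset.sum_congr rfl (fun x _ => (hterm x).symm)
    exact_mod_cast h1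
  have hrall : ∀ x : G, r x = 0 := fun x =>
    (Finset.sum_eq_zero_iff_of_nonneg (fun x _ => hr0 x)).mp hrsum x (Finset.mem_univ x)
  have hvan : ∀ x : G, x ∉ K → F x = 0 := by
    intro x hxK
    by_cases hx : p ∣ orderOf x
    · exact hsing x hx
    · have hlt := card_filter_lt p hsolv K L hKdef hLdef x hx hxK
      have h1 := hrall x
      rw [hrdef] at h1
      simp only at h1
      have hK0 : (0 : ℝ) < Nat.card K := by exact_mod_cast Nat.card_pos
      have hcc0 : (0 : ℝ) < cc K L x := by exact_mod_cast cc_pos K L x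
      have hlt' : (cc K L x : ℝ) < Nat.card L := by
        rw [Nat.card_eq_fintype_card]
        exact_mod_cast hlt
      have h2 : (Nat.card K : ℝ) * (((Nat.card L : ℝ) - cc K L x) / cc K L x) ≠ 0 :=
        (mul_pos hK0 (div_pos (sub_pos.mpr hlt') hcc0)).ne'
      have h3 := (mul_eq_zero.mp h1).resolve_left h2
      exact Complex.normSq_eq_zero.mp h3
  have hF1 : F 1 ≠ 0 := by
    have hnat : ∀ χ : IrrCharacter G, ∃ n : ℕ, 0 < n ∧ (χ : G → ℂ) 1 = n :=
      fun χ => irr_exists_apply_one_pos χ.2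
    choose n hnpos hn using hnat
    have h1 : F 1 = ((∑ χ : IrrCharacter G, (if χ ∈ U then n χ * n χ else 0) : ℕ) : ℂ) := by
      rw [hFdef]
      simp only
      rw [Nat.cast_sum]
      apply Finset.sum_congr rfl
      intro χ _
      rw [hadef]
      by_cases hχ : χ ∈ U
      · rw [wt_of_mem hχ, if_pos hχ, hn]
        push_cast
        ring
      · rw [wt_of_not_mem hχ, if_neg hχ]
        simp
    rw [h1]
    have h2 : 0 < ∑ χ : IrrCharacter G, (if χ ∈ U then n χ * n χ else 0) := by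
      apply Finset.sum_pos'
      · intro χ _
        exact Nat.zero_le _
      · exact ⟨χ₀, Finset.mem_univ _, by
          rw [if_pos hχ₀]
          exact Nat.mul_pos (hnpos χ₀) (hnpos χ₀)⟩
    exact_mod_cast h2.ne'
  have hθ1 : (θ : K → ℂ) 1 ≠ 0 := irr_apply_one_ne_zero θ.2
  have hres : ∀ χ : IrrCharacter G,
      classInner (fun n : K => (χ : G → ℂ) n) (θ : K → ℂ) ≠ 0 →
      ∀ k : K, (χ : G → ℂ) k = (χ : G → ℂ) 1 / (θ : K → ℂ) 1 * (θ : K → ℂ) k := by
    intro χ hχ k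
    obtain ⟨e, he0, he, -⟩ :=
      Cfsg.Agent.Lib.Helper15.CliffTools.restrict_eq_smul_of_invariant K hK χ.2 θ.2 hinv' hχ
    have h1 : (χ : G → ℂ) k = (e : ℂ) * (θ : K → ℂ) k := congrFun he k
    have h2 : (χ : G → ℂ) ((1 : K) : G) = (e : ℂ) * (θ : K → ℂ) 1 := congrFun he 1
    rw [Subgroup.coe_one] at h2
    rw [h1, h2]
    field_simp
  have hFK : ∀ k : K, F k = F 1 / (θ : K → ℂ) 1 * (θ : K → ℂ) k := by
    intro k
    rw [hFdef]
    simp only
    rw [Finset.sum_div, Finset.sum_mul]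
    apply Finset.sum_congr rfl
    intro χ _
    by_cases hχ : χ ∈ U
    · rw [hres χ (hUθ χ hχ) k]
      ring
    · rw [hadef, wt_of_not_mem hχ]
      ring
  have hinner : ∑ x : G, F x * conj ((ψ : G → ℂ) x) = (Nat.card G : ℂ) * a ψ := by
    have h1 := inner_sum a (fun χ => if χ = ψ then 1 else 0)
    have h2 : ∀ x : G, ∑ χ : IrrCharacter G, (if χ = ψ then (1 : ℂ) else 0) * (χ : G → ℂ) x
        = (ψ : G → ℂ) x := by
      intro x
      simp
    simp only [h2] at h1
    rw [hFdef]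
    simp only
    rw [h1]
    congr 1
    simp
  have hsplit : ∑ x : G, F x * conj ((ψ : G → ℂ) x)
      = ∑ k : K, F k * conj ((ψ : G → ℂ) k) := by
    rw [Cfsg.Agent.Lib.Helper15.CliffTools.sum_eq_sum_subgroup_add K, add_eq_left]
    apply Finset.sum_eq_zero
    intro x hx
    rw [hvan x (Finset.mem_filter.mp hx).2, zero_mul]
  have hKsum : ∑ k : K, F k * conj ((ψ : G → ℂ) k)
      = F 1 / (θ : K → ℂ) 1 * ((ψ : G → ℂ) 1 / (θ : K → ℂ) 1) * (Nat.card K : ℂ) := by
    have h1 : ∀ k : K, F k * conj ((ψ : G → ℂ) k)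
        = F 1 / (θ : K → ℂ) 1 * ((ψ : G → ℂ) 1 / (θ : K → ℂ) 1)
          * ((θ : K → ℂ) k * conj ((θ : K → ℂ) k)) := by
      intro k
      rw [hFK k, hres ψ hψ k, map_mul, map_div₀, hconj1 ψ, irr_conj_apply_one θ]
      ring
    rw [Finset.sum_congr rfl (fun k _ => h1 k), ← Finset.mul_sum,
      Cfsg.Agent.Lib.Helper15.CliffTools.sum_mul_conj_irr θ.2]
  by_contra hψU
  have ha0 : a ψ = 0 := by
    rw [hadef]
    exact wt_of_not_mem hψU
  rw [hsplit, hKsum, ha0, mul_zero] at hinner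
  have hψ1 : (ψ : G → ℂ) 1 ≠ 0 := irr_apply_one_ne_zero ψ.2
  have hK0 : (Nat.card K : ℂ) ≠ 0 := Nat.cast_ne_zero.mpr Nat.card_pos.ne'
  exact (mul_ne_zero (mul_ne_zero (div_ne_zero hF1 hθ1) (div_ne_zero hψ1 hθ1)) hK0) hinner

/-- The transfer of the vanishing condition to the stabilizer `T` of `θ`. -/
theorem stab_vanish [Fintype G] (p : ℕ) [Fact p.Prime] {M : Ideal AlgInt} (hMp : M.IsPrime)
    (K : Subgroup G) [hK : K.Normal] [Fintype K] (hndvd : ¬ p ∣ Nat.card K)
    (θ : IrrCharacter K) (hc : IsPBlock M ({θ} : Set (IrrCharacter K)))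
    (T : Subgroup G) [Fintype T] (hKT : K ≤ T)
    (hT : ∀ g : G, g ∈ T ↔ ∀ θ' ∈ ({θ} : Set (IrrCharacter K)),
      cI K hK g θ' ∈ ({θ} : Set (IrrCharacter K)))
    (U : Set (IrrCharacter G))
    (hU : ∀ x : G, p ∣ orderOf x → ∑ᶠ χ ∈ U, (χ : G → ℂ) 1 * (χ : G → ℂ) x = 0)
    (U' : Set (IrrCharacter T))
    (hU'def : U' = {ξ : IrrCharacter T | (∃ θ' ∈ ({θ} : Set (IrrCharacter K)),
      classInner (fun n : K => (ξ : T → ℂ) ⟨(n : G), hKT n.2⟩) (θ' : K → ℂ) ≠ 0) ∧
        ∃ χ' ∈ U, (χ' : G → ℂ) = indFun T (ξ : T → ℂ)})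
    (t : T) (ht : p ∣ orderOf t) :
    ∑ᶠ ξ ∈ U', (ξ : T → ℂ) 1 * (ξ : T → ℂ) t = 0 := by
  classical
  have := finite_irrCharacter G
  let _ : Fintype (IrrCharacter G) := Fintype.ofFinite _
  have := finite_irrCharacter T
  let _ : Fintype (IrrCharacter T) := Fintype.ofFinite _
  rw [fsum_eq]
  have ht' : p ∣ orderOf (t : G) := by
    rw [Subgroup.orderOf_coe]
    exact ht
  -- the sum `A`
  have hA0 : ∑ k : K, (Nat.card K : ℂ)⁻¹ * ((θ : K → ℂ) 1 * conj ((θ : K → ℂ) k))
      * ∑ χ : IrrCharacter G, wt U χ * (χ : G → ℂ) ((k : G) * (t : G)) = 0 := by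
    apply Finset.sum_eq_zero
    intro k _
    have h3 : ∑ χ : IrrCharacter G, wt U χ * (χ : G → ℂ) ((k : G) * (t : G)) = 0 := by
      rw [← fsum_eq]
      exact hU _ (sing_mul p K hndvd k k.2 (t : G) ht')
    rw [h3, mul_zero]
  -- expansion of each `χ` along `T`
  have hB : ∀ χ : IrrCharacter G,
      ∑ k : K, (Nat.card K : ℂ)⁻¹ * ((θ : K → ℂ) 1 * conj ((θ : K → ℂ) k))
        * (χ : G → ℂ) ((k : G) * (t : G))
      = ∑ η : IrrCharacter T, classInner (fun t : T => (χ : G → ℂ) t) (η : T → ℂ)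
          * (omega (η : T → ℂ) (incl hKT (blockIdem ({θ} : Set (IrrCharacter K))))
            * (η : T → ℂ) t) := by
    intro χ
    have h1 : ∀ k : K, (Nat.card K : ℂ)⁻¹ * ((θ : K → ℂ) 1 * conj ((θ : K → ℂ) k))
          * (χ : G → ℂ) ((k : G) * (t : G))
        = ∑ η : IrrCharacter T, classInner (fun t : T => (χ : G → ℂ) t) (η : T → ℂ)
            * ((Nat.card K : ℂ)⁻¹ * ((θ : K → ℂ) 1 * conj ((θ : K → ℂ) k))
              * (η : T → ℂ) (⟨(k : G), hKT k.2⟩ * t)) := by
      intro k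
      have h2 := classFunction_expand_sum (fun t : T => (χ : G → ℂ) t)
        (restrict_isClassFunction T (irr_isClassFunction χ)) (⟨(k : G), hKT k.2⟩ * t)
      have h3 : (χ : G → ℂ) ((k : G) * (t : G))
          = (χ : G → ℂ) (((⟨(k : G), hKT k.2⟩ * t : T) : T) : G) := rfl
      rw [h3, h2, Finset.mul_sum]
      apply Finset.sum_congr rfl
      intro η _
      ring
    rw [Finset.sum_congr rfl (fun k _ => h1 k), Finset.sum_comm]
    apply Finset.sum_congr rfl
    intro η _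
    rw [← Finset.mul_sum, proj_apply_incl K hK T hKT θ hT η t]
  -- the coefficient of each `η`
  have hcoef : ∀ η : IrrCharacter T,
      (∑ χ : IrrCharacter G, wt U χ * classInner (fun t : T => (χ : G → ℂ) t) (η : T → ℂ))
        * omega (η : T → ℂ) (incl hKT (blockIdem ({θ} : Set (IrrCharacter K))))
      = (T.index : ℂ) * wt U' η := by
    intro η
    by_cases hcov : ∃ θ' ∈ ({θ} : Set (IrrCharacter K)),
        classInner (fun n : K => (η : T → ℂ) ⟨(n : G), hKT n.2⟩) (θ' : K → ℂ) ≠ 0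
    · rw [(omega_incl_blockIdem_eq_one_iff K hK T hKT ({θ} : Set (IrrCharacter K)) hT η).mpr hcov,
        mul_one]
      obtain ⟨χη, hχη, -, -, -⟩ := Cfsg.Agent.Lib.Helper16.FR2.induced_irr K hK T hKT
        ({θ} : Set (IrrCharacter K)) hMp hc hT η hcov
      have h1 : ∀ χ : IrrCharacter G, classInner (fun t : T => (χ : G → ℂ) t) (η : T → ℂ)
          = if χ = χη then 1 else 0 := by
        intro χ
        rw [← frobenius_reciprocity' T (η : T → ℂ) (χ : G → ℂ) (irr_isClassFunction χ), ← hχη]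
        exact irr_orthonormal χ χη
      simp only [h1]
      rw [Finset.sum_eq_single χη]
      · rw [if_pos rfl, mul_one]
        by_cases hmem : χη ∈ U
        · have hη : η ∈ U' := by
            rw [hU'def]
            exact ⟨hcov, χη, hmem, hχη⟩
          rw [wt_of_mem hmem, wt_of_mem hη, hχη, indFun_one]
        · have hη : η ∉ U' := by
            rw [hU'def]
            rintro ⟨-, χ', hχ'U, hχ'⟩
            apply hmem
            have e : χ' = χη := Subtype.ext (hχ'.trans hχη.symm)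
            rw [← e]
            exact hχ'U
          rw [wt_of_not_mem hmem, wt_of_not_mem hη, mul_zero]
      · intro χ _ hχ
        rw [if_neg hχ, mul_zero]
      · intro h
        exact absurd (Finset.mem_univ _) h
    · have h0 : omega (η : T → ℂ) (incl hKT (blockIdem ({θ} : Set (IrrCharacter K)))) = 0 := by
        rcases omega_incl_blockIdem_zero_or_one K hK T hKT ({θ} : Set (IrrCharacter K)) hT η
          with h | h
        · exact h
        · exact absurd ((omega_incl_blockIdem_eq_one_iff K hK T hKT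
            ({θ} : Set (IrrCharacter K)) hT η).mp h) hcov
      have hη : η ∉ U' := by
        rw [hU'def]
        rintro ⟨h, -⟩
        exact hcov h
      rw [h0, mul_zero, wt_of_not_mem hη, mul_zero]
  -- assemble
  have hA1 : ∑ k : K, (Nat.card K : ℂ)⁻¹ * ((θ : K → ℂ) 1 * conj ((θ : K → ℂ) k))
      * ∑ χ : IrrCharacter G, wt U χ * (χ : G → ℂ) ((k : G) * (t : G))
      = (T.index : ℂ) * ∑ η : IrrCharacter T, wt U' η * (η : T → ℂ) t := by
    have h1 : ∑ k : K, (Nat.card K : ℂ)⁻¹ * ((θ : K → ℂ) 1 * conj ((θ : K → ℂ) k))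
        * ∑ χ : IrrCharacter G, wt U χ * (χ : G → ℂ) ((k : G) * (t : G))
        = ∑ χ : IrrCharacter G, wt U χ
          * ∑ k : K, (Nat.card K : ℂ)⁻¹ * ((θ : K → ℂ) 1 * conj ((θ : K → ℂ) k))
            * (χ : G → ℂ) ((k : G) * (t : G)) := by
      simp only [Finset.mul_sum]
      rw [Finset.sum_comm]
      apply Finset.sum_congr rfl
      intro χ _
      apply Finset.sum_congr rfl
      intro k _
      ring
    rw [h1, Finset.sum_congr rfl (fun χ _ => by rw [hB χ])]
    simp only [Finset.mul_sum]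
    rw [Finset.sum_comm]
    apply Finset.sum_congr rfl
    intro η _
    have h5 : ∑ χ : IrrCharacter G, wt U χ
          * (classInner (fun t : T => (χ : G → ℂ) t) (η : T → ℂ)
            * (omega (η : T → ℂ) (incl hKT (blockIdem ({θ} : Set (IrrCharacter K))))
              * (η : T → ℂ) t))
        = (∑ χ : IrrCharacter G, wt U χ * classInner (fun t : T => (χ : G → ℂ) t) (η : T → ℂ))
          * omega (η : T → ℂ) (incl hKT (blockIdem ({θ} : Set (IrrCharacter K))))
          * (η : T → ℂ) t := by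
      rw [Finset.sum_mul, Finset.sum_mul]
      apply Finset.sum_congr rfl
      intro χ _
      ring
    rw [h5, hcoef η]
    ring
  rw [hA1] at hA0
  have hidx : (T.index : ℂ) ≠ 0 := by
    exact_mod_cast (Subgroup.index_ne_zero_of_finite (H := T))
  exact (mul_eq_zero.mp hA0).resolve_left hidx

theorem ko_aux (p : ℕ) [Fact p.Prime] (M : Ideal AlgInt) (hM : IsPModular p M) :
    ∀ (n : ℕ) (G : Type u) [Group G] [Fintype G], Nat.card G = n → IsPSolvable p G →
      ∀ (U : Set (IrrCharacter G)),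
        (∀ x : G, p ∣ orderOf x → ∑ᶠ χ ∈ U, (χ : G → ℂ) 1 * (χ : G → ℂ) x = 0) →
        ∀ χ : IrrCharacter G, χ ∈ U → ∀ ψ : IrrCharacter G,
          SameBlock M (χ : G → ℂ) (ψ : G → ℂ) → ψ ∈ U := by
  intro n
  induction n using Nat.strong_induction_on with
  | _ n ih =>
    intro G _ _ hn hsolv U hU χ hχ ψ hψ
    classical
    have hMp := isPrime_of_isPModular hM
    have hp := (Fact.out : p.Prime)
    have := finite_irrCharacter G
    let _ : Fintype (IrrCharacter G) := Fintype.ofFinite _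
    obtain ⟨K, hKdef⟩ : ∃ K : Subgroup G, K = pPrimeCore p G := ⟨_, rfl⟩
    have hKn : K.Normal := by
      rw [hKdef]
      infer_instance
    let _ : Fintype K := Fintype.ofFinite _
    obtain ⟨θ, hθ⟩ := Cfsg.Agent.Lib.Helper16.Cover.exists_constituent K χ
    have hcop : (Nat.card K).Coprime p := by
      rw [hKdef]
      exact Cfsg.Agent.Lib.Helper76.PSolv.pPrimeCore_coprime p
    have hndvd : ¬ p ∣ Nat.card K := fun h =>
      hp.one_lt.ne' (Nat.Coprime.eq_one_of_dvd hcop.symm h)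
    have hc0 : blockOf M (θ : K → ℂ) = {θ} := by
      apply blockOf_eq_singleton_of_defect_zero hM θ
      have h1 : (Nat.card K).factorization p = 0 := Nat.factorization_eq_zero_of_not_dvd hndvd
      have h2 := factorization_charDegree_le p θ
      omega
    have hc : IsPBlock M ({θ} : Set (IrrCharacter K)) := by
      rw [← hc0]
      exact Cfsg.Agent.Lib.Helper16.ZR.isPBlock_blockOf θ
    obtain ⟨T, hT⟩ := Cfsg.Agent.Lib.Helper16.Reynolds.exists_stab K hKn
      ({θ} : Set (IrrCharacter K))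
    have hKT : K ≤ T := by
      intro g hg
      rw [hT]
      intro θ' hθ'
      rw [Set.mem_singleton_iff] at hθ' ⊢
      rw [hθ']
      exact Cfsg.Agent.Lib.Helper16.ExtFirst2.cI_of_mem K hKn g hg θ
    have hBχ : IsPBlock M (blockOf M (χ : G → ℂ)) :=
      Cfsg.Agent.Lib.Helper16.ZR.isPBlock_blockOf χ
    have hχB : χ ∈ blockOf M (χ : G → ℂ) := mem_blockOf_self hMp χ
    have hψB : ψ ∈ blockOf M (χ : G → ℂ) := hψ
    by_cases hTtop : T = ⊤
    · -- `θ` is `G`-invariant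
      have hcI : ∀ g : G, cI K hKn g θ = θ := by
        intro g
        have hg : g ∈ T := by
          rw [hTtop]
          trivial
        exact (hT g).mp hg θ rfl
      have hinv : ∀ (g : G) (n : K),
          (θ : K → ℂ) ⟨g * n * g⁻¹, hKn.conj_mem n n.2 g⟩ = (θ : K → ℂ) n := by
        intro g n
        have h1 := congrArg (fun t : IrrCharacter K => (t : K → ℂ) n) (hcI g)
        simp only [cI_apply] at h1
        exact h1
      obtain ⟨B₀, hB₀, hmem, -, -⟩ := fong_psolvable p hM hsolv K hKdef θ hinv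
      have hχB₀ : χ ∈ B₀ := (hmem χ).mpr hθ
      have hψB₀ : ψ ∈ B₀ := by
        rw [isPBlock_eq_blockOf hMp hB₀ hχB₀]
        exact hψ
      have hψθ := (hmem ψ).mp hψB₀
      obtain ⟨U₁, hU₁def⟩ : ∃ U₁ : Set (IrrCharacter G), U₁ = {χ' : IrrCharacter G | χ' ∈ U ∧
          classInner (fun n : K => (χ' : G → ℂ) n) (θ : K → ℂ) ≠ 0} := ⟨_, rfl⟩
      have hU₁ : ∀ x : G, p ∣ orderOf x →
          ∑ᶠ χ' ∈ U₁, (χ' : G → ℂ) 1 * (χ' : G → ℂ) x = 0 := by
        intro x hx
        rw [fsum_eq]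
        have h1 := proj_sum K hKn θ hcI (wt U) x
        have h2 : ∀ χ' : IrrCharacter G, wt U χ'
            * omega (χ' : G → ℂ) (iota K (blockIdem ({θ} : Set (IrrCharacter K)))) = wt U₁ χ' := by
          intro χ'
          by_cases h : classInner (fun n : K => (χ' : G → ℂ) n) (θ : K → ℂ) = 0
          · rw [omega_iota_blockIdem_of_forall K ({θ} : Set (IrrCharacter K)) χ' (by
              intro θ' hθ'
              rw [Set.mem_singleton_iff] at hθ'
              rw [hθ']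
              exact h), mul_zero]
            rw [wt_of_not_mem (by rw [hU₁def]; exact fun h' => h'.2 h)]
          · rw [omega_iota_blockIdem_of_exists K hKn ({θ} : Set (IrrCharacter K))
              (gstable_singleton K hKn θ hcI) χ' ⟨θ, rfl, h⟩, mul_one]
            by_cases hχ' : χ' ∈ U
            · rw [wt_of_mem hχ', wt_of_mem (by rw [hU₁def]; exact ⟨hχ', h⟩)]
            · rw [wt_of_not_mem hχ', wt_of_not_mem (by rw [hU₁def]; exact fun h' => hχ' h'.1)]
        rw [Finset.sum_congr rfl (fun χ' _ => by rw [← h2 χ']), ← h1]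
        apply Finset.sum_eq_zero
        intro k _
        have h3 : ∑ χ' : IrrCharacter G, wt U χ' * (χ' : G → ℂ) ((k : G) * x) = 0 := by
          rw [← fsum_eq]
          exact hU _ (sing_mul p K hndvd k k.2 x hx)
        rw [h3, mul_zero]
      have hfin := core p hsolv K hKdef θ hcI U₁ (fun χ' h => by rw [hU₁def] at h; exact h.2)
        hU₁ χ (by rw [hU₁def]; exact ⟨hχ, hθ⟩) ψ hψθ
      rw [hU₁def] at hfin
      exact hfin.1
    · -- Fong–Reynolds reduction to the stabilizer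
      let _ : Fintype T := Fintype.ofFinite _
      have hlt : Nat.card T < Nat.card G := by
        apply lt_of_le_of_ne (Subgroup.card_le_card_group T)
        intro h
        exact hTtop ((Subgroup.card_eq_iff_eq_top T).mp h)
      obtain ⟨U', hU'def⟩ : ∃ U' : Set (IrrCharacter T),
          U' = {ξ : IrrCharacter T | (∃ θ' ∈ ({θ} : Set (IrrCharacter K)),
            classInner (fun n : K => (ξ : T → ℂ) ⟨(n : G), hKT n.2⟩) (θ' : K → ℂ) ≠ 0) ∧
              ∃ χ' ∈ U, (χ' : G → ℂ) = indFun T (ξ : T → ℂ)} := ⟨_, rfl⟩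
      have hU' : ∀ t : T, p ∣ orderOf t → ∑ᶠ ξ ∈ U', (ξ : T → ℂ) 1 * (ξ : T → ℂ) t = 0 :=
        fun t ht => stab_vanish p hMp K hndvd θ hc T hKT hT U hU U' hU'def t ht
      have hcovB : ∃ χ' ∈ blockOf M (χ : G → ℂ), ∃ θ' ∈ ({θ} : Set (IrrCharacter K)),
          classInner (fun n : K => (χ' : G → ℂ) n) (θ' : K → ℂ) ≠ 0 := ⟨χ, hχB, θ, rfl, hθ⟩
      obtain ⟨B', hB', hcov', hind⟩ := Cfsg.Agent.Lib.Helper16.FR4.fr_surjective K hKn T hKT
        ({θ} : Set (IrrCharacter K)) p hM hc hT (blockOf M (χ : G → ℂ)) hBχ hcovB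
      obtain ⟨B₁, hind₁, -, -, hmem₁⟩ := Cfsg.Agent.Lib.Helper16.FR4.fr_induced K hKn T hKT
        ({θ} : Set (IrrCharacter K)) p hM hc hT B' hB' hcov'
      have hBB₁ : B₁ = blockOf M (χ : G → ℂ) :=
        Cfsg.Agent.Lib.CT.PrincipalSection.isInducedBlock_unique hMp T B' B₁ _ hind₁ hind
      rw [hBB₁] at hmem₁
      obtain ⟨ξ, hξ, hχξ⟩ := (hmem₁ χ).mp hχB
      obtain ⟨ξ', hξ', hψξ'⟩ := (hmem₁ ψ).mp hψB
      have hbR : ∀ n : K, MemLocalRing M (blockCoeff ({θ} : Set (IrrCharacter K)) n) :=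
        fun n => blockCoeff_memLocalRing p M hM _ hc n
      obtain ⟨ψ₀, hψ₀B, hψ₀⟩ := hcov'
      have hξcov := covers_of_sameBlock K hKn T hKT ({θ} : Set (IrrCharacter K)) hMp hT hbR ψ₀ ξ
        (sameBlock_of_mem hMp hB' hψ₀B hξ) hψ₀
      have hξU' : ξ ∈ U' := by
        rw [hU'def]
        exact ⟨hξcov, χ, hχ, hχξ⟩
      have hs : SameBlock M (ξ : T → ℂ) (ξ' : T → ℂ) := sameBlock_of_mem hMp hB' hξ hξ'
      have hξ'U' := ih (Nat.card T) (hn ▸ hlt) ↥T rfl (isPSolvable_subgroup p T hsolv) U' hU'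
        ξ hξU' ξ' hs
      rw [hU'def] at hξ'U'
      obtain ⟨-, χ', hχ'U, hχ'ξ'⟩ := hξ'U'
      have e : ψ = χ' := Subtype.ext (hψξ'.trans hχ'ξ'.symm)
      rw [e]
      exact hχ'U

/-- **Kiyota–Okuyama** for `p`-solvable groups. -/
theorem ko {G : Type u} [Group G] [Finite G] (p : ℕ) [Fact p.Prime] (M : Ideal AlgInt)
    (hM : IsPModular p M) (hsolv : IsPSolvable p G) (U : Set (IrrCharacter G))
    (hU : ∀ x : G, p ∣ orderOf x → ∑ᶠ χ ∈ U, (χ : G → ℂ) 1 * (χ : G → ℂ) x = 0)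
    (χ : IrrCharacter G) (hχ : χ ∈ U) (ψ : IrrCharacter G)
    (hψ : SameBlock M (χ : G → ℂ) (ψ : G → ℂ)) : ψ ∈ U := by
  classical
  let _ : Fintype G := Fintype.ofFinite G
  exact ko_aux p M hM (Nat.card G) G rfl hsolv U hU χ hχ ψ hψ

end Cfsg.Agent.Lib.CT.KO4
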