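import Cfsg.Agent.Lib.CT.KnUtil
import Cfsg.Agent.Lib.CT.Clifford
import Cfsg.Agent.S0886
import Cfsg.Agent.Lib.Helper25.CliffordCorr2
import Cfsg.Agent.Lib.Helper3.TDBasic
import Cfsg.Agent.Lib.Helper78.CliffordCorr
import Cfsg.Agent.Lib.Helper16.Cover4
import Cfsg.Agent.Lib.Helper16.Transfer

/-!
# A degree lemma for invariance of characters

Let `Y ≤ X` and `V` be normal subgroups of `Γ` with `X ⊓ V = Y`, `X ⊔ V = ⊤`, `V / Y` cyclic
and `[Γ : X]` a power of `p`.  If `χ ∈ Irr(X)` has `p`-part of degree at least `|X|_p / p^a`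
and lies over a `V`-invariant `θ ∈ Irr(Y)` with `p`-part of degree at most `|Y|_p / p^a`, then
`χ` is `Γ`-invariant.
-/

set_option autoImplicit false
open Cfsg

namespace Cfsg.Agent.Lib.CT.KnA

open Cfsg.Agent.Lib.CT.Wedderburn Cfsg.Agent.Lib.CT.KnUtil
open Cfsg.Agent.Lib.Helper77.BPTransport Cfsg.Agent.Lib.Helper16.Transfer
open scoped Pointwise

universe u

theorem lemmaA0 {Γ : Type u} [Group Γ] [Fintype Γ] (p : ℕ) [Fact p.Prime]
    (X Y V : Subgroup Γ) [Fintype X] [Fintype Y] [Fintype V]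
    [hX : X.Normal] [hY : Y.Normal] [hV : V.Normal]
    (hYX : Y ≤ X) (hYV : Y ≤ V) (hXV : X ⊓ V ≤ Y) (hsup : X ⊔ V = ⊤)
    (hcyc : IsCyclic (↥V ⧸ Y.subgroupOf V))
    (χ : IrrCharacter X) (θ : IrrCharacter Y)
    (hcon : classInner (fun y : Y => (χ : X → ℂ) ⟨y, hYX y.2⟩) (θ : Y → ℂ) ≠ 0)
    (hθ : ∀ v ∈ V, ∀ y : Y, (θ : Y → ℂ) ⟨v * y * v⁻¹, hY.conj_mem y y.2 v⟩ = (θ : Y → ℂ) y)
    (a : ℕ) (hχa : (Nat.card X).factorization p ≤ (charDegree (χ : X → ℂ)).factorization p + a)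
    (hθa : (charDegree (θ : Y → ℂ)).factorization p + a ≤ (Nat.card Y).factorization p)
    (hpow : ∃ k : ℕ, X.index = p ^ k) (g : Γ) (x : X) :
    (χ : X → ℂ) ⟨g * x * g⁻¹, hX.conj_mem x x.2 g⟩ = (χ : X → ℂ) x := by
  classical
  have hp : p.Prime := Fact.out
  -- extension of θ to V
  have hext : ∃ θ' : IrrCharacter V, ∀ y : Y, (θ' : V → ℂ) ⟨y, hYV y.2⟩ = (θ : Y → ℂ) y := by
    have h0 := Cfsg.Agent.S0886.result (G := ↥V) (Y.subgroupOf V) hcyc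
      (fun n => (θ : Y → ℂ) (sIso Y V hYV n)) (pull (sIso Y V hYV) θ).2 (by
        intro g n
        exact hθ (g : Γ) g.2 (sIso Y V hYV n))
    obtain ⟨χ', hχ', hext⟩ := h0
    refine ⟨⟨χ', hχ'⟩, fun y => ?_⟩
    have h1 := hext ((sIso Y V hYV).symm y)
    rw [MulEquiv.apply_symm_apply] at h1
    rw [← h1]
    rfl
  obtain ⟨θ', hθ'⟩ := hext
  -- ψ over χ, η over θ under ψ
  obtain ⟨ψ, hψ⟩ := Cfsg.Agent.Lib.Helper16.Cover4.exists_over X χ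
  have hψθ := over_trans Y X hYX ψ χ θ hψ hcon
  obtain ⟨η, hη1, hη2⟩ := exists_middle Y V hYV ψ θ hψθ
  have hab : ∀ x ∈ V, ∀ y ∈ V, x * y * x⁻¹ * y⁻¹ ∈ Y := by
    intro x hx y hy
    have hc : IsMulCommutative (↥V ⧸ Y.subgroupOf V) := IsCyclic.isMulCommutative
    have h1 : ((⟨x, hx⟩ * ⟨y, hy⟩ * (⟨x, hx⟩ : V)⁻¹ * (⟨y, hy⟩ : V)⁻¹ : V) :
        ↥V ⧸ Y.subgroupOf V) = 1 := by
      rw [QuotientGroup.mk_mul, QuotientGroup.mk_mul, QuotientGroup.mk_mul,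
        hc.is_comm.comm (QuotientGroup.mk (⟨x, hx⟩ : V)) (QuotientGroup.mk (⟨y, hy⟩ : V))]
      rw [QuotientGroup.mk_inv, QuotientGroup.mk_inv]
      group
    have h2 := (QuotientGroup.eq_one_iff _).mp h1
    exact h2
  have hne : classInner (fun h : Y => (θ' : V → ℂ) ⟨h, hYV h.2⟩)
      (fun h : Y => (η : V → ℂ) ⟨h, hYV h.2⟩) ≠ 0 := by
    have h1 : (fun h : Y => (θ' : V → ℂ) ⟨h, hYV h.2⟩) = (θ : Y → ℂ) := funext hθ'
    rw [h1, Cfsg.Agent.Lib.CT.Clifford.classInner_conj_symm]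
    intro h0
    exact hη2 ((map_eq_zero _).mp h0)
  obtain ⟨f, -, hf2⟩ := Cfsg.Agent.Lib.Helper25.CliffordCorr2.exists_twist Y V hYV hab
    (θ' : V → ℂ) (η : V → ℂ) θ'.2 η.2 hne
  have hdeg : charDegree (η : V → ℂ) = charDegree (θ : Y → ℂ) := by
    unfold charDegree
    rw [hf2]
    simp only [map_one, Units.val_one, one_mul]
    rw [← hθ' 1]
    rfl
  have h3 := Cfsg.Agent.Lib.Helper3.TDBasic.deg_of_constituent V η ψ hη1
  -- the inertia group of χ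
  have hT := Cfsg.Agent.Lib.Helper78.CliffordCorr.mem_inertia X hX (χ : X → ℂ)
  have hXT : X ≤ Cfsg.Agent.Lib.Helper78.CliffordCorr.inertia X hX (χ : X → ℂ) :=
    Cfsg.Agent.Lib.Helper78.CliffordCorr.le_inertia X hX
      (char_isClassFunction (isCharacter_of_irr χ.2))
  obtain ⟨ψ', e, -, -, he, -, -, hdegψ⟩ :=
    Cfsg.Agent.Lib.Helper78.CliffordCorr.clifford_corr X hX (χ : X → ℂ) χ.2
      (Cfsg.Agent.Lib.Helper78.CliffordCorr.inertia X hX (χ : X → ℂ)) hT hXT (ψ : Γ → ℂ) ψ.2 hψ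
  -- numerics
  have hXVeq : X ⊓ V = Y := le_antisymm hXV (le_inf hYX hYV)
  have hVidx : Nat.card Y * V.index = Nat.card X := by
    have h1 : V.index = Y.relIndex X := by
      rw [← Subgroup.relIndex_top_right, ← hsup, Subgroup.relIndex_sup_right,
        ← Subgroup.inf_relIndex_left, hXVeq]
    rw [h1, ← Subgroup.relIndex_bot_left, ← Subgroup.relIndex_bot_left (H := X)]
    exact Subgroup.relIndex_mul_relIndex ⊥ Y X bot_le hYX
  have hVne : V.index ≠ 0 := Subgroup.index_ne_zero_of_finite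
  have hcardY : Nat.card Y ≠ 0 := Nat.card_pos.ne'
  have hX1 : (Nat.card X).factorization p =
      (Nat.card Y).factorization p + V.index.factorization p := by
    rw [← hVidx, Nat.factorization_mul hcardY hVne]
    rfl
  have hη0 : charDegree (η : V → ℂ) ≠ 0 := (irr_charDegree_pos η.2).ne'
  have hψ0 : charDegree (ψ : Γ → ℂ) ≠ 0 := (irr_charDegree_pos ψ.2).ne'
  have hχ0 : charDegree (χ : X → ℂ) ≠ 0 := (irr_charDegree_pos χ.2).ne'
  have h4 : charDegree (ψ : Γ → ℂ) ∣ charDegree (η : V → ℂ) * V.index := by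
    obtain ⟨q, hq⟩ := h3.1
    have h5 : charDegree (ψ : Γ → ℂ) / charDegree (η : V → ℂ) = q := by
      rw [hq, Nat.mul_div_cancel_left _ (Nat.pos_of_ne_zero hη0)]
    rw [hq]
    exact Nat.mul_dvd_mul_left _ (h5 ▸ h3.2)
  have h6 : (charDegree (ψ : Γ → ℂ)).factorization p ≤
      (charDegree (θ : Y → ℂ)).factorization p + V.index.factorization p := by
    have h7 := (Nat.factorization_le_iff_dvd hψ0 (mul_ne_zero hη0 hVne)).mpr h4 p
    rw [Nat.factorization_mul hη0 hVne, hdeg] at h7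
    exact h7
  have hTne : (Cfsg.Agent.Lib.Helper78.CliffordCorr.inertia X hX (χ : X → ℂ)).index ≠ 0 :=
    Subgroup.index_ne_zero_of_finite
  have h8 : (charDegree (ψ : Γ → ℂ)).factorization p =
      e.factorization p +
        (Cfsg.Agent.Lib.Helper78.CliffordCorr.inertia X hX (χ : X → ℂ)).index.factorization p +
        (charDegree (χ : X → ℂ)).factorization p := by
    rw [hdegψ, Nat.factorization_mul (mul_ne_zero he hTne) hχ0, Nat.factorization_mul he hTne]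
    rfl
  have h9 : (Cfsg.Agent.Lib.Helper78.CliffordCorr.inertia X hX
      (χ : X → ℂ)).index.factorization p = 0 := by
    omega
  obtain ⟨k, hk⟩ := hpow
  have h10 : (Cfsg.Agent.Lib.Helper78.CliffordCorr.inertia X hX (χ : X → ℂ)).index ∣ p ^ k :=
    hk ▸ Subgroup.index_dvd_of_le hXT
  obtain ⟨j, -, hj⟩ := (Nat.dvd_prime_pow hp).mp h10
  rw [hj, hp.factorization_pow] at h9
  simp only [Finsupp.single_eq_same] at h9
  rw [h9, pow_zero] at hj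
  have hTtop := Subgroup.index_eq_one.mp hj
  exact (hT g).mp (hTtop ▸ Subgroup.mem_top g) x

/-- A quotient generated by one coset is cyclic. -/
theorem isCyclic_quot {K : Type*} [Group K] (N : Subgroup K) [N.Normal] (c : K)
    (hc : ∀ k : K, ∃ i : ℤ, (c ^ i)⁻¹ * k ∈ N) : IsCyclic (K ⧸ N) := by
  rw [isCyclic_iff_exists_zpowers_eq_top]
  refine ⟨QuotientGroup.mk c, top_unique fun q _ => ?_⟩
  induction q using QuotientGroup.induction_on with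
  | H k =>
    obtain ⟨i, hi⟩ := hc k
    rw [Subgroup.mem_zpowers_iff]
    refine ⟨i, ?_⟩
    rw [← QuotientGroup.mk_zpow]
    exact QuotientGroup.eq.mpr hi

/-- If moreover `c ^ p ∈ N` then the index divides `p`. -/
theorem index_dvd_of_quot {K : Type*} [Group K] [Finite K] (N : Subgroup K) [N.Normal] (c : K)
    (hc : ∀ k : K, ∃ i : ℤ, (c ^ i)⁻¹ * k ∈ N) (p : ℕ) (hp : c ^ p ∈ N) : N.index ∣ p := by
  have := isCyclic_quot N c hc
  rw [Subgroup.index_eq_card, ← IsCyclic.exponent_eq_card]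
  apply Monoid.exponent_dvd_of_forall_pow_eq_one
  intro q
  induction q using QuotientGroup.induction_on with
  | H k =>
    obtain ⟨i, hi⟩ := hc k
    have h1 : (QuotientGroup.mk k : K ⧸ N) = (QuotientGroup.mk c : K ⧸ N) ^ i := by
      rw [← QuotientGroup.mk_zpow]
      exact (QuotientGroup.eq.mpr hi).symm
    rw [h1, ← zpow_natCast, ← zpow_mul, mul_comm, zpow_mul, zpow_natCast, ← QuotientGroup.mk_pow,
      (QuotientGroup.eq_one_iff _).mpr hp, one_zpow]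

/-- Ambient form of the degree lemma. -/
theorem lemmaA {G : Type u} [Group G] [Finite G] (p : ℕ) [Fact p.Prime]
    (X Y : Subgroup G) [hX : X.Normal] [hY : Y.Normal] [Fintype X] [Fintype Y] (hYX : Y ≤ X)
    (z : G) (hz1 : ∀ x ∈ X, x * z * x⁻¹ * z⁻¹ ∈ Y) (hzp : z ^ p ∈ Y)
    (hz3 : ∀ i : ℤ, z ^ i ∈ X → z ^ i ∈ Y)
    (χ : IrrCharacter X) (θ : IrrCharacter Y)
    (hcon : classInner (fun y : Y => (χ : X → ℂ) ⟨y, hYX y.2⟩) (θ : Y → ℂ) ≠ 0)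
    (hθz : ∀ y : Y, (θ : Y → ℂ) ⟨z * y * z⁻¹, hY.conj_mem y y.2 z⟩ = (θ : Y → ℂ) y)
    (a : ℕ) (hχa : (Nat.card X).factorization p ≤ (charDegree (χ : X → ℂ)).factorization p + a)
    (hθa : (charDegree (θ : Y → ℂ)).factorization p + a ≤ (Nat.card Y).factorization p)
    (x : X) :
    (χ : X → ℂ) ⟨z * x * z⁻¹, hX.conj_mem x x.2 z⟩ = (χ : X → ℂ) x := by
  classical
  have hp : p.Prime := Fact.out
  obtain ⟨Γ, hΓ⟩ : ∃ Γ : Subgroup G, Γ = X ⊔ Subgroup.zpowers z := ⟨_, rfl⟩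
  obtain ⟨W, hW⟩ : ∃ W : Subgroup G, W = Y ⊔ Subgroup.zpowers z := ⟨_, rfl⟩
  have hXΓ : X ≤ Γ := hΓ ▸ le_sup_left
  have hzΓ : z ∈ Γ := hΓ ▸ (le_sup_right : Subgroup.zpowers z ≤ _) (Subgroup.mem_zpowers z)
  have hYΓ : Y ≤ Γ := hYX.trans hXΓ
  have hYW : Y ≤ W := hW ▸ le_sup_left
  have hzW : z ∈ W := hW ▸ (le_sup_right : Subgroup.zpowers z ≤ _) (Subgroup.mem_zpowers z)
  have hWΓ : W ≤ Γ := by
    rw [hW]
    exact sup_le hYΓ (Subgroup.zpowers_le.mpr hzΓ)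
  have hWmem : ∀ w, w ∈ W → ∃ y ∈ Y, ∃ i : ℤ, w = y * z ^ i := by
    intro w hw
    have h1 : (W : Set G) = (Y : Set G) * (Subgroup.zpowers z : Set G) := by
      rw [hW]
      exact Subgroup.normal_mul Y (Subgroup.zpowers z)
    have hw' : w ∈ (Y : Set G) * (Subgroup.zpowers z : Set G) := h1 ▸ hw
    obtain ⟨y, hy, c, hc, rfl⟩ := Set.mem_mul.mp hw'
    obtain ⟨i, rfl⟩ := Subgroup.mem_zpowers_iff.mp hc
    exact ⟨y, hy, i, rfl⟩
  have hΓmem : ∀ w, w ∈ Γ → ∃ y ∈ X, ∃ i : ℤ, w = y * z ^ i := by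
    intro w hw
    have h1 : (Γ : Set G) = (X : Set G) * (Subgroup.zpowers z : Set G) := by
      rw [hΓ]
      exact Subgroup.normal_mul X (Subgroup.zpowers z)
    have hw' : w ∈ (X : Set G) * (Subgroup.zpowers z : Set G) := h1 ▸ hw
    obtain ⟨y, hy, c, hc, rfl⟩ := Set.mem_mul.mp hw'
    obtain ⟨i, rfl⟩ := Subgroup.mem_zpowers_iff.mp hc
    exact ⟨y, hy, i, rfl⟩
  have hconjz : ∀ x ∈ X, x * z * x⁻¹ ∈ W := fun x hx => by
    have h1 := W.mul_mem (hYW (hz1 x hx)) hzW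
    have e : x * z * x⁻¹ * z⁻¹ * z = x * z * x⁻¹ := by group
    rwa [e] at h1
  have hXnorm : ∀ x ∈ X, ∀ w ∈ W, x * w * x⁻¹ ∈ W := by
    intro x hx w hw
    obtain ⟨y, hy, i, rfl⟩ := hWmem w hw
    have e : x * (y * z ^ i) * x⁻¹ = (x * y * x⁻¹) * (x * z * x⁻¹) ^ i := by
      rw [conj_zpow]
      group
    rw [e]
    exact W.mul_mem (hYW (hY.conj_mem y hy x)) (W.zpow_mem (hconjz x hx) i)
  have hΓnorm : Γ ≤ Subgroup.normalizer (W : Set G) := by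
    rw [hΓ]
    refine sup_le ?_ ?_
    · intro x hx
      rw [Subgroup.mem_normalizer_iff]
      intro w
      constructor
      · exact hXnorm x hx w
      · intro h
        have h1 := hXnorm x⁻¹ (X.inv_mem hx) _ h
        have e : x⁻¹ * (x * w * x⁻¹) * x⁻¹⁻¹ = w := by group
        rwa [e] at h1
    · exact (Subgroup.zpowers_le.mpr hzW).trans Subgroup.le_normalizer
  have hVn : (W.subgroupOf Γ).Normal :=
    (Subgroup.normal_subgroupOf_iff_le_normalizer hWΓ).mpr hΓnorm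
  let _ : Fintype ↥Γ := Fintype.ofFinite _
  let _ : Fintype ↥(X.subgroupOf Γ) := Fintype.ofFinite _
  let _ : Fintype ↥(Y.subgroupOf Γ) := Fintype.ofFinite _
  let _ : Fintype ↥(W.subgroupOf Γ) := Fintype.ofFinite _
  have hYX' : Y.subgroupOf Γ ≤ X.subgroupOf Γ := fun g hg => hYX hg
  have hYV' : Y.subgroupOf Γ ≤ W.subgroupOf Γ := fun g hg => hYW hg
  have hXV' : X.subgroupOf Γ ⊓ W.subgroupOf Γ ≤ Y.subgroupOf Γ := by
    rintro g ⟨hgX, hgW⟩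
    have hgX' : (g : G) ∈ X := hgX
    have hgW' : (g : G) ∈ W := hgW
    obtain ⟨y, hy, i, hi⟩ := hWmem _ hgW'
    have h1 : z ^ i ∈ X := by
      have e : z ^ i = y⁻¹ * (g : G) := by rw [hi]; group
      rw [e]
      exact X.mul_mem (X.inv_mem (hYX hy)) hgX'
    show (g : G) ∈ Y
    rw [hi]
    exact Y.mul_mem hy (hz3 i h1)
  have hsup' : X.subgroupOf Γ ⊔ W.subgroupOf Γ = ⊤ := by
    rw [← Subgroup.subgroupOf_sup hXΓ hWΓ]
    have e : X ⊔ W = Γ := by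
      rw [hW, hΓ, ← sup_assoc, sup_eq_left.mpr hYX]
    rw [e, Subgroup.subgroupOf_self]
  have hcyc' : IsCyclic (↥(W.subgroupOf Γ) ⧸ (Y.subgroupOf Γ).subgroupOf (W.subgroupOf Γ)) := by
    apply isCyclic_quot _ (⟨⟨z, hzΓ⟩, hzW⟩ : ↥(W.subgroupOf Γ))
    intro k
    obtain ⟨y, hy, i, hi0⟩ := hWmem _ (k.2 : ((k : ↥Γ) : G) ∈ W)
    have hi : ((k : ↥Γ) : G) = y * z ^ i := hi0
    refine ⟨i, ?_⟩
    show (((((⟨⟨z, hzΓ⟩, hzW⟩ : ↥(W.subgroupOf Γ)) ^ i)⁻¹ * k : ↥(W.subgroupOf Γ)) : ↥Γ) : G) ∈ Y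
    have e : (((((⟨⟨z, hzΓ⟩, hzW⟩ : ↥(W.subgroupOf Γ)) ^ i)⁻¹ * k : ↥(W.subgroupOf Γ)) : ↥Γ) : G)
        = (z ^ i)⁻¹ * ((k : ↥Γ) : G) := by
      simp
    rw [e, hi]
    have e2 : (z ^ i)⁻¹ * (y * z ^ i) = (z ^ i)⁻¹ * y * (z ^ i)⁻¹⁻¹ := by group
    rw [e2]
    exact hY.conj_mem y hy _
  have hpow' : ∃ k : ℕ, (X.subgroupOf Γ).index = p ^ k := by
    have h1 : (X.subgroupOf Γ).index ∣ p := by
      apply index_dvd_of_quot _ (⟨z, hzΓ⟩ : ↥Γ)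
      · intro k
        obtain ⟨y, hy, i, hi⟩ := hΓmem _ k.2
        refine ⟨i, ?_⟩
        show ((((⟨z, hzΓ⟩ : ↥Γ) ^ i)⁻¹ * k : ↥Γ) : G) ∈ X
        have e : ((((⟨z, hzΓ⟩ : ↥Γ) ^ i)⁻¹ * k : ↥Γ) : G) = (z ^ i)⁻¹ * (k : G) := by simp
        rw [e, hi]
        have e2 : (z ^ i)⁻¹ * (y * z ^ i) = (z ^ i)⁻¹ * y * (z ^ i)⁻¹⁻¹ := by group
        rw [e2]
        exact hX.conj_mem y hy _
      · show (((⟨z, hzΓ⟩ : ↥Γ) ^ p : ↥Γ) : G) ∈ X
        have e : (((⟨z, hzΓ⟩ : ↥Γ) ^ p : ↥Γ) : G) = z ^ p := by simp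
        rw [e]
        exact hYX hzp
    rcases (Nat.dvd_prime hp).mp h1 with h | h
    · exact ⟨0, by rw [h, pow_zero]⟩
    · exact ⟨1, by rw [h, pow_one]⟩
  have hcon' : classInner (fun y : ↥(Y.subgroupOf Γ) =>
      (pull (sIso X Γ hXΓ) χ : ↥(X.subgroupOf Γ) → ℂ) ⟨y, hYX' y.2⟩)
      (pull (sIso Y Γ hYΓ) θ : ↥(Y.subgroupOf Γ) → ℂ) ≠ 0 := by
    have h1 := Cfsg.Agent.Lib.Helper78.CliffordCorr.classInner_comp_mulEquiv (sIso Y Γ hYΓ)
      (fun y : Y => (χ : X → ℂ) ⟨y, hYX y.2⟩) (θ : Y → ℂ)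
    rw [← h1] at hcon
    exact hcon
  have hinert : W ≤ Cfsg.Agent.Lib.Helper78.CliffordCorr.inertia Y hY (θ : Y → ℂ) := by
    rw [hW]
    refine sup_le (Cfsg.Agent.Lib.Helper78.CliffordCorr.le_inertia Y hY
      (char_isClassFunction (isCharacter_of_irr θ.2))) (Subgroup.zpowers_le.mpr ?_)
    exact (Cfsg.Agent.Lib.Helper78.CliffordCorr.mem_inertia Y hY (θ : Y → ℂ) z).mpr hθz
  have hθ' : ∀ v ∈ W.subgroupOf Γ, ∀ y : ↥(Y.subgroupOf Γ),
      (pull (sIso Y Γ hYΓ) θ : ↥(Y.subgroupOf Γ) → ℂ)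
        ⟨v * y * v⁻¹, (inferInstance : (Y.subgroupOf Γ).Normal).conj_mem y y.2 v⟩ =
      (pull (sIso Y Γ hYΓ) θ : ↥(Y.subgroupOf Γ) → ℂ) y := by
    intro v hv y
    have h1 := (Cfsg.Agent.Lib.Helper78.CliffordCorr.mem_inertia Y hY (θ : Y → ℂ) (v : G)).mp
      (hinert hv) (sIso Y Γ hYΓ y)
    exact h1
  have hcX : Nat.card ↥(X.subgroupOf Γ) = Nat.card X := Nat.card_congr (sIso X Γ hXΓ).toEquiv
  have hcY : Nat.card ↥(Y.subgroupOf Γ) = Nat.card Y := Nat.card_congr (sIso Y Γ hYΓ).toEquiv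
  have key := lemmaA0 p (X.subgroupOf Γ) (Y.subgroupOf Γ) (W.subgroupOf Γ) hYX' hYV' hXV' hsup'
    hcyc' (pull (sIso X Γ hXΓ) χ) (pull (sIso Y Γ hYΓ) θ) hcon' hθ' a
    (by rw [hcX, charDegree_pull]; exact hχa) (by rw [hcY, charDegree_pull]; exact hθa) hpow'
    (⟨z, hzΓ⟩ : ↥Γ) ((sIso X Γ hXΓ).symm x)
  exact key

end Cfsg.Agent.Lib.CT.KnA
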