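import Cfsg.Agent.Lib.CT.KnMain

/-!
# Knörr's theorem: defect groups of covered blocks

* `covered_conj`: two blocks of `N ⊴ G` covered by the same block of `G` are conjugate.
* `isDefectGroup_conjNormal`: defect groups of a conjugate block.
* `knorr`: if `B` covers the block `b` of `N` with defect group `Q`, then `Q = P ⊓ N` for some
  defect group `P` of `B`.
-/

set_option autoImplicit false
open Cfsg

namespace Cfsg.Agent.Lib.CT.KnConj

open Cfsg.Agent.Lib.CT.Wedderburn Cfsg.Agent.Lib.CT.KnUtil Cfsg.Agent.Lib.CT.DefectZeroBlock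
open Cfsg.Agent.Lib.Helper77.BPTransport Cfsg.Agent.Lib.Helper16.Transfer
open Cfsg.Agent.Lib.Helper77.LocalRing Cfsg.Agent.Lib.Helper16.Normal
open Cfsg.Agent.Lib.Helper33.Conj Cfsg.Agent.Lib.Helper16.MinMax
open Cfsg.Agent.Lib.CT.KnMain Cfsg.Agent.Lib.Helper77.DefectClass

universe u
variable {G : Type u} [Group G] {M : Ideal AlgInt}

theorem map_conjNormal_symm_subgroupOf (N D : Subgroup G) [hN : N.Normal] (g : G) :
    (D.subgroupOf N).map ((MulAut.conjNormal g⁻¹ : N ≃* N).symm.toMonoidHom)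
      = (D.map (MulAut.conj g).toMonoidHom).subgroupOf N := by
  ext x
  rw [Subgroup.mem_map_equiv, Subgroup.mem_subgroupOf, Subgroup.mem_subgroupOf, mem_cj]
  have h1 : (((MulAut.conjNormal g⁻¹ : N ≃* N).symm.symm x : N) : G) = g⁻¹ * (x : G) * g := by
    rw [MulEquiv.symm_symm, MulAut.conjNormal_apply, inv_inv]
  rw [h1]

/-- Defect groups of a conjugate block. -/
theorem isDefectGroup_conjNormal [Finite G] {p : ℕ} [Fact p.Prime] (N : Subgroup G)
    [hN : N.Normal] (c : Set (IrrCharacter N)) (D : Subgroup G)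
    (hD : IsDefectGroup p M c (D.subgroupOf N)) (g : G) :
    IsDefectGroup p M (pull (MulAut.conjNormal g⁻¹ : N ≃* N) '' c)
      ((D.map (MulAut.conj g).toMonoidHom).subgroupOf N) := by
  have h1 := Cfsg.Agent.Lib.Helper77.BPEquiv2.isDefectGroup_pull
    (MulAut.conjNormal g⁻¹ : N ≃* N) hD
  rw [map_conjNormal_symm_subgroupOf] at h1
  exact h1

/-- Blocks of `N` covered by the same block of `G` are conjugate. -/
theorem covered_conj [Fintype G] (hMp : M.IsPrime) (N : Subgroup G) [hN : N.Normal] [Fintype N]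
    (B : Set (IrrCharacter G)) (hB : IsPBlock M B) (b c : Set (IrrCharacter N))
    (hb : IsPBlock M b) (hc : IsPBlock M c)
    (hcovb : ∃ χ ∈ B, ∃ θ ∈ b, classInner (fun n : N => (χ : G → ℂ) n) (θ : N → ℂ) ≠ 0)
    (hcovc : ∃ χ ∈ B, ∃ θ ∈ c, classInner (fun n : N => (χ : G → ℂ) n) (θ : N → ℂ) ≠ 0) :
    ∃ g : G, b = pull (MulAut.conjNormal g⁻¹ : N ≃* N) '' c := by
  classical
  obtain ⟨χ, hχ⟩ := isPBlock_nonempty hMp hB
  obtain ⟨θb, hθb, h1⟩ :=
    Cfsg.Agent.Lib.Helper16.Reynolds.forall_cover hMp N hN b hb B hB hcovb χ hχ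
  obtain ⟨θc, hθc, h2⟩ :=
    Cfsg.Agent.Lib.Helper16.Reynolds.forall_cover hMp N hN c hc B hB hcovc χ hχ
  have := finite_irrCharacter G
  let _ := Fintype.ofFinite (IrrCharacter G)
  obtain ⟨g, hg⟩ := Cfsg.Agent.Lib.Helper81.Cliff.clifford_conj (N := N) χ θc θb
    (by rw [← classInner_eq_multC]; exact h2) (by rw [← classInner_eq_multC]; exact h1)
  refine ⟨g, ?_⟩
  rw [eq_blockOf_of_mem hMp hc hθc, ← blockOf_pull]
  have e : pull (MulAut.conjNormal g⁻¹ : N ≃* N) θc = θb := hg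
  rw [e]
  exact eq_blockOf_of_mem hMp hb hθb

/-- **Knörr's theorem.**  If `B` covers the block `b` of `N` with defect group `Q`, then
`Q = P ⊓ N` for some defect group `P` of `B`. -/
theorem knorr [Fintype G] (p : ℕ) [Fact p.Prime] (hM : IsPModular p M)
    (N : Subgroup G) [hN : N.Normal] [Fintype N] (b : Set (IrrCharacter N)) (hb : IsPBlock M b)
    (Q : Subgroup G) (hQN : Q ≤ N) (hQ : IsDefectGroup p M b (Q.subgroupOf N))
    (B : Set (IrrCharacter G)) (hB : IsPBlock M B)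
    (hcov : ∃ χ ∈ B, ∃ θ ∈ b, classInner (fun n : N => (χ : G → ℂ) n) (θ : N → ℂ) ≠ 0) :
    ∃ P : Subgroup G, IsDefectGroup p M B P ∧ P ⊓ N = Q := by
  classical
  have hMp := isPrime_of_isPModular hM
  obtain ⟨P₀, hP₀⟩ := exists_defectGroup hM B hB
  obtain ⟨c, hc, -, hcovc, hcD⟩ := knorr_stable p hM N B hB P₀ hP₀
  obtain ⟨g, hg⟩ := covered_conj hMp N B hB b c hb hc hcov hcovc
  have hb' := isDefectGroup_conjNormal N c (P₀ ⊓ N) hcD g
  rw [← hg] at hb'
  obtain ⟨n, hn⟩ := defectGroup_conj hM b hb hb' hQ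
  refine ⟨P₀.map (MulAut.conj ((n : G) * g)).toMonoidHom, isDefectGroup_conj hP₀ _, ?_⟩
  ext x
  rw [Subgroup.mem_inf, mem_cj]
  constructor
  · rintro ⟨h1, h2⟩
    have h3 : (⟨x, h2⟩ : N) ∈ Q.subgroupOf N := by
      rw [hn, mem_cj, Subgroup.mem_subgroupOf, mem_cj, Subgroup.mem_inf]
      constructor
      · have e : g⁻¹ * ((n⁻¹ * (⟨x, h2⟩ : N) * n : N) : G) * g
            = ((n : G) * g)⁻¹ * x * ((n : G) * g) := by
          push_cast
          group
        rw [e]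
        exact h1
      · have e : g⁻¹ * ((n⁻¹ * (⟨x, h2⟩ : N) * n : N) : G) * g
            = g⁻¹ * ((n⁻¹ * (⟨x, h2⟩ : N) * n : N) : G) * g⁻¹⁻¹ := by rw [inv_inv]
        rw [e]
        exact hN.conj_mem _ (n⁻¹ * (⟨x, h2⟩ : N) * n).2 g⁻¹
    exact h3
  · intro hx
    have h2 : x ∈ N := hQN hx
    have h3 : (⟨x, h2⟩ : N) ∈ Q.subgroupOf N := hx
    rw [hn, mem_cj, Subgroup.mem_subgroupOf, mem_cj, Subgroup.mem_inf] at h3
    refine ⟨?_, h2⟩
    have e : g⁻¹ * ((n⁻¹ * (⟨x, h2⟩ : N) * n : N) : G) * g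
        = ((n : G) * g)⁻¹ * x * ((n : G) * g) := by
      push_cast
      group
    rw [← e]
    exact h3.1

end Cfsg.Agent.Lib.CT.KnConj
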