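import Cfsg.Agent.Lib.CT.KnUtil2
import Cfsg.Agent.Lib.Helper16.Cover3
import Cfsg.Agent.Lib.Helper16.IndBlock2
import Cfsg.Agent.Lib.Helper16.Transfer

/-!
# Induced blocks and covering

Let `N ⊴ G`, `H ≤ G` and `K = H ⊓ N`.  If the block `c` of `H` induces the block `B` of `G`,
the block `e` of `K` induces the block `d` of `N`, and `c` covers `e`, then `B` covers `d`.
-/

set_option autoImplicit false
open Cfsg

namespace Cfsg.Agent.Lib.CT.KnInd

open Cfsg.Agent.Lib.Helper77.LocalRing Cfsg.Agent.Lib.Helper77.CentralChar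
  Cfsg.Agent.Lib.Helper77.ClassSum Cfsg.Agent.Lib.Helper77.BlockIdem
  Cfsg.Agent.Lib.Helper16.ZR Cfsg.Agent.Lib.Helper16.Normal Cfsg.Agent.Lib.CT.FrobRec
  Cfsg.Agent.Lib.Helper16.Cover3
open Cfsg.Agent.Lib.Helper16.CentralChar (conjFinset mem_conjFinset card_conjFinset)
open Cfsg.Agent.Lib.CT.Wedderburn Cfsg.Agent.Lib.CT.KnUtil
open Cfsg.Agent.Lib.Helper81.Mult Cfsg.Agent.Lib.Helper81.Cliff Cfsg.Agent.Lib.Helper81.CliffCorr
open Cfsg.Agent.Lib.Helper77.BPTransport Cfsg.Agent.Lib.Helper16.Transfer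

universe u
variable {G : Type u} [Group G] {M : Ideal AlgInt}

/-- If `c^G = B`, then for a class function `F` of `G` with values in the local ring the
central character of `χ ∈ B` and the "induced central character" of `ψ ∈ c` agree on `F` modulo
the local ideal. -/
theorem induced_sum_congr [Fintype G] (hMp : M.IsPrime) (H : Subgroup G) [Fintype H]
    (c : Set (IrrCharacter H)) (B : Set (IrrCharacter G)) (hind : IsInducedBlock M H c B)
    (ψ : IrrCharacter H) (hψ : ψ ∈ c) (χ : IrrCharacter G) (hχ : χ ∈ B)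
    (F : G → ℂ) (hF : ∀ x g : G, F (x * g * x⁻¹) = F g) (hFR : ∀ g, MemLocalRing M (F g)) :
    MemLocalIdeal M ((∑ x : G, F x * (χ : G → ℂ) x) / (χ : G → ℂ) 1
      - (∑ h : H, F h * (ψ : H → ℂ) h) / (ψ : H → ℂ) 1) := by
  classical
  obtain ⟨R, hR⟩ := exists_reps (G := G)
  have e1 : (∑ x : G, F x * (χ : G → ℂ) x) / (χ : G → ℂ) 1 =
      ∑ r ∈ R, F r * centralChar (χ : G → ℂ) r := by
    rw [hR, Finset.sum_div]
    apply Finset.sum_congr rfl
    intro r _
    have h1 : ∀ x ∈ conjFinset r, F x * (χ : G → ℂ) x = F r * (χ : G → ℂ) r := by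
      intro x hx
      obtain ⟨c, hc⟩ := isConj_iff.mp (mem_conjFinset.mp hx)
      rw [← hc, hF, irr_conj_inv]
    rw [Finset.sum_congr rfl h1, Finset.sum_const, card_conjFinset, nsmul_eq_mul]
    unfold centralChar
    ring
  have e2 : (∑ h : H, F h * (ψ : H → ℂ) h) / (ψ : H → ℂ) 1 =
      ∑ r ∈ R, F r * inducedCentralChar H (ψ : H → ℂ) r := by
    rw [Finset.sum_div, ← sum_extendByZero H (fun h : H => F h * (ψ : H → ℂ) h / (ψ : H → ℂ) 1),
      hR]
    apply Finset.sum_congr rfl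
    intro r _
    unfold inducedCentralChar
    rw [← sum_conjFinset_extendByZero H (fun h : H => (ψ : H → ℂ) h / (ψ : H → ℂ) 1) r,
      Finset.mul_sum]
    apply Finset.sum_congr rfl
    intro x hx
    obtain ⟨c, hc⟩ := isConj_iff.mp (mem_conjFinset.mp hx)
    by_cases hxH : x ∈ H
    · rw [extendByZero_apply_of_mem H _ hxH, extendByZero_apply_of_mem H _ hxH]
      have h3 : F x = F r := by rw [← hc, hF]
      show F x * (ψ : H → ℂ) ⟨x, hxH⟩ / (ψ : H → ℂ) 1 = F r * ((ψ : H → ℂ) ⟨x, hxH⟩ / (ψ : H → ℂ) 1)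
      rw [h3, mul_div_assoc]
    · rw [extendByZero_apply_of_not_mem H _ hxH, extendByZero_apply_of_not_mem H _ hxH, mul_zero]
  rw [e1, e2, ← Finset.sum_sub_distrib]
  apply memLocalIdeal_sum hMp
  intro r _
  rw [← mul_sub]
  exact memLocalIdeal_mul_left hMp (hFR r) (memLocalIdeal_sub_comm (hind.2.2 ψ hψ χ hχ r))

/-- Clifford: for `χ` over `θ ∈ Irr(N)`, `N ⊴ G`, and a `G`-invariant function `f` on `N`, the
values of "`ω_χ`" and "`ω_θ`" on `f` agree. -/
theorem sum_ratio_of_constituent [Fintype G] (N : Subgroup G) [hN : N.Normal] [Fintype N]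
    (χ : IrrCharacter G) (θ : IrrCharacter N)
    (h : classInner (fun n : N => (χ : G → ℂ) n) (θ : N → ℂ) ≠ 0)
    (f : N → ℂ) (hf : ∀ (g : G) (n : N), f ⟨g * n * g⁻¹, hN.conj_mem n n.2 g⟩ = f n) :
    (∑ n : N, f n * (χ : G → ℂ) n) / (χ : G → ℂ) 1 =
      (∑ n : N, f n * (θ : N → ℂ) n) / (θ : N → ℂ) 1 := by
  classical
  have := finite_irrCharacter N
  let _ := Fintype.ofFinite (IrrCharacter N)
  have := finite_irrCharacter G
  let _ := Fintype.ofFinite (IrrCharacter G)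
  have hres : IsCharacter N (res N (χ : G → ℂ)) := isCharacter_res N (isCharacter_of_irr χ.2)
  have hconj : ∀ η : IrrCharacter N, mult (res N (χ : G → ℂ)) η ≠ 0 →
      (∑ n : N, f n * (η : N → ℂ) n = ∑ n : N, f n * (θ : N → ℂ) n) ∧
        (η : N → ℂ) 1 = (θ : N → ℂ) 1 := by
    intro η hη
    obtain ⟨g, hg⟩ := clifford_conj (N := N) χ θ η
      (by rw [← classInner_eq_multC]; exact h)
      (by rw [← classInner_eq_multC]; exact (classInner_ne_zero_iff_mult hres η).mpr hη)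
    constructor
    · rw [← hg]
      symm
      apply Fintype.sum_equiv (MulAut.conjNormal g : N ≃* N).toEquiv
      intro n
      have e1 : (MulAut.conjNormal g⁻¹ : N ≃* N) ((MulAut.conjNormal g : N ≃* N) n) = n := by
        apply Subtype.ext
        rw [MulAut.conjNormal_apply, MulAut.conjNormal_apply]
        group
      have e2 : f ((MulAut.conjNormal g : N ≃* N) n) = f n := by
        rw [← hf g n]
        congr 1
      show f n * (θ : N → ℂ) n = f ((MulAut.conjNormal g : N ≃* N) n) *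
        (θ : N → ℂ) ((MulAut.conjNormal g⁻¹ : N ≃* N) ((MulAut.conjNormal g : N ≃* N) n))
      rw [e1, e2]
    · rw [← hg, conjI_deg]
  have hχn : ∀ n : N, (χ : G → ℂ) n =
      ∑ η : IrrCharacter N, (mult (res N (χ : G → ℂ)) η : ℂ) * (η : N → ℂ) n :=
    fun n => char_expand hres n
  have hS1 : ∑ n : N, f n * (χ : G → ℂ) n =
      (∑ η : IrrCharacter N, (mult (res N (χ : G → ℂ)) η : ℂ)) *
        ∑ n : N, f n * (θ : N → ℂ) n := by
    have h1 : ∑ n : N, f n * (χ : G → ℂ) n = ∑ η : IrrCharacter N, ∑ n : N,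
        f n * ((mult (res N (χ : G → ℂ)) η : ℂ) * (η : N → ℂ) n) := by
      rw [Finset.sum_comm]
      apply Finset.sum_congr rfl
      intro n _
      rw [hχn n, Finset.mul_sum]
    rw [h1, Finset.sum_mul]
    apply Finset.sum_congr rfl
    intro η _
    by_cases hη : mult (res N (χ : G → ℂ)) η = 0
    · simp [hη]
    · rw [← (hconj η hη).1, Finset.mul_sum]
      apply Finset.sum_congr rfl
      intro n _
      ring
  have hS2 : (χ : G → ℂ) 1 =
      (∑ η : IrrCharacter N, (mult (res N (χ : G → ℂ)) η : ℂ)) * (θ : N → ℂ) 1 := by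
    have h1 := hχn 1
    rw [show (((1 : N) : G)) = 1 from rfl] at h1
    rw [h1, Finset.sum_mul]
    apply Finset.sum_congr rfl
    intro η _
    by_cases hη : mult (res N (χ : G → ℂ)) η = 0
    · simp [hη]
    · rw [(hconj η hη).2]
  have hθ1 : (θ : N → ℂ) 1 ≠ 0 := irr_one_ne_zero θ.2
  have hsum : (∑ η : IrrCharacter N, (mult (res N (χ : G → ℂ)) η : ℂ)) ≠ 0 := by
    intro h0
    have h2 := irr_one_ne_zero χ.2
    rw [hS2, h0, zero_mul] at h2
    exact h2 rfl
  rw [hS1, hS2]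
  field_simp

/-- Relative form of `sum_ratio_of_constituent`. -/
theorem sum_ratio_of_constituent_rel [Finite G] (K H : Subgroup G) [Fintype K] [Fintype H]
    (hKH : K ≤ H) (hn : ∀ h ∈ H, ∀ k ∈ K, h * k * h⁻¹ ∈ K)
    (ψ : IrrCharacter H) (ξ : IrrCharacter K)
    (h : classInner (fun k : K => (ψ : H → ℂ) ⟨k, hKH k.2⟩) (ξ : K → ℂ) ≠ 0)
    (f : K → ℂ) (hf : ∀ (x : H) (k : K), f ⟨x * k * (x : G)⁻¹, hn x x.2 k k.2⟩ = f k) :
    (∑ k : K, f k * (ψ : H → ℂ) ⟨k, hKH k.2⟩) / (ψ : H → ℂ) 1 =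
      (∑ k : K, f k * (ξ : K → ℂ) k) / (ξ : K → ℂ) 1 := by
  classical
  let _ : Fintype (K.subgroupOf H) := Fintype.ofFinite _
  have hnorm : (K.subgroupOf H).Normal := by
    constructor
    intro k hk x
    exact hn x x.2 k hk
  have h0 : classInner (fun k : K.subgroupOf H => (ψ : H → ℂ) k)
      (pull (sIso K H hKH) ξ : K.subgroupOf H → ℂ) ≠ 0 := by
    rw [classInner_pull_subgroupOf]
    exact h
  have key := sum_ratio_of_constituent (G := H) (K.subgroupOf H) ψ (pull (sIso K H hKH) ξ) h0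
    (fun k => f (sIso K H hKH k)) (by
      intro x k
      rw [← hf x (sIso K H hKH k)]
      congr 1)
  have e1 : ∑ n : K.subgroupOf H, f (sIso K H hKH n) * (ψ : H → ℂ) n =
      ∑ k : K, f k * (ψ : H → ℂ) ⟨k, hKH k.2⟩ := by
    apply Fintype.sum_equiv (sIso K H hKH).toEquiv
    intro n
    rfl
  have e2 : ∑ n : K.subgroupOf H, f (sIso K H hKH n) *
      (pull (sIso K H hKH) ξ : K.subgroupOf H → ℂ) n = ∑ k : K, f k * (ξ : K → ℂ) k := by
    apply Fintype.sum_equiv (sIso K H hKH).toEquiv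
    intro n
    rfl
  rw [e1, e2] at key
  rw [key, pull_apply, map_one]

/-- **Induction and covering.** -/
theorem induced_covers [Fintype G] (hMp : M.IsPrime) (N : Subgroup G) [hN : N.Normal]
    [Fintype N] (H : Subgroup G) [Fintype H] (K : Subgroup G) [Fintype K] (hKH : K ≤ H)
    (hKN : K ≤ N) (hK : ∀ x : G, x ∈ H → x ∈ N → x ∈ K)
    (c : Set (IrrCharacter H)) (B : Set (IrrCharacter G)) (hind : IsInducedBlock M H c B)
    (e : Set (IrrCharacter K)) (d : Set (IrrCharacter N))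
    (hed : IsInducedBlock M (K.subgroupOf N) (pull (sIso K N hKN) '' e) d)
    (hcov : ∃ ψ ∈ c, ∃ ξ ∈ e,
      classInner (fun k : K => (ψ : H → ℂ) ⟨k, hKH k.2⟩) (ξ : K → ℂ) ≠ 0) :
    ∃ χ ∈ B, ∃ θ ∈ d, classInner (fun n : N => (χ : G → ℂ) n) (θ : N → ℂ) ≠ 0 := by
  classical
  let _ : Fintype (K.subgroupOf N) := Fintype.ofFinite _
  obtain ⟨ψ, hψ, ξ, hξ, hcon⟩ := hcov
  have hB : IsPBlock M B := hind.2.1
  obtain ⟨χ, hχ⟩ := Cfsg.Agent.Lib.Helper16.ZR.isPBlock_nonempty hMp hB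
  have hd : IsPBlock M d := hed.2.1
  obtain ⟨θ, hθ⟩ := Cfsg.Agent.Lib.Helper16.ZR.isPBlock_nonempty hMp hd
  obtain ⟨S, hSdef⟩ : ∃ S : Set (IrrCharacter N), S = conjUnion N hN d := ⟨_, rfl⟩
  have hSst : GStable N hN S := hSdef ▸ gstable_conjUnion N hN d
  have hcl : BlockClosed M S := hSdef ▸ blockClosed_conjUnion hMp N hN d hd
  have hinv := ginv_blockIdem N hN S hSst
  obtain ⟨f, hfdef⟩ : ∃ f : N → ℂ, f = blockCoeff S := ⟨_, rfl⟩
  have hfinv : ∀ (g : G) (n : N), f ⟨g * n * g⁻¹, hN.conj_mem n n.2 g⟩ = f n := by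
    intro g n
    rw [hfdef]
    exact hinv g n
  have hfR : ∀ n : N, MemLocalRing M (f n) := by
    intro n
    rw [hfdef]
    exact blockCoeff_memLocalRing_of_closed hMp S hcl n
  obtain ⟨F, hFdef⟩ : ∃ F : G → ℂ, F = extendByZero N f := ⟨_, rfl⟩
  have hFmem : ∀ (g : G) (hg : g ∈ N), F g = f ⟨g, hg⟩ := by
    intro g hg
    rw [hFdef]
    exact extendByZero_apply_of_mem N _ hg
  have hFnot : ∀ g : G, g ∉ N → F g = 0 := by
    intro g hg
    rw [hFdef]
    exact extendByZero_apply_of_not_mem N _ hg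
  have hFcl : ∀ x g : G, F (x * g * x⁻¹) = F g := by
    intro x g
    by_cases hg : g ∈ N
    · rw [hFmem g hg, hFmem _ (hN.conj_mem g hg x)]
      exact hfinv x ⟨g, hg⟩
    · have h1 : x * g * x⁻¹ ∉ N := by
        intro h
        apply hg
        have h2 := hN.conj_mem _ h x⁻¹
        simpa [mul_assoc] using h2
      rw [hFnot g hg, hFnot _ h1]
  have hFR : ∀ g, MemLocalRing M (F g) := by
    intro g
    by_cases hg : g ∈ N
    · rw [hFmem g hg]
      exact hfR _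
    · rw [hFnot g hg]
      exact memLocalRing_zero hMp
  -- step A
  have hA := induced_sum_congr hMp H c B hind ψ hψ χ hχ F hFcl hFR
  have e1 : (∑ x : G, F x * (χ : G → ℂ) x) / (χ : G → ℂ) 1 =
      omega (χ : G → ℂ) (iota N (blockIdem S)) := by
    unfold omega
    rw [pair_iota, pair_eq_sum, hFdef, sum_extendByZero_mul, hfdef]
    rfl
  have e2 : ∑ h : H, F h * (ψ : H → ℂ) h =
      ∑ k : K, f ⟨k, hKN k.2⟩ * (ψ : H → ℂ) ⟨k, hKH k.2⟩ := by
    symm
    apply Finset.sum_bij_ne_zero (fun (k : K) _ _ => (⟨k, hKH k.2⟩ : H))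
    · intros
      exact Finset.mem_univ _
    · intro a _ _ b _ _ hab
      exact Subtype.ext (congrArg (fun h : H => (h : G)) hab)
    · intro h _ hne
      have hhN : (h : G) ∈ N := by
        by_contra hcon
        apply hne
        rw [hFnot _ hcon, zero_mul]
      refine ⟨⟨h, hK h h.2 hhN⟩, Finset.mem_univ _, ?_, rfl⟩
      rw [hFmem _ hhN] at hne
      exact hne
    · intro k _ _
      rw [hFmem _ (hKN k.2)]
  -- step B
  have e3 := sum_ratio_of_constituent_rel K H hKH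
    (fun h hh k hk => hK _ (H.mul_mem (H.mul_mem hh (hKH hk)) (H.inv_mem hh))
      (hN.conj_mem k (hKN hk) h)) ψ ξ hcon (fun k => f ⟨k, hKN k.2⟩) (by
      intro x k
      exact hfinv x ⟨k, hKN k.2⟩)
  -- step C
  have hC := induced_sum_congr (G := N) hMp (K.subgroupOf N) (pull (sIso K N hKN) '' e) d hed
    (pull (sIso K N hKN) ξ) ⟨ξ, hξ, rfl⟩ θ hθ f (by
      intro x g
      have h1 := hfinv (x : G) g
      rw [← h1]
      congr 1) hfR
  have e4 : ∑ h : K.subgroupOf N, f h * (pull (sIso K N hKN) ξ : K.subgroupOf N → ℂ) h =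
      ∑ k : K, f ⟨k, hKN k.2⟩ * (ξ : K → ℂ) k := by
    apply Fintype.sum_equiv (sIso K N hKN).toEquiv
    intro n
    rfl
  rw [e4, pull_apply, map_one] at hC
  have e5 : (∑ n : N, f n * (θ : N → ℂ) n) / (θ : N → ℂ) 1 = 1 := by
    have h1 := omega_blockIdem S θ
    rw [if_pos (hSdef ▸ subset_conjUnion N hN d hθ)] at h1
    unfold omega at h1
    rw [pair_eq_sum] at h1
    rw [hfdef]
    exact h1
  rw [e5] at hC
  rw [e1, e2, e3] at hA
  have hne : omega (χ : G → ℂ) (iota N (blockIdem S)) ≠ 0 := by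
    intro h0
    rw [h0] at hA
    have h2 := memLocalIdeal_sub hMp hC hA
    have h3 : (1 - (∑ k : K, f ⟨k, hKN k.2⟩ * (ξ : K → ℂ) k) / (ξ : K → ℂ) 1) -
        (0 - (∑ k : K, f ⟨k, hKN k.2⟩ * (ξ : K → ℂ) k) / (ξ : K → ℂ) 1) = 1 := by ring
    rw [h3] at h2
    exact not_memLocalIdeal_one hMp h2
  obtain ⟨θ', hθ'S, hθ'⟩ := exists_of_omega_iota_blockIdem_ne_zero N S χ hne
  rw [hSdef] at hθ'S
  obtain ⟨g, hg⟩ := hθ'S
  refine ⟨χ, hχ, cI N hN g θ', hg, ?_⟩
  rw [classInner_cI]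
  exact hθ'

end Cfsg.Agent.Lib.CT.KnInd
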