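import Cfsg.Agent.Lib.Helper16.FirstMain
import Cfsg.Agent.Lib.Helper16.Brauer
import Cfsg.Agent.Lib.Helper16.Transfer
import Cfsg.Agent.Lib.Helper77.BPEquiv2

/-!
# Relative forms of the first main theorem

Transport of defect groups between `K` and `K.subgroupOf H`, and the first main theorem for
the normalizer of a `p`-subgroup inside a subgroup `H` of `G`.
-/

set_option autoImplicit false
open Cfsg

namespace Cfsg.Agent.Lib.CT.KnRel

open Cfsg.Agent.Lib.Helper77.BPTransport Cfsg.Agent.Lib.Helper16.Transfer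
open Cfsg.Agent.Lib.Helper77.LocalRing

universe u
variable {G : Type u} [Group G] {M : Ideal AlgInt}

theorem map_sIso (K H : Subgroup G) (hKH : K ≤ H) (D : Subgroup G) :
    ((D.subgroupOf H).subgroupOf (K.subgroupOf H)).map (sIso K H hKH).symm.symm.toMonoidHom
      = D.subgroupOf K := by
  ext n
  rw [Subgroup.mem_map_equiv]
  rfl

theorem map_sIso_symm (K H : Subgroup G) (hKH : K ≤ H) (D : Subgroup G) :
    (D.subgroupOf K).map (sIso K H hKH).symm.toMonoidHom
      = (D.subgroupOf H).subgroupOf (K.subgroupOf H) := by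
  ext n
  rw [Subgroup.mem_map_equiv]
  rfl

/-- Defect groups of a block of `K` and of its copy on `K.subgroupOf H`. -/
theorem isDefectGroup_sIso_iff [Finite G] {p : ℕ} [Fact p.Prime] (K H : Subgroup G)
    (hKH : K ≤ H) (D : Subgroup G) (e : Set (IrrCharacter K)) :
    IsDefectGroup p M (pull (sIso K H hKH) '' e)
        ((D.subgroupOf H).subgroupOf (K.subgroupOf H)) ↔
      IsDefectGroup p M e (D.subgroupOf K) := by
  constructor
  · intro h
    have h1 := Cfsg.Agent.Lib.Helper77.BPEquiv2.isDefectGroup_pull (sIso K H hKH).symm h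
    rw [pull_symm_image_pull_image, map_sIso] at h1
    exact h1
  · intro h
    have h1 := Cfsg.Agent.Lib.Helper77.BPEquiv2.isDefectGroup_pull (sIso K H hKH) h
    rw [map_sIso_symm] at h1
    exact h1

/-- First main theorem, existence, for a subgroup given as equal to the normalizer. -/
theorem exists_block_of_eq_normalizer {X : Type u} [Group X] [Finite X] (p : ℕ) [Fact p.Prime]
    (hM : IsPModular p M) (D L : Subgroup X) (hL : L = Subgroup.normalizer (D : Set X))
    (B : Set (IrrCharacter X)) (hB : IsPBlock M B) (hDB : IsDefectGroup p M B D) :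
    ∃ b : Set (IrrCharacter L), IsDefectGroup p M b (D.subgroupOf L) ∧
      IsInducedBlock M L b B := by
  subst hL
  exact Cfsg.Agent.Lib.Helper16.FirstMain.exists_block_normalizer p hM D B hB hDB

/-- First main theorem: a block of the normalizer of `D` with defect group `D` induces a block
with defect group `D`. -/
theorem induced_of_eq_normalizer {X : Type u} [Group X] [Finite X] (p : ℕ) [Fact p.Prime]
    (hM : IsPModular p M) (D L : Subgroup X) (hL : L = Subgroup.normalizer (D : Set X))
    (hD : IsPGroup p D) (b : Set (IrrCharacter L)) (hb : IsPBlock M b)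
    (hDb : IsDefectGroup p M b (D.subgroupOf L)) :
    ∃ B : Set (IrrCharacter X), IsInducedBlock M L b B ∧ IsDefectGroup p M B D := by
  subst hL
  obtain ⟨B, hB⟩ := Cfsg.Agent.Lib.Helper16.Brauer.inducedBlockDefined_of_local hM D
    (Subgroup.normalizer (D : Set X)) hD Subgroup.le_normalizer
    (Subgroup.centralizer_le_normalizer _) le_rfl b hb
  exact ⟨B, hB, Cfsg.Agent.Lib.Helper16.FirstMain.isDefectGroup_induced p hM D b hDb B hB⟩

theorem unique_of_eq_normalizer {X : Type u} [Group X] [Finite X] (p : ℕ) [Fact p.Prime]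
    (hM : IsPModular p M) (D L : Subgroup X) (hL : L = Subgroup.normalizer (D : Set X))
    (B : Set (IrrCharacter X)) (b₁ b₂ : Set (IrrCharacter L))
    (hD1 : IsDefectGroup p M b₁ (D.subgroupOf L)) (hind1 : IsInducedBlock M L b₁ B)
    (hind2 : IsInducedBlock M L b₂ B) : b₁ = b₂ := by
  subst hL
  exact Cfsg.Agent.Lib.Helper16.FirstMain.block_normalizer_unique p hM D B b₁ b₂ hD1 hind1 hind2

theorem normalizer_subgroupOf_eq (D H K : Subgroup G) (hDH : D ≤ H)
    (hK : K = Subgroup.normalizer (D : Set G) ⊓ H) :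
    K.subgroupOf H = Subgroup.normalizer ((D.subgroupOf H : Subgroup H) : Set H) := by
  rw [hK, Subgroup.inf_subgroupOf_right, Subgroup.subgroupOf_normalizer_eq hDH]

/-- Relative first main theorem: existence of the correspondent in `K = N_H(D)`. -/
theorem rel_exists_block [Finite G] (p : ℕ) [Fact p.Prime] (hM : IsPModular p M)
    (D H K : Subgroup G) (hDH : D ≤ H) (hK : K = Subgroup.normalizer (D : Set G) ⊓ H)
    (hKH : K ≤ H) (B : Set (IrrCharacter H)) (hB : IsPBlock M B)
    (hDB : IsDefectGroup p M B (D.subgroupOf H)) :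
    ∃ b : Set (IrrCharacter K), IsPBlock M b ∧ IsDefectGroup p M b (D.subgroupOf K) ∧
      IsInducedBlock M (K.subgroupOf H) (pull (sIso K H hKH) '' b) B := by
  obtain ⟨b', hb'D, hb'i⟩ := exists_block_of_eq_normalizer p hM (D.subgroupOf H)
    (K.subgroupOf H) (normalizer_subgroupOf_eq D H K hDH hK) B hB hDB
  refine ⟨pull (sIso K H hKH).symm '' b', isPBlock_pull _ hb'i.1, ?_, ?_⟩
  · rw [← isDefectGroup_sIso_iff K H hKH D, pull_image_pull_symm_image]
    exact hb'D
  · rw [pull_image_pull_symm_image]
    exact hb'i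

/-- Relative first main theorem: induction from `K = N_H(D)`. -/
theorem rel_induced [Finite G] (p : ℕ) [Fact p.Prime] (hM : IsPModular p M)
    (D H K : Subgroup G) (hDH : D ≤ H) (hK : K = Subgroup.normalizer (D : Set G) ⊓ H)
    (hKH : K ≤ H) (hD : IsPGroup p D) (b : Set (IrrCharacter K)) (hb : IsPBlock M b)
    (hDb : IsDefectGroup p M b (D.subgroupOf K)) :
    ∃ B : Set (IrrCharacter H),
      IsInducedBlock M (K.subgroupOf H) (pull (sIso K H hKH) '' b) B ∧
        IsDefectGroup p M B (D.subgroupOf H) :=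
  induced_of_eq_normalizer p hM (D.subgroupOf H) (K.subgroupOf H)
    (normalizer_subgroupOf_eq D H K hDH hK) hD.comap_subtype _ (isPBlock_pull _ hb)
    ((isDefectGroup_sIso_iff K H hKH D b).mpr hDb)

/-- Relative first main theorem: uniqueness of the correspondent. -/
theorem rel_unique [Finite G] (p : ℕ) [Fact p.Prime] (hM : IsPModular p M)
    (D H K : Subgroup G) (hDH : D ≤ H) (hK : K = Subgroup.normalizer (D : Set G) ⊓ H)
    (hKH : K ≤ H) (B : Set (IrrCharacter H)) (b₁ b₂ : Set (IrrCharacter K))
    (hD1 : IsDefectGroup p M b₁ (D.subgroupOf K))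
    (h1 : IsInducedBlock M (K.subgroupOf H) (pull (sIso K H hKH) '' b₁) B)
    (h2 : IsInducedBlock M (K.subgroupOf H) (pull (sIso K H hKH) '' b₂) B) : b₁ = b₂ := by
  have h3 := unique_of_eq_normalizer p hM (D.subgroupOf H) (K.subgroupOf H)
    (normalizer_subgroupOf_eq D H K hDH hK) B _ _
    ((isDefectGroup_sIso_iff K H hKH D b₁).mpr hD1) h1 h2
  exact (pull_injective (sIso K H hKH)).image_injective h3

end Cfsg.Agent.Lib.CT.KnRel
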