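import Cfsg.Agent.Lib.CT.KnNormal
import Cfsg.Agent.Lib.CT.KnInd
import Cfsg.Agent.Lib.CT.KnRel
import Cfsg.Agent.Lib.Helper16.Cover

/-!
# Knörr's theorem: a block with defect group `P ≤ N` covers a block of `N` with defect group `P`
-/

set_option autoImplicit false
open Cfsg

namespace Cfsg.Agent.Lib.CT.KnCore

open Cfsg.Agent.Lib.CT.Wedderburn Cfsg.Agent.Lib.CT.KnUtil Cfsg.Agent.Lib.CT.DefectZeroBlock
open Cfsg.Agent.Lib.Helper77.BPTransport Cfsg.Agent.Lib.Helper16.Transfer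
open Cfsg.Agent.Lib.Helper77.LocalRing Cfsg.Agent.Lib.Helper16.Normal
open Cfsg.Agent.Lib.Helper16.MinMax
open Cfsg.Agent.Lib.CT.KnNormal Cfsg.Agent.Lib.CT.KnInd Cfsg.Agent.Lib.CT.KnRel
open Cfsg.Agent.Lib.Helper77.DefectClass

universe u
variable {G : Type u} [Group G] {M : Ideal AlgInt}

/-- If the block `B` of `G` has a defect group `P` contained in the normal subgroup `N`, then
`B` covers a block of `N` with defect group `P`. -/
theorem knorr_core [Fintype G] (p : ℕ) [Fact p.Prime] (hM : IsPModular p M)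
    (N : Subgroup G) [hN : N.Normal] [Fintype N] (P : Subgroup G) (hPN : P ≤ N)
    (B : Set (IrrCharacter G)) (hB : IsPBlock M B) (hP : IsDefectGroup p M B P) :
    ∃ b : Set (IrrCharacter N), IsPBlock M b ∧ IsDefectGroup p M b (P.subgroupOf N) ∧
      ∃ χ ∈ B, ∃ θ ∈ b, classInner (fun n : N => (χ : G → ℂ) n) (θ : N → ℂ) ≠ 0 := by
  classical
  have hMp := isPrime_of_isPModular hM
  have hPp : IsPGroup p P := by
    obtain ⟨g, -, hg⟩ := isDefectGroup_iff.mp hP
    exact hg.2.1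
  obtain ⟨H, hHdef⟩ : ∃ H : Subgroup G, H = Subgroup.normalizer (P : Set G) := ⟨_, rfl⟩
  let _ : Fintype H := Fintype.ofFinite _
  have hPH : P ≤ H := hHdef ▸ Subgroup.le_normalizer
  obtain ⟨B', hB'P, hind⟩ := exists_block_of_eq_normalizer p hM P H hHdef B hB hP
  have hB' : IsPBlock M B' := hind.1
  obtain ⟨K, hKdef⟩ : ∃ K : Subgroup G, K = H ⊓ N := ⟨_, rfl⟩
  let _ : Fintype K := Fintype.ofFinite _
  have hKH : K ≤ H := hKdef ▸ inf_le_left
  have hKN : K ≤ N := hKdef ▸ inf_le_right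
  have hPK : P ≤ K := hKdef ▸ le_inf hPH hPN
  have hKmem : ∀ x, x ∈ H → x ∈ N → x ∈ K := fun x h1 h2 => hKdef ▸ ⟨h1, h2⟩
  -- in the group `H`
  have hK'n : (K.subgroupOf H).Normal := by
    rw [hKdef, Subgroup.inf_subgroupOf_left]
    infer_instance
  have hP'n : (P.subgroupOf H).Normal :=
    (Subgroup.normal_subgroupOf_iff_le_normalizer hPH).mpr (le_of_eq hHdef)
  let _ : Fintype (K.subgroupOf H) := Fintype.ofFinite _
  obtain ⟨χ', hχ'⟩ := isPBlock_nonempty hMp hB'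
  obtain ⟨θ', hθ'⟩ := Cfsg.Agent.Lib.Helper16.Cover.exists_constituent (K.subgroupOf H) χ'
  have hnc := normal_case (G := H) p hM (K.subgroupOf H) (P.subgroupOf H)
    (fun x hx => hPK hx) B' hB' hB'P (blockOf M (θ' : K.subgroupOf H → ℂ)) ⟨θ', rfl⟩
    ⟨χ', hχ', θ', self_mem_blockOf hMp θ', hθ'⟩
  obtain ⟨e, hedef⟩ : ∃ e : Set (IrrCharacter K),
      e = pull (sIso K H hKH).symm '' blockOf M (θ' : K.subgroupOf H → ℂ) := ⟨_, rfl⟩
  have he' : pull (sIso K H hKH) '' e = blockOf M (θ' : K.subgroupOf H → ℂ) := by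
    rw [hedef, pull_image_pull_symm_image]
  have heb : IsPBlock M e := hedef ▸ isPBlock_pull _ ⟨θ', rfl⟩
  have heD : IsDefectGroup p M e (P.subgroupOf K) := by
    rw [← isDefectGroup_sIso_iff K H hKH P, he']
    exact hnc
  have hKN' : K = Subgroup.normalizer (P : Set G) ⊓ N := by rw [hKdef, hHdef]
  obtain ⟨d, hed, hdD⟩ := rel_induced p hM P N K hPN hKN' hKN hPp e heb heD
  refine ⟨d, hed.2.1, hdD, ?_⟩
  apply induced_covers hMp N H K hKH hKN hKmem B' B hind e d hed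
  exact (Cfsg.Agent.Lib.Helper16.UniqueCover.cover_pull_iff K H hKH e B').mp
    ⟨χ', hχ', θ', by rw [he']; exact self_mem_blockOf hMp θ', hθ'⟩

end Cfsg.Agent.Lib.CT.KnCore
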