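import Cfsg.Agent.Lib.CT.DefectZeroBlock
import Cfsg.Agent.Lib.CT.Kernel
import Cfsg.Agent.Lib.Helper16.QuotP
import Cfsg.Agent.Lib.Helper16.QuotP2
import Cfsg.Agent.Lib.Helper16.MinMax
import Cfsg.Agent.Lib.Helper16.Defect

/-!
# Canonical characters

Let `Q` be a normal `p`-subgroup of `G` whose centralizer has `p`-power index, and `θ` an
irreducible character of `G` with `Q` in its kernel and of `p`-defect zero modulo `Q`.  Then `θ`
is the only character of its block with `Q` in the kernel, and the block has defect `ν_p |Q|`.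
-/

set_option autoImplicit false
open Cfsg

namespace Cfsg.Agent.Lib.CT.KnDZ

open Cfsg.Agent.Lib.CT.Wedderburn Cfsg.Agent.Lib.CT.DefectZeroBlock Cfsg.Agent.Lib.CT.Kernel
open Cfsg.Agent.Lib.Helper77.LocalRing

universe u
variable {G : Type u} [Group G] {M : Ideal AlgInt}

theorem quot_defect_zero [Finite G] (p : ℕ) [Fact p.Prime] (Q : Subgroup G) [Q.Normal]
    (θ : IrrCharacter G)
    (hdeg : (Nat.card G).factorization p ≤
      (charDegree (θ : G → ℂ)).factorization p + (Nat.card Q).factorization p)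
    (θb : IrrCharacter (G ⧸ Q)) (hθe : ∀ g : G, (θb : G ⧸ Q → ℂ) (g : G ⧸ Q) = (θ : G → ℂ) g) :
    (charDegree (θb : G ⧸ Q → ℂ)).factorization p = (Nat.card (G ⧸ Q)).factorization p := by
  have hcard : Nat.card G = Nat.card (G ⧸ Q) * Nat.card Q :=
    Subgroup.card_eq_card_quotient_mul_card_subgroup Q
  apply le_antisymm (factorization_charDegree_le p θb)
  have h1 : charDegree (θb : G ⧸ Q → ℂ) = charDegree (θ : G → ℂ) := by
    unfold charDegree
    rw [← hθe 1]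
    rfl
  rw [h1]
  rw [hcard, Nat.factorization_mul Nat.card_pos.ne' Nat.card_pos.ne'] at hdeg
  have h2 : ((Nat.card (G ⧸ Q)).factorization + (Nat.card Q).factorization) p =
      (Nat.card (G ⧸ Q)).factorization p + (Nat.card Q).factorization p := rfl
  rw [h2] at hdeg
  omega

/-- Uniqueness of the canonical character in its block. -/
theorem canonical_unique [Finite G] (p : ℕ) [Fact p.Prime] (hM : IsPModular p M)
    (Q : Subgroup G) [Q.Normal] (hQ : IsPGroup p Q) {k : ℕ}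
    (hC : (Subgroup.centralizer (Q : Set G)).index = p ^ k)
    (θ : IrrCharacter G) (hker : ∀ u ∈ Q, (θ : G → ℂ) u = (θ : G → ℂ) 1)
    (hdeg : (Nat.card G).factorization p ≤
      (charDegree (θ : G → ℂ)).factorization p + (Nat.card Q).factorization p)
    (ψ : IrrCharacter G) (hψ : SameBlock M (θ : G → ℂ) (ψ : G → ℂ))
    (hψker : ∀ u ∈ Q, (ψ : G → ℂ) u = (ψ : G → ℂ) 1) : ψ = θ := by
  obtain ⟨θb, hθb, hθe⟩ := exists_quotient_irr Q θ.2 hker
  obtain ⟨ψb, hψb, hψe⟩ := exists_quotient_irr Q ψ.2 hψker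
  have hdz := quot_defect_zero p Q θ hdeg ⟨θb, hθb⟩ hθe
  have hsing := blockOf_eq_singleton_of_defect_zero hM ⟨θb, hθb⟩ hdz
  have hsb : SameBlock M θb ψb :=
    Cfsg.Agent.Lib.Helper16.QuotP.sameBlock_of_comp_mk_pGroup p hM Q hQ hC ⟨θb, hθb⟩ ⟨ψb, hψb⟩ (by
      have e1 : (fun g : G => θb (g : G ⧸ Q)) = (θ : G → ℂ) := funext hθe
      have e2 : (fun g : G => ψb (g : G ⧸ Q)) = (ψ : G → ℂ) := funext hψe
      show SameBlock M (fun g : G => θb (g : G ⧸ Q)) (fun g : G => ψb (g : G ⧸ Q))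
      rw [e1, e2]
      exact hψ)
  have hmem : (⟨ψb, hψb⟩ : IrrCharacter (G ⧸ Q)) ∈
      blockOf M ((⟨θb, hθb⟩ : IrrCharacter (G ⧸ Q)) : G ⧸ Q → ℂ) := hsb
  rw [hsing] at hmem
  have h1 : ψb = θb := congrArg Subtype.val (Set.mem_singleton_iff.mp hmem)
  apply Subtype.ext
  funext g
  rw [← hψe g, ← hθe g, h1]

/-- The block of a canonical character has defect at most `ν_p |Q|`. -/
theorem blockDefect_le [Finite G] (p : ℕ) [Fact p.Prime] (hM : IsPModular p M)
    (Q : Subgroup G) [Q.Normal] (hQ : IsPGroup p Q) {k : ℕ}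
    (hC : (Subgroup.centralizer (Q : Set G)).index = p ^ k)
    (θ : IrrCharacter G) (hker : ∀ u ∈ Q, (θ : G → ℂ) u = (θ : G → ℂ) 1)
    (hdeg : (Nat.card G).factorization p ≤
      (charDegree (θ : G → ℂ)).factorization p + (Nat.card Q).factorization p) :
    blockDefect p (blockOf M (θ : G → ℂ)) ≤ (Nat.card Q).factorization p := by
  have hp : p.Prime := Fact.out
  have hMp := isPrime_of_isPModular hM
  have hB : IsPBlock M (blockOf M (θ : G → ℂ)) := ⟨θ, rfl⟩
  obtain ⟨Bbar, hBbar, hsub, hdef⟩ :=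
    Cfsg.Agent.Lib.Helper16.QuotP2.exists_block_quot p hM Q hQ (blockOf M (θ : G → ℂ)) hB
  obtain ⟨χb, hχb⟩ := isPBlock_nonempty hMp hBbar
  obtain ⟨ψ, hψ⟩ : ∃ ψ : IrrCharacter G, (ψ : G → ℂ) = fun g : G => (χb : G ⧸ Q → ℂ) (g : G ⧸ Q) :=
    ⟨⟨_, isIrrCharacter_inflation Q χb.2⟩, rfl⟩
  have hψB : ψ ∈ blockOf M (θ : G → ℂ) := hsub χb hχb ψ hψ
  have hψker : ∀ u ∈ Q, (ψ : G → ℂ) u = (ψ : G → ℂ) 1 := by
    intro u hu
    rw [hψ]
    exact inflation_apply_of_mem Q _ hu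
  have hψθ : ψ = θ := canonical_unique p hM Q hQ hC θ hker hdeg ψ hψB hψker
  have hχe : ∀ g : G, (χb : G ⧸ Q → ℂ) (g : G ⧸ Q) = (θ : G → ℂ) g := by
    intro g
    rw [← hψθ, hψ]
  have hdz := quot_defect_zero p Q θ hdeg χb hχe
  have hBbar_eq : Bbar = {χb} := by
    rw [eq_blockOf_of_mem hMp hBbar hχb]
    exact blockOf_eq_singleton_of_defect_zero hM χb hdz
  have hdef0 : blockDefect p Bbar = 0 := by
    rw [hBbar_eq]
    apply (blockDefect_eq_zero_iff p {χb} ⟨χb, rfl⟩).mpr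
    intro χ hχ
    rw [Set.mem_singleton_iff.mp hχ]
    exact hdz
  obtain ⟨D, hD⟩ := Cfsg.Agent.Lib.Helper16.MinMax.exists_defectGroup hM _ hB
  have hDbar : IsDefectGroup p M Bbar (D.map (QuotientGroup.mk' Q)) := (hdef _).mpr ⟨D, hD, rfl⟩
  have hc := Cfsg.Agent.Lib.Helper16.Defect.card_defectGroup p hM Bbar hBbar _ hDbar
  rw [hdef0, pow_zero] at hc
  have hbot : D.map (QuotientGroup.mk' Q) = ⊥ := Subgroup.card_eq_one.mp hc
  have hDQ : D ≤ Q := by
    have h1 := (Subgroup.map_eq_bot_iff D).mp hbot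
    rwa [QuotientGroup.ker_mk'] at h1
  have hcD := Cfsg.Agent.Lib.Helper16.Defect.card_defectGroup p hM _ hB D hD
  have hdvd : p ^ blockDefect p (blockOf M (θ : G → ℂ)) ∣ Nat.card Q :=
    hcD ▸ Subgroup.card_dvd_of_le hDQ
  exact (hp.pow_dvd_iff_le_factorization Nat.card_pos.ne').mp hdvd

end Cfsg.Agent.Lib.CT.KnDZ
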