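import Cfsg.Agent.Lib.CT.KnConj

/-!
# Stabilizers of covered blocks and defect groups inside the normal subgroup

If `N ≤ L` are normal in `G`, `L / N` is a `p`-group, `B` covers the block `c` of `N` and `B`
has a defect group contained in `N`, then the stabilizer of `c` in `L` is `N`.
-/

set_option autoImplicit false
open Cfsg

namespace Cfsg.Agent.Lib.CT.KnFR

open Cfsg.Agent.Lib.CT.Wedderburn Cfsg.Agent.Lib.CT.KnUtil Cfsg.Agent.Lib.CT.DefectZeroBlock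
open Cfsg.Agent.Lib.Helper77.BPTransport Cfsg.Agent.Lib.Helper16.Transfer
open Cfsg.Agent.Lib.Helper77.LocalRing Cfsg.Agent.Lib.Helper16.Normal
open Cfsg.Agent.Lib.Helper33.Conj Cfsg.Agent.Lib.Helper16.MinMax
open Cfsg.Agent.Lib.CT.KnMain Cfsg.Agent.Lib.CT.KnConj Cfsg.Agent.Lib.Helper77.DefectClass
open Cfsg.Agent.Lib.Helper16.UniqueCover

universe u
variable {G : Type u} [Group G] {M : Ideal AlgInt}

theorem stab_inf_eq [Fintype G] (p : ℕ) [Fact p.Prime] (hM : IsPModular p M)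
    (N L : Subgroup G) [hN : N.Normal] [hL : L.Normal] [Fintype N] (hNL : N ≤ L)
    (hLN : ∃ k : ℕ, (N.subgroupOf L).index = p ^ k)
    (B : Set (IrrCharacter G)) (hB : IsPBlock M B) (c : Set (IrrCharacter N))
    (hc : IsPBlock M c)
    (hcov : ∃ χ ∈ B, ∃ θ ∈ c, classInner (fun n : N => (χ : G → ℂ) n) (θ : N → ℂ) ≠ 0)
    (hD : ∃ D : Subgroup G, IsDefectGroup p M B D ∧ D ≤ N)
    (x : G) (hxL : x ∈ L) (hx : ∀ θ ∈ c, cI N hN x θ ∈ c) : x ∈ N := by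
  classical
  have hp : p.Prime := Fact.out
  have hMp := isPrime_of_isPModular hM
  let _ : Fintype L := Fintype.ofFinite _
  obtain ⟨χ, hχ, θ, hθ, hχθ⟩ := hcov
  obtain ⟨ξ, hχξ, hξθ⟩ := exists_middle N L hNL χ θ hχθ
  -- a block of `L`
  obtain ⟨BL, hBLdef⟩ : ∃ BL : Set (IrrCharacter L), BL = blockOf M (ξ : L → ℂ) := ⟨_, rfl⟩
  have hBL : IsPBlock M BL := hBLdef ▸ ⟨ξ, rfl⟩
  have hξBL : ξ ∈ BL := hBLdef ▸ self_mem_blockOf hMp ξ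
  obtain ⟨DL, hDL⟩ := exists_defectGroup hM BL hBL
  have hDL' : IsDefectGroup p M BL ((DL.map L.subtype).subgroupOf L) := by
    have e : (DL.map L.subtype).subgroupOf L = DL :=
      Subgroup.comap_map_eq_self_of_injective L.subtype_injective DL
    rw [e]
    exact hDL
  obtain ⟨P, hP, hPL⟩ := knorr p hM L BL hBL (DL.map L.subtype) (Subgroup.map_subtype_le DL)
    hDL' B hB ⟨χ, hχ, ξ, hξBL, hχξ⟩
  obtain ⟨D, hDB, hDN⟩ := hD
  obtain ⟨g, hg⟩ := defectGroup_conj hM B hB hDB hP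
  have hPN : P ≤ N := by
    rw [hg]
    intro y hy
    rw [mem_cj] at hy
    have h1 := hN.conj_mem _ (hDN hy) g
    simpa [mul_assoc] using h1
  have hDLN : DL ≤ N.subgroupOf L := by
    intro y hy
    have h1 : (y : G) ∈ DL.map L.subtype := ⟨y, hy, rfl⟩
    rw [← hPL] at h1
    exact hPN h1.1
  -- in the group `L`
  have hN₂n : (N.subgroupOf L).Normal := inferInstance
  let _ : Fintype (N.subgroupOf L) := Fintype.ofFinite _
  obtain ⟨c₂, hc₂def⟩ : ∃ c₂ : Set (IrrCharacter (N.subgroupOf L)),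
      c₂ = pull (sIso N L hNL) '' c := ⟨_, rfl⟩
  have hc₂ : IsPBlock M c₂ := hc₂def ▸ isPBlock_pull _ hc
  have hcov₂ : ∃ χ ∈ BL, ∃ θ ∈ c₂,
      classInner (fun n : N.subgroupOf L => (χ : L → ℂ) n) (θ : N.subgroupOf L → ℂ) ≠ 0 := by
    rw [hc₂def]
    exact (cover_pull_iff N L hNL c BL).mpr ⟨ξ, hξBL, θ, hθ, hξθ⟩
  obtain ⟨T₂, hT₂⟩ := Cfsg.Agent.Lib.Helper16.Reynolds.exists_stab (N.subgroupOf L) hN₂n c₂
  have hNT₂ : N.subgroupOf L ≤ T₂ := by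
    intro g hg
    rw [hT₂]
    intro θ hθ
    rw [Cfsg.Agent.Lib.Helper16.ExtFirst2.cI_of_mem _ hN₂n g hg θ]
    exact hθ
  let _ : Fintype T₂ := Fintype.ofFinite _
  obtain ⟨B', hB', hcov', hind'⟩ := Cfsg.Agent.Lib.Helper16.FR4.fr_surjective (N.subgroupOf L)
    hN₂n T₂ hNT₂ c₂ p hM hc₂ hT₂ BL hBL hcov₂
  obtain ⟨D', hD'⟩ := exists_defectGroup hM B' hB'
  have hD₁ := (Cfsg.Agent.Lib.Helper16.FR4.fr_defect (N.subgroupOf L) hN₂n T₂ hNT₂ c₂ p hM hc₂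
    hT₂ B' hB' hcov' BL hind').1 D' hD'
  obtain ⟨y, hy⟩ := defectGroup_conj hM BL hBL hDL hD₁
  have hD'N : D'.map T₂.subtype ≤ N.subgroupOf L := by
    rw [hy]
    intro z hz
    rw [mem_cj] at hz
    have h1 := hN₂n.conj_mem _ (hDLN hz) y
    simpa [mul_assoc] using h1
  -- in the group `T₂`
  have hN₃n : ((N.subgroupOf L).subgroupOf T₂).Normal := inferInstance
  let _ : Fintype ((N.subgroupOf L).subgroupOf T₂) := Fintype.ofFinite _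
  obtain ⟨k, hk⟩ := hLN
  obtain ⟨k₃, hk₃⟩ : ∃ k₃ : ℕ, ((N.subgroupOf L).subgroupOf T₂).index = p ^ k₃ := by
    have h1 : (N.subgroupOf L).relIndex T₂ ∣ (N.subgroupOf L).index :=
      Dvd.intro _ (Subgroup.relIndex_mul_index hNT₂)
    rw [hk] at h1
    obtain ⟨j, -, hj⟩ := (Nat.dvd_prime_pow hp).mp h1
    exact ⟨j, hj⟩
  obtain ⟨c₃, hc₃def⟩ : ∃ c₃ : Set (IrrCharacter ((N.subgroupOf L).subgroupOf T₂)),
      c₃ = pull (sIso (N.subgroupOf L) T₂ hNT₂) '' c₂ := ⟨_, rfl⟩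
  have hc₃ : IsPBlock M c₃ := hc₃def ▸ isPBlock_pull _ hc₂
  have hst₃ : GStable ((N.subgroupOf L).subgroupOf T₂) hN₃n c₃ := by
    intro θ₃ hθ₃ t
    rw [hc₃def] at hθ₃ ⊢
    obtain ⟨θ₂, hθ₂, rfl⟩ := hθ₃
    rw [cI_pull_subgroupOf (N.subgroupOf L) T₂ hN₂n hNT₂ hN₃n t θ₂]
    exact ⟨_, (hT₂ (t : L)).mp t.2 θ₂ hθ₂, rfl⟩
  have hcov₃ : ∃ χ ∈ B', ∃ θ ∈ c₃,
      classInner (fun n : (N.subgroupOf L).subgroupOf T₂ => (χ : T₂ → ℂ) n)
        (θ : (N.subgroupOf L).subgroupOf T₂ → ℂ) ≠ 0 := by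
    rw [hc₃def]
    exact (cover_pull_iff (N.subgroupOf L) T₂ hNT₂ c₂ B').mpr hcov'
  obtain ⟨B₀, hB₀, hidem, -, huniq⟩ :=
    Cfsg.Agent.Lib.Helper16.Fong2.exists_block_of_pow_index (G := T₂) p hM
      ((N.subgroupOf L).subgroupOf T₂) hk₃ c₃ hc₃ hst₃
  have hB'B₀ : B' = B₀ := huniq B' hB' hcov₃
  have hsup := (Cfsg.Agent.Lib.Helper16.Fong2.defect_of_pow_index (G := T₂) p hM
    ((N.subgroupOf L).subgroupOf T₂) hk₃ c₃ hc₃ hst₃ B' (hB'B₀ ▸ hidem) D' hD').1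
  have hD'le : D' ≤ (N.subgroupOf L).subgroupOf T₂ := by
    intro d hd
    exact hD'N ⟨d, hd, rfl⟩
  have htop : (N.subgroupOf L).subgroupOf T₂ = ⊤ := by
    rw [← hsup]
    exact (sup_eq_left.mpr hD'le).symm
  have hT₂N : T₂ ≤ N.subgroupOf L := Subgroup.subgroupOf_eq_top.mp htop
  have hxT₂ : (⟨x, hxL⟩ : L) ∈ T₂ := by
    rw [hT₂]
    intro θ₂ hθ₂
    rw [hc₂def] at hθ₂ ⊢
    obtain ⟨θ₀, hθ₀, rfl⟩ := hθ₂
    rw [cI_pull_subgroupOf N L hN hNL hN₂n ⟨x, hxL⟩ θ₀]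
    exact ⟨_, hx θ₀ hθ₀, rfl⟩
  exact hT₂N hxT₂

end Cfsg.Agent.Lib.CT.KnFR
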