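import Cfsg.Agent.Lib.CT.KnConj
import Cfsg.Agent.Lib.CT.PrincipalSection

/-!
# Tools for the Harris–Knörr correspondence

* `isInducedBlock_sIso_iff`: induction inside a subgroup (`IsInducedBlockIn`) versus induction
  from `K.subgroupOf N`.
* `isInducedBlockIn_conj`: conjugation of an induced block relation.
* `conjK`, `classInner_conjK`: conjugation by a normalizing element.
* `isDefectGroup_of_induced`, `correspondent_unique`: the Brauer correspondence over a subgroup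
  containing the normalizer of the defect group.
-/

set_option autoImplicit false
open Cfsg

namespace Cfsg.Agent.Lib.CT.KnHK0

open Cfsg.Agent.Lib.CT.Wedderburn Cfsg.Agent.Lib.CT.KnUtil
open Cfsg.Agent.Lib.Helper77.BPTransport Cfsg.Agent.Lib.Helper16.Transfer
open Cfsg.Agent.Lib.Helper77.LocalRing Cfsg.Agent.Lib.Helper16.Normal
open Cfsg.Agent.Lib.Helper33.Conj Cfsg.Agent.Lib.Helper16.MinMax
open Cfsg.Agent.Lib.CT.KnMain Cfsg.Agent.Lib.CT.KnConj Cfsg.Agent.Lib.CT.KnRel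

universe u
variable {G : Type u} [Group G] {M : Ideal AlgInt}

theorem inducedCentralChar_sIso (K N : Subgroup G) (hKN : K ≤ N) (ξ : K → ℂ) (n : N) :
    inducedCentralChar (K.subgroupOf N) (fun x => ξ (sIso K N hKN x)) n =
      inducedCentralCharIn N K ξ (n : G) := by
  classical
  unfold inducedCentralChar inducedCentralCharIn
  rw [finsum_mem_def, finsum_mem_def, ← finsum_comp_equiv (sIso K N hKN).toEquiv]
  apply finsum_congr
  intro k
  show Set.indicator _ _ k = Set.indicator _ _ (sIso K N hKN k)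
  rw [Set.indicator_apply, Set.indicator_apply]
  have hiff : k ∈ {k : K.subgroupOf N | IsConj n (k : N)} ↔
      sIso K N hKN k ∈ {k : K | ∃ x : N, (x : G) * (k : G) * (x : G)⁻¹ = (n : G)} := by
    show IsConj n (k : N) ↔ ∃ x : N, (x : G) * ((k : N) : G) * (x : G)⁻¹ = (n : G)
    rw [isConj_iff]
    constructor
    · rintro ⟨c, hc⟩
      refine ⟨c⁻¹, ?_⟩
      rw [← hc]
      simp only [Subgroup.coe_mul, Subgroup.coe_inv]
      group
    · rintro ⟨x, hx⟩
      refine ⟨x⁻¹, Subtype.ext ?_⟩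
      simp only [Subgroup.coe_mul, Subgroup.coe_inv]
      rw [← hx]
      group
  by_cases hk : k ∈ {k : K.subgroupOf N | IsConj n (k : N)}
  · rw [if_pos hk, if_pos (hiff.mp hk)]
    show ξ (sIso K N hKN k) / ξ (sIso K N hKN 1) = _
    rw [map_one]
  · rw [if_neg hk, if_neg (fun h' => hk (hiff.mpr h'))]

theorem isInducedBlock_sIso_iff (K N : Subgroup G) (hKN : K ≤ N) {e : Set (IrrCharacter K)}
    (he : IsPBlock M e) (d : Set (IrrCharacter N)) :
    IsInducedBlock M (K.subgroupOf N) (pull (sIso K N hKN) '' e) d ↔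
      IsInducedBlockIn M N K e d := by
  constructor
  · rintro ⟨_, hf, h⟩
    refine ⟨he, hf, fun ξ hξ χ hχ x => ?_⟩
    have h1 := h (pull (sIso K N hKN) ξ) ⟨ξ, hξ, rfl⟩ χ hχ x
    rw [← inducedCentralChar_sIso K N hKN]
    exact h1
  · rintro ⟨_, hf, h⟩
    refine ⟨isPBlock_pull _ he, hf, ?_⟩
    rintro ξ' ⟨ξ, hξ, rfl⟩ χ hχ x
    have h1 := h ξ hξ χ hχ x
    rw [← inducedCentralChar_sIso K N hKN] at h1
    exact h1

theorem inducedCentralCharIn_conj (N K : Subgroup G) [hN : N.Normal] (h : G) (σ : K ≃* K)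
    (hσ : ∀ k : K, ((σ k : K) : G) = h * k * h⁻¹) (ξ : K → ℂ) (n : N) :
    inducedCentralCharIn N K (fun k => ξ (σ k)) (n : G) =
      inducedCentralCharIn N K ξ (h * n * h⁻¹) := by
  classical
  unfold inducedCentralCharIn
  rw [finsum_mem_def, finsum_mem_def]
  have key : ∑ᶠ k : K, Set.indicator
        {k : K | ∃ x : N, (x : G) * (k : G) * (x : G)⁻¹ = h * n * h⁻¹}
        (fun k : K => ξ k / ξ 1) (σ k) =
      ∑ᶠ k : K, Set.indicator {k : K | ∃ x : N, (x : G) * (k : G) * (x : G)⁻¹ = h * n * h⁻¹}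
        (fun k : K => ξ k / ξ 1) k :=
    finsum_comp_equiv σ.toEquiv
  rw [← key]
  apply finsum_congr
  intro k
  show Set.indicator {k : K | ∃ x : N, (x : G) * (k : G) * (x : G)⁻¹ = (n : G)}
      (fun k : K => ξ (σ k) / ξ (σ 1)) k =
    Set.indicator {k : K | ∃ x : N, (x : G) * (k : G) * (x : G)⁻¹ = h * n * h⁻¹}
      (fun k : K => ξ k / ξ 1) (σ k)
  rw [Set.indicator_apply, Set.indicator_apply]
  have hiff : k ∈ {k : K | ∃ x : N, (x : G) * (k : G) * (x : G)⁻¹ = (n : G)} ↔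
      σ k ∈ {k : K | ∃ x : N, (x : G) * (k : G) * (x : G)⁻¹ = h * n * h⁻¹} := by
    show (∃ x : N, (x : G) * (k : G) * (x : G)⁻¹ = (n : G)) ↔
      ∃ x : N, (x : G) * ((σ k : K) : G) * (x : G)⁻¹ = h * n * h⁻¹
    rw [hσ]
    constructor
    · rintro ⟨x, hx⟩
      refine ⟨⟨h * x * h⁻¹, hN.conj_mem x x.2 h⟩, ?_⟩
      show h * x * h⁻¹ * (h * k * h⁻¹) * (h * x * h⁻¹)⁻¹ = h * n * h⁻¹
      rw [← hx]
      group
    · rintro ⟨x, hx⟩
      refine ⟨⟨h⁻¹ * x * h, by
        have h1 := hN.conj_mem x x.2 h⁻¹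
        simpa using h1⟩, ?_⟩
      show h⁻¹ * x * h * k * (h⁻¹ * x * h)⁻¹ = n
      have h2 : (n : G) = h⁻¹ * ((x : G) * (h * k * h⁻¹) * (x : G)⁻¹) * h := by
        rw [hx]
        group
      rw [h2]
      group
  by_cases hk : k ∈ {k : K | ∃ x : N, (x : G) * (k : G) * (x : G)⁻¹ = (n : G)}
  · rw [if_pos hk, if_pos (hiff.mp hk)]
    show ξ (σ k) / ξ (σ 1) = _
    rw [map_one]
  · rw [if_neg hk, if_neg (fun h' => hk (hiff.mpr h'))]

/-- Conjugating an induced block relation by an element normalizing `K`. -/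
theorem isInducedBlockIn_conj (N K : Subgroup G) [hN : N.Normal] (h : G) (σ : K ≃* K)
    (hσ : ∀ k : K, ((σ k : K) : G) = h * k * h⁻¹)
    (e : Set (IrrCharacter K)) (d : Set (IrrCharacter N)) (hed : IsInducedBlockIn M N K e d) :
    IsInducedBlockIn M N K (pull σ '' e) (pull (MulAut.conjNormal h : N ≃* N) '' d) := by
  obtain ⟨he, hd, hcong⟩ := hed
  refine ⟨isPBlock_pull _ he, isPBlock_pull _ hd, ?_⟩
  rintro _ ⟨ξ, hξ, rfl⟩ _ ⟨θ, hθ, rfl⟩ n
  have h1 := hcong ξ hξ θ hθ ((MulAut.conjNormal h : N ≃* N) n)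
  have e1 : inducedCentralCharIn N K (pull σ ξ : K → ℂ) (n : G) =
      inducedCentralCharIn N K (ξ : K → ℂ) (h * n * h⁻¹) :=
    inducedCentralCharIn_conj N K h σ hσ (ξ : K → ℂ) n
  have e2 : centralChar (pull (MulAut.conjNormal h : N ≃* N) θ : N → ℂ) n =
      centralChar (θ : N → ℂ) ((MulAut.conjNormal h : N ≃* N) n) :=
    centralChar_pull _ _ _
  rw [e1, e2]
  rw [MulAut.conjNormal_apply] at h1
  exact h1

/-- Conjugation by a normalizing element as an automorphism of the subgroup. -/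
def conjK (K : Subgroup G) (h : G) (hh : h ∈ Subgroup.normalizer (K : Set G)) : K ≃* K where
  toFun k := ⟨h * k * h⁻¹, (Subgroup.mem_normalizer_iff.mp hh k).mp k.2⟩
  invFun k := ⟨h⁻¹ * k * h, by
    have h1 := (Subgroup.mem_normalizer_iff.mp (inv_mem hh) k).mp k.2
    simpa using h1⟩
  left_inv k := Subtype.ext (by simp [mul_assoc])
  right_inv k := Subtype.ext (by simp [mul_assoc])
  map_mul' a b := Subtype.ext (by simp [mul_assoc])

theorem coe_conjK (K : Subgroup G) (h : G) (hh : h ∈ Subgroup.normalizer (K : Set G)) (k : K) :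
    ((conjK K h hh k : K) : G) = h * k * h⁻¹ := rfl

/-- Multiplicities against a character of `H` are invariant under conjugation by elements of
`H`. -/
theorem classInner_conjK [Finite G] (K H : Subgroup G) [Fintype K] (hKH : K ≤ H) (h : G)
    (hhH : h ∈ H) (hh : h ∈ Subgroup.normalizer (K : Set G)) (ψ : IrrCharacter H)
    (ξ : IrrCharacter K) :
    classInner (fun k : K => (ψ : H → ℂ) ⟨k, hKH k.2⟩) (pull (conjK K h hh) ξ : K → ℂ) =
      classInner (fun k : K => (ψ : H → ℂ) ⟨k, hKH k.2⟩) (ξ : K → ℂ) := by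
  unfold classInner
  congr 1
  apply Fintype.sum_equiv (conjK K h hh).toEquiv
  intro k
  have e : (ψ : H → ℂ) ⟨((conjK K h hh k : K) : G), hKH (conjK K h hh k).2⟩ =
      (ψ : H → ℂ) ⟨k, hKH k.2⟩ := by
    have h1 := Cfsg.Agent.Lib.Helper16.ZR.irr_conj_inv ψ ⟨h, hhH⟩ ⟨k, hKH k.2⟩
    rw [← h1]
    rfl
  show (ψ : H → ℂ) ⟨k, hKH k.2⟩ * _ = (ψ : H → ℂ) ⟨((conjK K h hh k : K) : G), _⟩ * _
  rw [e]
  rfl

theorem normalizer_le_normalizer_inf (P N : Subgroup G) [hN : N.Normal] :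
    Subgroup.normalizer (P : Set G) ≤ Subgroup.normalizer ((P ⊓ N : Subgroup G) : Set G) := by
  intro g hg
  rw [Subgroup.mem_normalizer_iff] at hg ⊢
  intro x
  constructor
  · rintro ⟨h1, h2⟩
    exact ⟨(hg x).mp h1, hN.conj_mem x h2 g⟩
  · rintro ⟨h1, h2⟩
    refine ⟨(hg x).mpr h1, ?_⟩
    have h3 := hN.conj_mem _ h2 g⁻¹
    simpa [mul_assoc] using h3

theorem induced_defect_of_eq_normalizer {X : Type u} [Group X] [Finite X] (p : ℕ)
    [Fact p.Prime] (hM : IsPModular p M) (D L : Subgroup X)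
    (hL : L = Subgroup.normalizer (D : Set X)) (b : Set (IrrCharacter L))
    (hDb : IsDefectGroup p M b (D.subgroupOf L)) (B : Set (IrrCharacter X))
    (hind : IsInducedBlock M L b B) : IsDefectGroup p M B D := by
  subst hL
  exact Cfsg.Agent.Lib.Helper16.FirstMain.isDefectGroup_induced p hM D b hDb B hind

/-- If `N_G(P) ≤ H` and the block `c` of `H` has defect group `P`, then `c^G` has defect group
`P`. -/
theorem isDefectGroup_of_induced [Finite G] (p : ℕ) [Fact p.Prime] (hM : IsPModular p M)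
    (P H : Subgroup G) (hH : Subgroup.normalizer (P : Set G) ≤ H)
    (c : Set (IrrCharacter H)) (hc : IsPBlock M c)
    (hcD : IsDefectGroup p M c (P.subgroupOf H)) (B : Set (IrrCharacter G))
    (hind : IsInducedBlock M H c B) : IsDefectGroup p M B P := by
  have hMp := isPrime_of_isPModular hM
  obtain ⟨L, hLdef⟩ : ∃ L : Subgroup G, L = Subgroup.normalizer (P : Set G) := ⟨_, rfl⟩
  have hLH : L ≤ H := hLdef ▸ hH
  have hPH : P ≤ H := Subgroup.le_normalizer.trans hH
  have hL' : L = Subgroup.normalizer (P : Set G) ⊓ H := by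
    rw [hLdef]
    exact (inf_eq_left.mpr hH).symm
  obtain ⟨β, hβ, hβD, hβi⟩ := rel_exists_block p hM P H L hPH hL' hLH c hc hcD
  have h2 := isInducedBlock_trans hMp L H hLH _ c B hβi hind
  rw [pull_symm_image_pull_image] at h2
  exact induced_defect_of_eq_normalizer p hM P L hLdef β hβD B h2

/-- Two blocks of `H ⊇ N_G(P)` with defect group `P` inducing the same block are equal. -/
theorem correspondent_unique [Finite G] (p : ℕ) [Fact p.Prime] (hM : IsPModular p M)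
    (P H : Subgroup G) (hH : Subgroup.normalizer (P : Set G) ≤ H)
    (c₁ c₂ : Set (IrrCharacter H)) (hc₁ : IsPBlock M c₁) (hc₂ : IsPBlock M c₂)
    (h₁ : IsDefectGroup p M c₁ (P.subgroupOf H)) (h₂ : IsDefectGroup p M c₂ (P.subgroupOf H))
    (B : Set (IrrCharacter G)) (hi₁ : IsInducedBlock M H c₁ B)
    (hi₂ : IsInducedBlock M H c₂ B) : c₁ = c₂ := by
  have hMp := isPrime_of_isPModular hM
  obtain ⟨L, hLdef⟩ : ∃ L : Subgroup G, L = Subgroup.normalizer (P : Set G) := ⟨_, rfl⟩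
  have hLH : L ≤ H := hLdef ▸ hH
  have hPH : P ≤ H := Subgroup.le_normalizer.trans hH
  have hL' : L = Subgroup.normalizer (P : Set G) ⊓ H := by
    rw [hLdef]
    exact (inf_eq_left.mpr hH).symm
  obtain ⟨β₁, hβ₁, hβ₁D, hβ₁i⟩ := rel_exists_block p hM P H L hPH hL' hLH c₁ hc₁ h₁
  obtain ⟨β₂, hβ₂, hβ₂D, hβ₂i⟩ := rel_exists_block p hM P H L hPH hL' hLH c₂ hc₂ h₂
  have e₁ := isInducedBlock_trans hMp L H hLH _ c₁ B hβ₁i hi₁
  have e₂ := isInducedBlock_trans hMp L H hLH _ c₂ B hβ₂i hi₂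
  rw [pull_symm_image_pull_image] at e₁ e₂
  have heq : β₁ = β₂ := unique_of_eq_normalizer p hM P L hLdef B β₁ β₂ hβ₁D e₁ e₂
  rw [heq] at hβ₁i
  exact Cfsg.Agent.Lib.CT.PrincipalSection.isInducedBlock_unique hMp _ _ c₁ c₂ hβ₁i hβ₂i

end Cfsg.Agent.Lib.CT.KnHK0
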