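import Cfsg.Agent.Lib.CT.KnCore
import Cfsg.Agent.Lib.Helper16.FR4
import Cfsg.Agent.Lib.Helper16.Fong2

/-!
# Knörr's theorem

* `exists_correspondent`: the Brauer correspondent of `B` in a subgroup `H ⊇ N_G(P)`, with
  `c^G = B`.
* `knorr_stable`: for a defect group `P` of `B` and `N ⊴ G`, the block `B` covers a `P`-stable
  block of `N` with defect group `P ⊓ N`.
-/

set_option autoImplicit false
open Cfsg

namespace Cfsg.Agent.Lib.CT.KnMain

open Cfsg.Agent.Lib.CT.Wedderburn Cfsg.Agent.Lib.CT.KnUtil Cfsg.Agent.Lib.CT.DefectZeroBlock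
open Cfsg.Agent.Lib.Helper77.BPTransport Cfsg.Agent.Lib.Helper16.Transfer
open Cfsg.Agent.Lib.Helper77.LocalRing Cfsg.Agent.Lib.Helper16.Normal
open Cfsg.Agent.Lib.Helper33.Conj Cfsg.Agent.Lib.Helper16.MinMax
open Cfsg.Agent.Lib.CT.KnNormal Cfsg.Agent.Lib.CT.KnInd Cfsg.Agent.Lib.CT.KnRel
open Cfsg.Agent.Lib.CT.KnCore Cfsg.Agent.Lib.Helper77.DefectClass
open Cfsg.Agent.Lib.Helper16.UniqueCover
open scoped Pointwise

universe u
variable {G : Type u} [Group G] {M : Ideal AlgInt}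

theorem isPGroup_of_isDefectGroup [Finite G] {p : ℕ} [Fact p.Prime]
    {B : Set (IrrCharacter G)} {P : Subgroup G} (hP : IsDefectGroup p M B P) : IsPGroup p P := by
  obtain ⟨g, -, hg⟩ := isDefectGroup_iff.mp hP
  exact hg.2.1

/-- The Brauer correspondent of `B` in a subgroup `H ⊇ N_G(P)`, as an induced block. -/
theorem exists_correspondent [Finite G] (p : ℕ) [Fact p.Prime] (hM : IsPModular p M)
    (P H : Subgroup G) (hH : Subgroup.normalizer (P : Set G) ≤ H)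
    (B : Set (IrrCharacter G)) (hB : IsPBlock M B) (hP : IsDefectGroup p M B P) :
    ∃ c : Set (IrrCharacter H), IsDefectGroup p M c (P.subgroupOf H) ∧
      IsInducedBlock M H c B := by
  have hMp := isPrime_of_isPModular hM
  have hPp : IsPGroup p P := isPGroup_of_isDefectGroup hP
  obtain ⟨L, hLdef⟩ : ∃ L : Subgroup G, L = Subgroup.normalizer (P : Set G) := ⟨_, rfl⟩
  have hLH : L ≤ H := hLdef ▸ hH
  have hPH : P ≤ H := Subgroup.le_normalizer.trans hH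
  obtain ⟨β, hβD, hβi⟩ := exists_block_of_eq_normalizer p hM P L hLdef B hB hP
  have hL' : L = Subgroup.normalizer (P : Set G) ⊓ H := by
    rw [hLdef]
    exact (inf_eq_left.mpr hH).symm
  obtain ⟨c, hci, hcD⟩ := rel_induced p hM P H L hPH hL' hLH hPp β hβi.1 hβD
  refine ⟨c, hcD, ?_⟩
  apply isInducedBlock_of_trans hMp L H hLH _ c B hci
  rw [pull_symm_image_pull_image]
  exact hβi

theorem normalizer_le_normalizer_sup (P N : Subgroup G) [hN : N.Normal] :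
    Subgroup.normalizer (P : Set G) ≤ Subgroup.normalizer ((P ⊔ N : Subgroup G) : Set G) := by
  have key : ∀ g ∈ Subgroup.normalizer (P : Set G), ∀ h ∈ P ⊔ N, g * h * g⁻¹ ∈ P ⊔ N := by
    intro g hg h hh
    have hh' : h ∈ ((P ⊔ N : Subgroup G) : Set G) := hh
    rw [Subgroup.mul_normal] at hh'
    obtain ⟨u, hu, n, hn, rfl⟩ := Set.mem_mul.mp hh'
    have e : g * (u * n) * g⁻¹ = (g * u * g⁻¹) * (g * n * g⁻¹) := by group
    rw [e]
    exact Subgroup.mul_mem_sup ((Subgroup.mem_normalizer_iff.mp hg u).mp hu) (hN.conj_mem n hn g)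
  intro g hg
  rw [Subgroup.mem_normalizer_iff]
  intro h
  constructor
  · exact key g hg h
  · intro hh
    have h1 := key g⁻¹ (inv_mem hg) _ hh
    simpa [mul_assoc] using h1

/-- **Knörr's theorem** (stable form): a block `B` with defect group `P` covers a `P`-stable
block of `N` with defect group `P ⊓ N`. -/
theorem knorr_stable [Fintype G] (p : ℕ) [Fact p.Prime] (hM : IsPModular p M)
    (N : Subgroup G) [hN : N.Normal] [Fintype N]
    (B : Set (IrrCharacter G)) (hB : IsPBlock M B) (P : Subgroup G)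
    (hP : IsDefectGroup p M B P) :
    ∃ c : Set (IrrCharacter N), IsPBlock M c ∧ (∀ x ∈ P, ∀ θ ∈ c, cI N hN x θ ∈ c) ∧
      (∃ χ ∈ B, ∃ θ ∈ c, classInner (fun n : N => (χ : G → ℂ) n) (θ : N → ℂ) ≠ 0) ∧
      IsDefectGroup p M c ((P ⊓ N).subgroupOf N) := by
  classical
  have hp : p.Prime := Fact.out
  have hMp := isPrime_of_isPModular hM
  have hPp : IsPGroup p P := isPGroup_of_isDefectGroup hP
  obtain ⟨X, hXdef⟩ : ∃ X : Subgroup G, X = P ⊔ N := ⟨_, rfl⟩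
  obtain ⟨H, hHdef⟩ : ∃ H : Subgroup G, H = Subgroup.normalizer (X : Set G) := ⟨_, rfl⟩
  let _ : Fintype X := Fintype.ofFinite _
  let _ : Fintype H := Fintype.ofFinite _
  have hPX : P ≤ X := hXdef ▸ le_sup_left
  have hNX : N ≤ X := hXdef ▸ le_sup_right
  have hXH : X ≤ H := hHdef ▸ Subgroup.le_normalizer
  have hNPH : Subgroup.normalizer (P : Set G) ≤ H := by
    rw [hHdef, hXdef]
    exact normalizer_le_normalizer_sup P N
  -- the Brauer correspondent in `H`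
  obtain ⟨BH, hBHD, hBHi⟩ := exists_correspondent p hM P H hNPH B hB hP
  have hBH : IsPBlock M BH := hBHi.1
  -- a block of `X = P N` with defect group `P`
  have hX'n : (X.subgroupOf H).Normal :=
    (Subgroup.normal_subgroupOf_iff_le_normalizer hXH).mpr (le_of_eq hHdef)
  let _ : Fintype (X.subgroupOf H) := Fintype.ofFinite _
  obtain ⟨b₁, hb₁, hb₁D, hb₁cov⟩ := knorr_core (G := H) p hM (X.subgroupOf H) (P.subgroupOf H)
    (fun x hx => hPX hx) BH hBH hBHD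
  obtain ⟨B₁, hB₁def⟩ : ∃ B₁ : Set (IrrCharacter X), B₁ = pull (sIso X H hXH).symm '' b₁ :=
    ⟨_, rfl⟩
  have hb₁' : pull (sIso X H hXH) '' B₁ = b₁ := by
    rw [hB₁def, pull_image_pull_symm_image]
  have hB₁ : IsPBlock M B₁ := hB₁def ▸ isPBlock_pull _ hb₁
  have hB₁D : IsDefectGroup p M B₁ (P.subgroupOf X) := by
    rw [← isDefectGroup_sIso_iff X H hXH P, hb₁']
    exact hb₁D
  have hcov₁ : ∃ ψ ∈ BH, ∃ ξ ∈ B₁,
      classInner (fun k : X => (ψ : H → ℂ) ⟨k, hXH k.2⟩) (ξ : X → ℂ) ≠ 0 := by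
    apply (cover_pull_iff X H hXH B₁ BH).mp
    rw [hb₁']
    exact hb₁cov
  -- in the group `X`
  have hN₂n : (N.subgroupOf X).Normal := inferInstance
  let _ : Fintype (N.subgroupOf X) := Fintype.ofFinite _
  obtain ⟨k, hk⟩ : ∃ k : ℕ, (N.subgroupOf X).index = p ^ k := by
    have h1 : N.relIndex X = N.relIndex P := by
      rw [hXdef]
      exact Subgroup.relIndex_sup_right P N
    have h2 : N.relIndex P ∣ Nat.card P := Subgroup.relIndex_dvd_card N P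
    obtain ⟨n, hn⟩ := IsPGroup.iff_card.mp hPp
    rw [hn] at h2
    obtain ⟨j, -, hj⟩ := (Nat.dvd_prime_pow hp).mp h2
    exact ⟨j, h1.trans hj⟩
  obtain ⟨ξ₀, hξ₀⟩ := isPBlock_nonempty hMp hB₁
  obtain ⟨θ₂, hθ₂⟩ := Cfsg.Agent.Lib.Helper16.Cover.exists_constituent (N.subgroupOf X) ξ₀
  obtain ⟨c₂, hc₂def⟩ : ∃ c₂ : Set (IrrCharacter (N.subgroupOf X)),
      c₂ = blockOf M (θ₂ : N.subgroupOf X → ℂ) := ⟨_, rfl⟩
  have hc₂ : IsPBlock M c₂ := hc₂def ▸ ⟨θ₂, rfl⟩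
  have hcov₂ : ∃ χ ∈ B₁, ∃ θ ∈ c₂,
      classInner (fun n : N.subgroupOf X => (χ : X → ℂ) n) (θ : N.subgroupOf X → ℂ) ≠ 0 :=
    ⟨ξ₀, hξ₀, θ₂, hc₂def ▸ self_mem_blockOf hMp θ₂, hθ₂⟩
  obtain ⟨T₂, hT₂⟩ := Cfsg.Agent.Lib.Helper16.Reynolds.exists_stab (N.subgroupOf X) hN₂n c₂
  have hNT₂ : N.subgroupOf X ≤ T₂ := by
    intro g hg
    rw [hT₂]
    intro θ hθ
    rw [Cfsg.Agent.Lib.Helper16.ExtFirst2.cI_of_mem _ hN₂n g hg θ]
    exact hθ
  let _ : Fintype T₂ := Fintype.ofFinite _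
  obtain ⟨B', hB', hcov', hind'⟩ := Cfsg.Agent.Lib.Helper16.FR4.fr_surjective (N.subgroupOf X)
    hN₂n T₂ hNT₂ c₂ p hM hc₂ hT₂ B₁ hB₁ hcov₂
  obtain ⟨D, hD⟩ := exists_defectGroup hM B' hB'
  have hD₁ := (Cfsg.Agent.Lib.Helper16.FR4.fr_defect (N.subgroupOf X) hN₂n T₂ hNT₂ c₂ p hM hc₂
    hT₂ B' hB' hcov' B₁ hind').1 D hD
  obtain ⟨x, hx⟩ := defectGroup_conj hM B₁ hB₁ hB₁D hD₁
  have hT₂top : T₂ = ⊤ := by
    have h1 : (P.subgroupOf X).map (MulAut.conj x).toMonoidHom ≤ T₂ := by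
      rw [← hx]
      exact Subgroup.map_subtype_le D
    have h2 : (N.subgroupOf X).map (MulAut.conj x).toMonoidHom = N.subgroupOf X := by
      apply cj_eq_of_mem_normalizer
      rw [Subgroup.normalizer_eq_top]
      trivial
    have h3 : P.subgroupOf X ⊔ N.subgroupOf X = ⊤ := by
      rw [← Subgroup.subgroupOf_sup hPX hNX, ← hXdef, Subgroup.subgroupOf_self]
    have h4 : (P.subgroupOf X ⊔ N.subgroupOf X).map (MulAut.conj x).toMonoidHom ≤ T₂ := by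
      rw [Subgroup.map_sup, h2]
      exact sup_le h1 hNT₂
    rw [h3, Subgroup.map_top_of_surjective _ (MulAut.conj x).surjective] at h4
    exact top_le_iff.mp h4
  have hst : GStable (N.subgroupOf X) hN₂n c₂ := by
    intro θ hθ g
    exact (hT₂ g).mp (hT₂top ▸ Subgroup.mem_top g) θ hθ
  obtain ⟨B₀, hB₀, hidem, -, huniq⟩ :=
    Cfsg.Agent.Lib.Helper16.Fong2.exists_block_of_pow_index p hM (N.subgroupOf X) hk c₂ hc₂ hst
  have hB₁B₀ : B₁ = B₀ := huniq B₁ hB₁ hcov₂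
  have hdef := (Cfsg.Agent.Lib.Helper16.Fong2.defect_of_pow_index p hM (N.subgroupOf X) hk c₂
    hc₂ hst B₁ (hB₁B₀ ▸ hidem) (P.subgroupOf X) hB₁D).2
  -- transport to `N`
  obtain ⟨c, hcdef⟩ : ∃ c : Set (IrrCharacter N), c = pull (sIso N X hNX).symm '' c₂ :=
    ⟨_, rfl⟩
  have hc' : pull (sIso N X hNX) '' c = c₂ := by
    rw [hcdef, pull_image_pull_symm_image]
  have hc : IsPBlock M c := hcdef ▸ isPBlock_pull _ hc₂
  have hinf : (P ⊓ N).subgroupOf X = P.subgroupOf X ⊓ N.subgroupOf X :=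
    Subgroup.ext fun x => Iff.rfl
  have hcD : IsDefectGroup p M c ((P ⊓ N).subgroupOf N) := by
    rw [← isDefectGroup_sIso_iff N X hNX (P ⊓ N), hc', hinf]
    exact hdef
  refine ⟨c, hc, ?_, ?_, hcD⟩
  · intro x hx θ hθ
    have h1 : pull (sIso N X hNX) θ ∈ c₂ := by
      rw [← hc']
      exact ⟨θ, hθ, rfl⟩
    have h2 := hst _ h1 (⟨x, hPX hx⟩ : X)
    rw [cI_pull_subgroupOf N X hN hNX hN₂n ⟨x, hPX hx⟩ θ, ← hc'] at h2
    obtain ⟨η, hη, he⟩ := h2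
    have h3 := pull_injective _ he
    rw [← h3]
    exact hη
  · obtain ⟨ψ, hψ, ξ₁, hξ₁, hψξ₁⟩ := hcov₁
    obtain ⟨θ', hθ', hξ₁θ'⟩ := Cfsg.Agent.Lib.Helper16.Reynolds.forall_cover hMp
      (N.subgroupOf X) hN₂n c₂ hc₂ B₁ hB₁ hcov₂ ξ₁ hξ₁
    rw [← hc'] at hθ'
    obtain ⟨θ, hθ, rfl⟩ := hθ'
    rw [classInner_pull_subgroupOf] at hξ₁θ'
    obtain ⟨χ, hχ, hχψ⟩ :=
      Cfsg.Agent.Lib.Helper16.IndBlock2.exists_constituent_of_induced hMp H BH B hBHi ψ hψ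
    have h1 := over_trans X H hXH χ ψ ξ₁ hχψ hψξ₁
    have h2 := over_trans N X hNX χ ξ₁ θ h1 hξ₁θ'
    exact ⟨χ, hχ, θ, hθ, h2⟩

end Cfsg.Agent.Lib.CT.KnMain
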