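import Cfsg.Agent.Lib.CT.KnUtil
import Cfsg.Agent.Lib.CT.Kernel
import Cfsg.Agent.Lib.CT.DefectZeroBlock
import Cfsg.Agent.Lib.Helper3.TDBasic
import Cfsg.Agent.Lib.Helper16.Transfer

/-!
# More utilities on constituents: kernels, degrees, centralizers
-/

set_option autoImplicit false
open Cfsg

namespace Cfsg.Agent.Lib.CT.KnUtil2

open Cfsg.Agent.Lib.CT.Wedderburn Cfsg.Agent.Lib.CT.KnUtil Cfsg.Agent.Lib.CT.DefectZeroBlock
open Cfsg.Agent.Lib.Helper81.Mult Cfsg.Agent.Lib.Helper81.Cliff Cfsg.Agent.Lib.Helper81.CliffCorr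
open Cfsg.Agent.Lib.Helper77.BPTransport Cfsg.Agent.Lib.Helper16.Transfer

universe u
variable {G : Type u} [Group G]

/-- An element on which a character takes its degree as value lies in the kernel of each
irreducible constituent. -/
theorem ker_of_constituent' [Fintype G] {Ψ : G → ℂ} (hΨ : IsCharacter G Ψ)
    (θ : IrrCharacter G) (h : classInner Ψ (θ : G → ℂ) ≠ 0)
    (u : G) (hu : Ψ u = Ψ 1) : (θ : G → ℂ) u = (θ : G → ℂ) 1 := by
  classical
  have := finite_irrCharacter G
  let _ := Fintype.ofFinite (IrrCharacter G)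
  have e1 : mult Ψ θ ≠ 0 := (classInner_ne_zero_iff_mult hΨ θ).mp h
  have hu' : Ψ u = Ψ 1 := hu
  rw [char_expand hΨ u, char_expand hΨ 1] at hu'
  have hterm : ∀ η : IrrCharacter G, 0 ≤ (mult Ψ η : ℝ) *
      (((η : G → ℂ) 1).re - ((η : G → ℂ) u).re) := by
    intro η
    apply mul_nonneg (Nat.cast_nonneg _)
    have h1 := norm_le_apply_one (isCharacter_of_irr η.2) u
    have h2 := Complex.re_le_norm ((η : G → ℂ) u)
    linarith
  have hsum : ∑ η : IrrCharacter G, (mult Ψ η : ℝ) *
      (((η : G → ℂ) 1).re - ((η : G → ℂ) u).re) = 0 := by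
    have h3 := congrArg Complex.re hu'
    rw [Complex.re_sum, Complex.re_sum] at h3
    have key : ∀ (m : ℕ) (z : ℂ), ((m : ℂ) * z).re = (m : ℝ) * z.re := by
      intro m z
      simp
    simp only [key] at h3
    simp only [mul_sub, Finset.sum_sub_distrib]
    rw [sub_eq_zero]
    exact h3.symm
  have h5 := (Finset.sum_eq_zero_iff_of_nonneg fun η _ => hterm η).mp hsum θ (Finset.mem_univ _)
  have h6 : ((θ : G → ℂ) 1).re - ((θ : G → ℂ) u).re = 0 := by
    rcases mul_eq_zero.mp h5 with h | h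
    · exact absurd (Nat.cast_eq_zero.mp h) e1
    · exact h
  have h7 : ((θ : G → ℂ) u).re = ((θ : G → ℂ) 1).re := by linarith
  have h8 := Cfsg.Agent.S0138.eq_of_norm_le_of_re_eq
    (norm_le_apply_one (isCharacter_of_irr θ.2) u) h7
  rw [h8]
  obtain ⟨n, hn⟩ := char_exists_apply_one (isCharacter_of_irr θ.2)
  rw [hn]
  simp

/-- Relative version: kernel elements of `χ ∈ Irr(L)` lying in `Y ≤ L` are in the kernel of the
constituents of `χ` on `Y`. -/
theorem ker_of_constituent_rel [Finite G] (Y L : Subgroup G) [Fintype Y] (hYL : Y ≤ L)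
    (χ : IrrCharacter L) (θ : IrrCharacter Y)
    (h : classInner (fun y : Y => (χ : L → ℂ) ⟨y, hYL y.2⟩) (θ : Y → ℂ) ≠ 0)
    (u : Y) (hu : (χ : L → ℂ) ⟨u, hYL u.2⟩ = (χ : L → ℂ) 1) :
    (θ : Y → ℂ) u = (θ : Y → ℂ) 1 :=
  ker_of_constituent' (Ψ := resTo hYL (χ : L → ℂ))
    (isCharacter_resTo hYL (isCharacter_of_irr χ.2)) θ h u hu

/-- Degrees of constituents on a normal subgroup, relative version, `p`-parts. -/
theorem rel_deg [Finite G] (p : ℕ) (Y L : Subgroup G) [hY : Y.Normal] [Fintype Y] [Fintype L]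
    (hYL : Y ≤ L) (χ : IrrCharacter L) (θ : IrrCharacter Y)
    (hcon : classInner (fun y : Y => (χ : L → ℂ) ⟨y, hYL y.2⟩) (θ : Y → ℂ) ≠ 0) :
    (charDegree (χ : L → ℂ)).factorization p + (Nat.card Y).factorization p ≤
      (charDegree (θ : Y → ℂ)).factorization p + (Nat.card L).factorization p := by
  classical
  have hn : (Y.subgroupOf L).Normal := inferInstance
  let _ : Fintype (Y.subgroupOf L) := Fintype.ofFinite _
  have h0 : classInner (fun k : Y.subgroupOf L => (χ : L → ℂ) k)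
      (pull (sIso Y L hYL) θ : Y.subgroupOf L → ℂ) ≠ 0 := by
    rw [classInner_pull_subgroupOf]
    exact hcon
  have h1 := Cfsg.Agent.Lib.Helper3.TDBasic.deg_of_constituent (Y.subgroupOf L)
    (pull (sIso Y L hYL) θ) χ h0
  rw [charDegree_pull] at h1
  have hθ0 : charDegree (θ : Y → ℂ) ≠ 0 := (irr_charDegree_pos θ.2).ne'
  have hχ0 : charDegree (χ : L → ℂ) ≠ 0 := (irr_charDegree_pos χ.2).ne'
  have hidx : Nat.card Y * Y.relIndex L = Nat.card L := by
    rw [← Subgroup.relIndex_bot_left, ← Subgroup.relIndex_bot_left (H := L)]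
    exact Subgroup.relIndex_mul_relIndex ⊥ Y L bot_le hYL
  have hrel : Y.relIndex L ≠ 0 := by
    intro h0
    rw [h0, mul_zero] at hidx
    exact Nat.card_pos.ne' hidx.symm
  have h4 : charDegree (χ : L → ℂ) ∣ charDegree (θ : Y → ℂ) * Y.relIndex L := by
    obtain ⟨q, hq⟩ := h1.1
    have h5 : charDegree (χ : L → ℂ) / charDegree (θ : Y → ℂ) = q := by
      rw [hq, Nat.mul_div_cancel_left _ (Nat.pos_of_ne_zero hθ0)]
    rw [hq]
    exact Nat.mul_dvd_mul_left _ (h5 ▸ h1.2)
  have h7 := (Nat.factorization_le_iff_dvd hχ0 (mul_ne_zero hθ0 hrel)).mpr h4 p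
  rw [Nat.factorization_mul hθ0 hrel] at h7
  have h8 : (Nat.card L).factorization p =
      (Nat.card Y).factorization p + (Y.relIndex L).factorization p := by
    rw [← hidx, Nat.factorization_mul Nat.card_pos.ne' hrel]
    rfl
  have h9 : ((charDegree (θ : Y → ℂ)).factorization + (Y.relIndex L).factorization) p =
      (charDegree (θ : Y → ℂ)).factorization p + (Y.relIndex L).factorization p := rfl
  rw [h9] at h7
  omega

/-- A character with the normal subgroup `Q` in its kernel has degree dividing `|G : Q|`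
(`p`-parts). -/
theorem deg_le_of_ker [Finite G] (p : ℕ) (Q : Subgroup G) [Q.Normal] (θ : IrrCharacter G)
    (hker : ∀ u ∈ Q, (θ : G → ℂ) u = (θ : G → ℂ) 1) :
    (charDegree (θ : G → ℂ)).factorization p + (Nat.card Q).factorization p ≤
      (Nat.card G).factorization p := by
  obtain ⟨θb, hθb, hθe⟩ := Cfsg.Agent.Lib.CT.Kernel.exists_quotient_irr Q θ.2 hker
  have h1 := factorization_charDegree_le p (⟨θb, hθb⟩ : IrrCharacter (G ⧸ Q))
  have h2 : charDegree (θb : G ⧸ Q → ℂ) = charDegree (θ : G → ℂ) := by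
    unfold charDegree
    rw [← hθe 1]
    rfl
  have hcard : Nat.card G = Nat.card (G ⧸ Q) * Nat.card Q :=
    Subgroup.card_eq_card_quotient_mul_card_subgroup Q
  have h3 : (Nat.card G).factorization p =
      (Nat.card (G ⧸ Q)).factorization p + (Nat.card Q).factorization p := by
    rw [hcard, Nat.factorization_mul Nat.card_pos.ne' Nat.card_pos.ne']
    rfl
  have h4 : (charDegree (θb : G ⧸ Q → ℂ)).factorization p ≤
      (Nat.card (G ⧸ Q)).factorization p := h1
  rw [h2] at h4
  omega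

/-- If `G = Q C_G(Q)` for a normal `p`-subgroup `Q`, the centralizer of `Q` has `p`-power
index. -/
theorem centralizer_index_pow [Finite G] (p : ℕ) [Fact p.Prime] (Q : Subgroup G) [Q.Normal]
    (hQ : IsPGroup p Q)
    (h : ∀ x : G, ∃ u ∈ Q, ∃ c ∈ Subgroup.centralizer (Q : Set G), x = u * c) :
    ∃ k : ℕ, (Subgroup.centralizer (Q : Set G)).index = p ^ k := by
  have hp : p.Prime := Fact.out
  have hsurj : Function.Surjective
      ((QuotientGroup.mk' (Subgroup.centralizer (Q : Set G))).comp Q.subtype) := by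
    intro q
    induction q using QuotientGroup.induction_on with
    | H x =>
      obtain ⟨u, hu, c, hc, rfl⟩ := h x
      refine ⟨⟨u, hu⟩, ?_⟩
      show (QuotientGroup.mk u : G ⧸ Subgroup.centralizer (Q : Set G)) = QuotientGroup.mk (u * c)
      rw [QuotientGroup.eq]
      simpa using hc
  have h1 := Subgroup.card_dvd_of_surjective _ hsurj
  obtain ⟨n, hn⟩ := IsPGroup.iff_card.mp hQ
  rw [hn, ← Subgroup.index_eq_card] at h1
  obtain ⟨j, -, hj⟩ := (Nat.dvd_prime_pow hp).mp h1
  exact ⟨j, hj⟩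

end Cfsg.Agent.Lib.CT.KnUtil2
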