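import Cfsg.Agent.Lib.CT.KnA
import Cfsg.Agent.Lib.CT.KnDZ
import Cfsg.Agent.Lib.CT.KnUtil2
import Cfsg.Agent.Lib.Helper16.UniqueCover
import Cfsg.Agent.Lib.Helper16.Cover3
import Cfsg.Agent.Lib.Helper16.Reynolds
import Cfsg.Agent.Lib.Helper16.NormalP
import Cfsg.Agent.Lib.Helper16.ExtFirst
import Cfsg.Agent.Lib.Helper16.ExtFirst2
import Cfsg.Agent.Lib.Helper16.IndBlock2
import Cfsg.Agent.Lib.Helper77.BPEquiv2
import Cfsg.Agent.S4437

/-!
# Knörr's theorem for blocks with a normal defect group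

If the block `B` of `G` has a normal defect group `P` contained in the normal subgroup `N`,
then every block of `N` covered by `B` has defect group `P`.
-/

set_option autoImplicit false
open Cfsg

namespace Cfsg.Agent.Lib.CT.KnNormal

open Cfsg.Agent.Lib.CT.Wedderburn Cfsg.Agent.Lib.CT.KnUtil Cfsg.Agent.Lib.CT.DefectZeroBlock
open Cfsg.Agent.Lib.Helper77.BPTransport Cfsg.Agent.Lib.Helper16.Transfer
open Cfsg.Agent.Lib.Helper77.LocalRing Cfsg.Agent.Lib.Helper16.Normal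
open Cfsg.Agent.Lib.Helper33.Conj Cfsg.Agent.Lib.Helper16.MinMax
open Cfsg.Agent.Lib.CT.KnUtil2 Cfsg.Agent.Lib.Helper77.DefectClass
open scoped Pointwise

universe u
variable {G : Type u} [Group G] {M : Ideal AlgInt}

/-- A normal `p`-subgroup is contained in every defect group. -/
theorem normal_le_defectGroup [Finite G] (p : ℕ) [Fact p.Prime] (hM : IsPModular p M)
    (B : Set (IrrCharacter G)) (hB : IsPBlock M B) (Q : Subgroup G) [hQn : Q.Normal]
    (hQ : IsPGroup p Q) (D : Subgroup G) (hD : IsDefectGroup p M B D) : Q ≤ D := by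
  have hMp := isPrime_of_isPModular hM
  obtain ⟨g, hg, hS⟩ := isDefectGroup_iff.mp hD
  obtain ⟨χ, hχ⟩ := isPBlock_nonempty hMp hB
  have hgQ : g ∈ Subgroup.centralizer (Q : Set G) := by
    by_contra hcon
    exact hg.2.2 χ hχ
      (Cfsg.Agent.Lib.Helper16.NormalP.centralChar_mem_of_not_centralizer p M hM Q hQ
        (χ : G → ℂ) χ.2 g hcon)
  have hQC : Q ≤ Subgroup.centralizer ({g} : Set G) := by
    intro q hq
    rw [Subgroup.mem_centralizer_iff]
    intro h hh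
    rw [Set.mem_singleton_iff.mp hh]
    exact ((Subgroup.mem_centralizer_iff.mp hgQ) q hq).symm
  obtain ⟨x, -, hx⟩ := hS.exists_cj_le hQC hQ
  have h1 : Q.map (MulAut.conj x).toMonoidHom = Q := by
    apply cj_eq_of_mem_normalizer
    rw [Subgroup.normalizer_eq_top]
    trivial
  rw [h1] at hx
  exact hx

theorem le_add_blockDefect (p : ℕ) (B : Set (IrrCharacter G)) (χ : IrrCharacter G) (hχ : χ ∈ B) :
    (Nat.card G).factorization p ≤
      (charDegree (χ : G → ℂ)).factorization p + blockDefect p B := by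
  unfold blockDefect
  have h1 : sInf ((fun χ : IrrCharacter G => (charDegree (χ : G → ℂ)).factorization p) '' B) ≤
      (charDegree (χ : G → ℂ)).factorization p := Nat.sInf_le ⟨χ, hχ, rfl⟩
  omega

/-- If `z ^ p ∈ L`, `z ∈ T` and `[T : L]` is prime to `p`, then `z ∈ L`. -/
theorem mem_of_pow_mem [Finite G] (p : ℕ) [Fact p.Prime] (L T : Subgroup G) [hL : L.Normal]
    (hp : ¬ p ∣ L.relIndex T) (z : G) (hzT : z ∈ T) (hzp : z ^ p ∈ L) : z ∈ L := by
  have hpp : p.Prime := Fact.out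
  have h1 : ((⟨z, hzT⟩ : T) : ↥T ⧸ L.subgroupOf T) ^ p = 1 := by
    rw [← QuotientGroup.mk_pow, QuotientGroup.eq_one_iff]
    exact hzp
  have h2 : orderOf ((⟨z, hzT⟩ : T) : ↥T ⧸ L.subgroupOf T) ∣ p := orderOf_dvd_of_pow_eq_one h1
  have h3 : orderOf ((⟨z, hzT⟩ : T) : ↥T ⧸ L.subgroupOf T) ∣ L.relIndex T := by
    have h4 : L.relIndex T = Nat.card (↥T ⧸ L.subgroupOf T) := Subgroup.index_eq_card _
    rw [h4]
    exact orderOf_dvd_natCard _
  rcases (Nat.dvd_prime hpp).mp h2 with h | h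
  · have h5 := orderOf_eq_one_iff.mp h
    exact (QuotientGroup.eq_one_iff (⟨z, hzT⟩ : T)).mp h5
  · exact absurd (h ▸ h3) hp

/-- Let `L ⊴ N`, `Q ⊴ N` a `p`-subgroup, `γ` a block of `L` of defect at most `ν_p |Q|` whose
stabilizer `T` has `[T : L]` prime to `p`.  Then every block of `N` covering `γ` has defect
group `Q`. -/
theorem defect_of_stab {N : Type u} [Group N] [Fintype N] (p : ℕ) [Fact p.Prime]
    (hM : IsPModular p M) (L : Subgroup N) [Fintype L] (hL : L.Normal) (Q : Subgroup N)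
    [hQn : Q.Normal] (hQ : IsPGroup p Q) (γ : Set (IrrCharacter L)) (hγ : IsPBlock M γ)
    (hγd : blockDefect p γ ≤ (Nat.card Q).factorization p)
    (T : Subgroup N) (hT : ∀ g : N, g ∈ T ↔ ∀ θ ∈ γ, cI L hL g θ ∈ γ)
    (hpT : ¬ p ∣ L.relIndex T) (b : Set (IrrCharacter N)) (hb : IsPBlock M b)
    (hcov : ∃ χ ∈ b, ∃ θ ∈ γ, classInner (fun n : L => (χ : N → ℂ) n) (θ : L → ℂ) ≠ 0) :
    IsDefectGroup p M b Q := by
  classical
  have hp : p.Prime := Fact.out
  have hMp := isPrime_of_isPModular hM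
  have hLT : L ≤ T := by
    intro g hg
    rw [hT]
    intro θ hθ
    rw [Cfsg.Agent.Lib.Helper16.ExtFirst2.cI_of_mem L hL g hg θ]
    exact hθ
  have hcardN : (Nat.card N).factorization p =
      T.index.factorization p + (Nat.card L).factorization p := by
    have h1 : T.index * Nat.card T = Nat.card N := Subgroup.index_mul_card T
    have h2 : Nat.card L * L.relIndex T = Nat.card T := by
      rw [← Subgroup.relIndex_bot_left, ← Subgroup.relIndex_bot_left (H := T)]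
      exact Subgroup.relIndex_mul_relIndex ⊥ L T bot_le hLT
    have hTi : T.index ≠ 0 := Subgroup.index_ne_zero_of_finite
    have hrel : L.relIndex T ≠ 0 := by
      intro h0
      rw [h0, mul_zero] at h2
      exact Nat.card_pos.ne' h2.symm
    rw [← h1, ← h2, Nat.factorization_mul hTi (mul_ne_zero Nat.card_pos.ne' hrel),
      Nat.factorization_mul Nat.card_pos.ne' hrel]
    have h3 : (L.relIndex T).factorization p = 0 := Nat.factorization_eq_zero_of_not_dvd hpT
    simp only [Finsupp.coe_add, Pi.add_apply, h3, add_zero]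
  have key : ∀ ξ ∈ b, (Nat.card N).factorization p ≤
      (charDegree (ξ : N → ℂ)).factorization p + (Nat.card Q).factorization p := by
    intro ξ hξ
    obtain ⟨θ, hθ, hcon⟩ :=
      Cfsg.Agent.Lib.Helper16.Reynolds.forall_cover hMp L hL γ hγ b hb hcov ξ hξ
    have h1 := Cfsg.Agent.Lib.Helper16.Reynolds.factorization_degree p hMp L hL γ hγ T hT hLT hpT
      ξ θ hθ hcon
    have h2 := le_add_blockDefect p γ θ hθ
    omega
  have hdb : blockDefect p b ≤ (Nat.card Q).factorization p := by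
    unfold blockDefect
    obtain ⟨ξ₀, hξ₀⟩ := isPBlock_nonempty hMp hb
    have hne : ((fun χ : IrrCharacter N => (charDegree (χ : N → ℂ)).factorization p) '' b).Nonempty :=
      ⟨_, ξ₀, hξ₀, rfl⟩
    have h1 : (Nat.card N).factorization p - (Nat.card Q).factorization p ≤
        sInf ((fun χ : IrrCharacter N => (charDegree (χ : N → ℂ)).factorization p) '' b) := by
      apply le_csInf hne
      rintro _ ⟨ξ, hξ, rfl⟩
      have := key ξ hξ
      show (Nat.card N).factorization p - (Nat.card Q).factorization p ≤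
        (charDegree (ξ : N → ℂ)).factorization p
      omega
    omega
  obtain ⟨D, hD⟩ := exists_defectGroup hM b hb
  have hQD : Q ≤ D := normal_le_defectGroup p hM b hb Q hQ D hD
  have hcD := Cfsg.Agent.Lib.Helper16.Defect.card_defectGroup p hM b hb D hD
  obtain ⟨n, hn⟩ := IsPGroup.iff_card.mp hQ
  have hn' : (Nat.card Q).factorization p = n := by
    rw [hn, hp.factorization_pow]
    simp
  have hle : Nat.card D ≤ Nat.card Q := by
    rw [hcD, hn]
    exact Nat.pow_le_pow_right hp.pos (hn' ▸ hdb)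
  have hDQ : Q = D := Subgroup.eq_of_le_of_card_ge hQD hle
  rw [hDQ]
  exact hD

/-- The stabilizer of the root block has index prime to `p`. -/
theorem stab_index [Fintype G] (p : ℕ) [Fact p.Prime] (hM : IsPModular p M)
    (P : Subgroup G) [hPn : P.Normal] (hPp : IsPGroup p P) (L : Subgroup G) [Fintype L]
    (hLdef : L = P ⊔ Subgroup.centralizer (P : Set G)) (hL : L.Normal)
    (b₀ : Set (IrrCharacter L)) (hb₀ : IsPBlock M b₀)
    (hb₀P : IsDefectGroup p M b₀ (P.subgroupOf L)) (B : Set (IrrCharacter G))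
    (hind : IsInducedBlock M L b₀ B) (hBP : IsDefectGroup p M B P)
    (T : Subgroup G) (hT : ∀ g : G, g ∈ T ↔ ∀ θ ∈ b₀, cI L hL g θ ∈ b₀) :
    ¬ p ∣ L.relIndex T := by
  refine (Cfsg.Agent.S4437.result p M hM P hPp L hLdef b₀ hb₀ hb₀P B hind T ?_).mp hBP
  intro g
  constructor
  · intro hg
    refine ⟨by rw [Subgroup.normalizer_eq_top]; trivial, fun θ hθ θ' hθ' => ?_⟩
    have hginv : g⁻¹ ∈ T := T.inv_mem hg
    have h1 := (hT g⁻¹).mp hginv θ hθ
    have heq : θ' = cI L hL g⁻¹ θ := by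
      apply Subtype.ext
      funext h'
      rw [cI_apply]
      apply hθ'
      show (h' : G) = g * (g⁻¹ * (h' : G) * g⁻¹⁻¹) * g⁻¹
      group
    rw [heq]
    exact h1
  · rintro ⟨-, hg⟩
    have hginv : g⁻¹ ∈ T := by
      rw [hT]
      intro θ hθ
      apply hg θ hθ
      intro h h' hh'
      rw [cI_apply]
      refine congrArg _ (Subtype.ext ?_)
      show g⁻¹ * (h' : G) * g⁻¹⁻¹ = (h : G)
      rw [hh']
      group
    have := T.inv_mem hginv
    rwa [inv_inv] at this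

/-- Core of the normal defect group case: the block of a character `ξ` of `N` lying over a
constituent `θ₀` on `L ⊓ N` of the canonical character `χ₀` of the root block has defect group
`P`. -/
theorem core [Fintype G] (p : ℕ) [Fact p.Prime] (hM : IsPModular p M)
    (N : Subgroup G) [hN : N.Normal] [Fintype N]
    (P : Subgroup G) [hPn : P.Normal] (hPp : IsPGroup p P) (hPN : P ≤ N)
    (L : Subgroup G) [Fintype L] (hL : L.Normal)
    (hLdef : L = P ⊔ Subgroup.centralizer (P : Set G))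
    (Y : Subgroup G) [Fintype Y] (hY : Y.Normal) (hYdef : Y = L ⊓ N)
    (T₀ : Subgroup G) (b₀ : Set (IrrCharacter L)) (hb₀ : IsPBlock M b₀)
    (hT₀ : ∀ g : G, g ∈ T₀ ↔ ∀ θ ∈ b₀, cI L hL g θ ∈ b₀) (hpT₀ : ¬ p ∣ L.relIndex T₀)
    (χ₀ : IrrCharacter L) (hχ₀ : χ₀ ∈ b₀)
    (hker₀ : ∀ u : L, (u : G) ∈ P → (χ₀ : L → ℂ) u = (χ₀ : L → ℂ) 1)
    (hdeg₀ : (Nat.card L).factorization p ≤
      (charDegree (χ₀ : L → ℂ)).factorization p + (Nat.card P).factorization p)
    (hYL : Y ≤ L) (hYN : Y ≤ N)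
    (ξ : IrrCharacter N) (θ₀ : IrrCharacter Y)
    (h1 : classInner (fun y : Y => (χ₀ : L → ℂ) ⟨y, hYL y.2⟩) (θ₀ : Y → ℂ) ≠ 0)
    (h2 : classInner (fun y : Y => (ξ : N → ℂ) ⟨y, hYN y.2⟩) (θ₀ : Y → ℂ) ≠ 0) :
    IsDefectGroup p M (blockOf M (ξ : N → ℂ)) (P.subgroupOf N) := by
  classical
  have hp : p.Prime := Fact.out
  have hMp := isPrime_of_isPModular hM
  have hPL : P ≤ L := hLdef ▸ le_sup_left
  have hCL : Subgroup.centralizer (P : Set G) ≤ L := hLdef ▸ le_sup_right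
  have hPY : P ≤ Y := hYdef ▸ le_inf hPL hPN
  have hYmem : ∀ x : G, x ∈ L → x ∈ N → x ∈ Y := fun x hx hx' => hYdef ▸ ⟨hx, hx'⟩
  -- the p-subgroup of Y
  have hQn : (P.subgroupOf Y).Normal := inferInstance
  have hQp : IsPGroup p (P.subgroupOf Y) := hPp.comap_subtype
  have hQcard : Nat.card (P.subgroupOf Y) = Nat.card P := Nat.card_congr (sIso P Y hPY).toEquiv
  -- centralizer index
  obtain ⟨k, hk⟩ := centralizer_index_pow p (P.subgroupOf Y) hQp (by
    intro x
    have hx : (x : G) ∈ P ⊔ Subgroup.centralizer (P : Set G) := hLdef ▸ hYL x.2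
    have hx' : (x : G) ∈ ((P ⊔ Subgroup.centralizer (P : Set G) : Subgroup G) : Set G) := hx
    rw [Subgroup.normal_mul] at hx'
    obtain ⟨u, hu, c, hc, huc⟩ := Set.mem_mul.mp hx'
    have hcY : c ∈ Y := by
      apply hYmem
      · exact hCL hc
      · have : c = u⁻¹ * (x : G) := by
          rw [← huc]
          group
        rw [this]
        exact N.mul_mem (N.inv_mem (hPN hu)) (hYN x.2)
    refine ⟨⟨u, hPY hu⟩, hu, ⟨c, hcY⟩, ?_, Subtype.ext huc.symm⟩
    rw [Subgroup.mem_centralizer_iff]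
    intro q hq
    apply Subtype.ext
    exact (Subgroup.mem_centralizer_iff.mp hc) (q : G) hq)
  -- θ₀ has P in its kernel
  have hkerθ : ∀ u ∈ P.subgroupOf Y, (θ₀ : Y → ℂ) u = (θ₀ : Y → ℂ) 1 := by
    intro u hu
    exact ker_of_constituent_rel Y L hYL χ₀ θ₀ h1 u (hker₀ ⟨u, hYL u.2⟩ hu)
  -- degrees
  have hdegθ : (Nat.card Y).factorization p ≤
      (charDegree (θ₀ : Y → ℂ)).factorization p +
        (Nat.card (P.subgroupOf Y)).factorization p := by
    have := rel_deg p Y L hYL χ₀ θ₀ h1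
    rw [hQcard]
    omega
  have hθa : (charDegree (θ₀ : Y → ℂ)).factorization p + (Nat.card P).factorization p ≤
      (Nat.card Y).factorization p := by
    have := deg_le_of_ker p (P.subgroupOf Y) θ₀ hkerθ
    rwa [hQcard] at this
  -- the block of θ₀ has small defect
  have hγd := Cfsg.Agent.Lib.CT.KnDZ.blockDefect_le p hM (P.subgroupOf Y) hQp hk θ₀ hkerθ hdegθ
  -- move to N
  have hL'n : (Y.subgroupOf N).Normal := inferInstance
  let _ : Fintype (Y.subgroupOf N) := Fintype.ofFinite _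
  obtain ⟨T', hT'⟩ := Cfsg.Agent.Lib.Helper16.Reynolds.exists_stab (Y.subgroupOf N) hL'n
    (pull (sIso Y N hYN) '' blockOf M (θ₀ : Y → ℂ))
  have hQNn : (P.subgroupOf N).Normal := inferInstance
  have hQNp : IsPGroup p (P.subgroupOf N) := hPp.comap_subtype
  have hQNcard : Nat.card (P.subgroupOf N) = Nat.card P :=
    Nat.card_congr (sIso P N hPN).toEquiv
  apply defect_of_stab p hM (Y.subgroupOf N) hL'n (P.subgroupOf N) hQNp
    (pull (sIso Y N hYN) '' blockOf M (θ₀ : Y → ℂ)) (isPBlock_pull _ ⟨θ₀, rfl⟩)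
    (by rw [blockDefect_pull, hQNcard, ← hQcard]; exact hγd) T' hT' ?_
    (blockOf M (ξ : N → ℂ)) ⟨ξ, rfl⟩
    ⟨ξ, self_mem_blockOf hMp ξ, pull (sIso Y N hYN) θ₀, ⟨θ₀, self_mem_blockOf hMp θ₀, rfl⟩, by
      rw [classInner_pull_subgroupOf]; exact h2⟩
  -- the stabilizer
  intro hdvd
  have hcard : (Y.subgroupOf N).relIndex T' =
      Nat.card (↥T' ⧸ (Y.subgroupOf N).subgroupOf T') := Subgroup.index_eq_card _
  rw [hcard] at hdvd
  obtain ⟨q, hq⟩ := exists_prime_orderOf_dvd_card' p hdvd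
  obtain ⟨t, rfl⟩ := QuotientGroup.mk_surjective q
  have htp : (t : N) ^ p ∈ Y.subgroupOf N := by
    have h3 : ((t ^ p : T') : ↥T' ⧸ (Y.subgroupOf N).subgroupOf T') = 1 := by
      rw [QuotientGroup.mk_pow, ← hq, pow_orderOf_eq_one]
    have h4 : (t ^ p : T') ∈ (Y.subgroupOf N).subgroupOf T' := (QuotientGroup.eq_one_iff _).mp h3
    have h5 : (((t ^ p : T') : N)) ∈ Y.subgroupOf N := h4
    rwa [Subgroup.coe_pow] at h5
  have htn : (t : N) ∉ Y.subgroupOf N := by
    intro hmem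
    have h3 : ((t : T') : ↥T' ⧸ (Y.subgroupOf N).subgroupOf T') = 1 :=
      (QuotientGroup.eq_one_iff _).mpr hmem
    rw [h3, orderOf_one] at hq
    exact hp.one_lt.ne hq
  obtain ⟨z, hz⟩ : ∃ z : G, z = ((t : N) : G) := ⟨_, rfl⟩
  have hzN : z ∈ N := hz ▸ (t : N).2
  have hzp : z ^ p ∈ Y := by
    have h3 : (((t : N) ^ p : N) : G) ∈ Y := htp
    rw [hz]
    exact_mod_cast h3
  have hzY : z ∉ Y := by
    intro h
    apply htn
    show ((t : N) : G) ∈ Y
    rw [← hz]
    exact h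
  -- t stabilizes the block of θ₀
  have hst := (hT' (t : N)).mp t.2 (pull (sIso Y N hYN) θ₀) ⟨θ₀, self_mem_blockOf hMp θ₀, rfl⟩
  rw [Cfsg.Agent.Lib.Helper16.UniqueCover.cI_pull_subgroupOf Y N hY hYN hL'n (t : N) θ₀] at hst
  have hst2 : cI Y hY z θ₀ ∈ blockOf M (θ₀ : Y → ℂ) := by
    obtain ⟨η, hη, he⟩ := hst
    have h3 := pull_injective _ he
    rw [hz, ← h3]
    exact hη
  have hkerz : ∀ u ∈ P.subgroupOf Y,
      (cI Y hY z θ₀ : Y → ℂ) u = (cI Y hY z θ₀ : Y → ℂ) 1 := by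
    intro u hu
    rw [cI_apply, cI_apply]
    have e1 : (⟨z * ((1 : Y) : G) * z⁻¹, hY.conj_mem _ (1 : Y).2 z⟩ : Y) = 1 := by
      apply Subtype.ext
      simp
    rw [e1]
    apply hkerθ
    show z * (u : G) * z⁻¹ ∈ P
    exact hPn.conj_mem _ hu z
  have hfix : cI Y hY z θ₀ = θ₀ :=
    Cfsg.Agent.Lib.CT.KnDZ.canonical_unique p hM (P.subgroupOf Y) hQp hk θ₀ hkerθ hdegθ _ hst2
      hkerz
  -- the degree lemma
  have hA := Cfsg.Agent.Lib.CT.KnA.lemmaA p L Y hYL z (by
      intro x hx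
      apply hYmem
      · have h3 : x * z * x⁻¹ * z⁻¹ = x * (z * x⁻¹ * z⁻¹) := by group
        rw [h3]
        exact L.mul_mem hx (hL.conj_mem _ (L.inv_mem hx) z)
      · exact N.mul_mem (hN.conj_mem _ hzN x) (N.inv_mem hzN))
    hzp (fun i hi => hYmem _ hi (N.zpow_mem hzN i)) χ₀ θ₀ h1
    (fun y => congrArg (fun η : IrrCharacter Y => (η : Y → ℂ) y) hfix)
    ((Nat.card P).factorization p) hdeg₀ hθa
  have hzT₀ : z ∈ T₀ := by
    rw [hT₀]
    intro θ hθ
    have hfixχ : cI L hL z χ₀ = χ₀ := by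
      apply Subtype.ext
      funext x
      exact hA x
    rw [eq_blockOf_of_mem hMp hb₀ hχ₀] at hθ ⊢
    have h3 := Cfsg.Agent.Lib.Helper16.Cover3.sameBlock_cI (M := M) L hL z χ₀ θ hθ
    rw [hfixχ] at h3
    exact h3
  have hzL : z ∈ L := mem_of_pow_mem p L T₀ hpT₀ z hzT₀ (hYL hzp)
  exact hzY (hYmem z hzL hzN)

theorem map_conjNormal_subgroupOf (N P : Subgroup G) [hN : N.Normal] [hPn : P.Normal] (g : G) :
    (P.subgroupOf N).map ((MulAut.conjNormal g : N ≃* N).symm.toMonoidHom) = P.subgroupOf N := by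
  ext x
  constructor
  · rintro ⟨y, hy, rfl⟩
    show (((MulAut.conjNormal g : N ≃* N).symm y : N) : G) ∈ P
    rw [MulAut.conjNormal_symm_apply]
    have h1 : g⁻¹ * (y : G) * g = g⁻¹ * (y : G) * g⁻¹⁻¹ := by rw [inv_inv]
    rw [h1]
    exact hPn.conj_mem _ hy g⁻¹
  · intro hx
    refine ⟨MulAut.conjNormal g x, ?_, ?_⟩
    · show ((MulAut.conjNormal g x : N) : G) ∈ P
      rw [MulAut.conjNormal_apply]
      exact hPn.conj_mem _ hx g
    · exact (MulAut.conjNormal g : N ≃* N).symm_apply_apply x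

/-- **Knörr's theorem, normal defect group case.**  If the block `B` of `G` has a normal defect
group `P` contained in the normal subgroup `N`, then every block of `N` covered by `B` has
defect group `P`. -/
theorem normal_case [Fintype G] (p : ℕ) [Fact p.Prime] (hM : IsPModular p M)
    (N : Subgroup G) [hN : N.Normal] [Fintype N]
    (P : Subgroup G) [hPn : P.Normal] (hPN : P ≤ N)
    (B : Set (IrrCharacter G)) (hB : IsPBlock M B) (hP : IsDefectGroup p M B P)
    (b : Set (IrrCharacter N)) (hb : IsPBlock M b)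
    (hcov : ∃ χ ∈ B, ∃ θ ∈ b, classInner (fun n : N => (χ : G → ℂ) n) (θ : N → ℂ) ≠ 0) :
    IsDefectGroup p M b (P.subgroupOf N) := by
  classical
  have hp : p.Prime := Fact.out
  have hMp := isPrime_of_isPModular hM
  have hPp : IsPGroup p P := by
    obtain ⟨g, -, hg⟩ := isDefectGroup_iff.mp hP
    exact hg.2.1
  obtain ⟨L, hLdef⟩ : ∃ L : Subgroup G, L = P ⊔ Subgroup.centralizer (P : Set G) := ⟨_, rfl⟩
  have hL : L.Normal := by
    rw [hLdef]
    infer_instance
  let _ : Fintype L := Fintype.ofFinite _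
  have hPL : P ≤ L := hLdef ▸ le_sup_left
  have hCL : Subgroup.centralizer (P : Set G) ≤ L := hLdef ▸ le_sup_right
  have hLN : L ≤ Subgroup.normalizer (P : Set G) := by
    rw [Subgroup.normalizer_eq_top]
    exact le_top
  obtain ⟨b₀, hb₀P, hind⟩ :=
    Cfsg.Agent.Lib.Helper16.ExtFirst.exists_block_centralizer p hM P L hPL hCL hLN B hB hP
  have hb₀ : IsPBlock M b₀ := hind.1
  obtain ⟨T₀, hT₀⟩ := Cfsg.Agent.Lib.Helper16.Reynolds.exists_stab L hL b₀
  have hpT₀ := stab_index p hM P hPp L hLdef hL b₀ hb₀ hb₀P B hind hP T₀ hT₀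
  -- the canonical character
  obtain ⟨χ₀, hχ₀, hker₀'⟩ :=
    Cfsg.Agent.Lib.Helper16.QuotP.exists_trivial_on_normal_pGroup p hM b₀ hb₀ (P.subgroupOf L)
      inferInstance hPp.comap_subtype
  have hker₀ : ∀ u : L, (u : G) ∈ P → (χ₀ : L → ℂ) u = (χ₀ : L → ℂ) 1 :=
    fun u hu => hker₀' u hu
  have hdeg₀ : (Nat.card L).factorization p ≤
      (charDegree (χ₀ : L → ℂ)).factorization p + (Nat.card P).factorization p := by
    have h1 := le_add_blockDefect p b₀ χ₀ hχ₀
    have h2 := Cfsg.Agent.Lib.Helper16.Defect.card_defectGroup p hM b₀ hb₀ _ hb₀P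
    have h3 : Nat.card (P.subgroupOf L) = Nat.card P := Nat.card_congr (sIso P L hPL).toEquiv
    rw [h3] at h2
    rw [h2, hp.factorization_pow]
    simpa using h1
  -- a character of B over it
  obtain ⟨χ, hχ, hχχ₀⟩ :=
    Cfsg.Agent.Lib.Helper16.IndBlock2.exists_constituent_of_induced hMp L b₀ B hind χ₀ hχ₀
  obtain ⟨Y, hYdef⟩ : ∃ Y : Subgroup G, Y = L ⊓ N := ⟨_, rfl⟩
  have hY : Y.Normal := by
    rw [hYdef]
    infer_instance
  let _ : Fintype Y := Fintype.ofFinite _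
  have hYL : Y ≤ L := hYdef ▸ inf_le_left
  have hYN : Y ≤ N := hYdef ▸ inf_le_right
  have := finite_irrCharacter Y
  let _ := Fintype.ofFinite (IrrCharacter Y)
  obtain ⟨θ₀, hθ₀⟩ : ∃ θ₀ : IrrCharacter Y,
      classInner (fun y : Y => (χ₀ : L → ℂ) ⟨y, hYL y.2⟩) (θ₀ : Y → ℂ) ≠ 0 := by
    have hΨ : IsCharacter Y (Cfsg.Agent.Lib.Helper81.CliffCorr.resTo hYL (χ₀ : L → ℂ)) :=
      Cfsg.Agent.Lib.Helper81.CliffCorr.isCharacter_resTo hYL (isCharacter_of_irr χ₀.2)
    obtain ⟨θ₀, h⟩ := Cfsg.Agent.Lib.Helper81.CliffCorr.exists_constituent hΨ (by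
      have e : charDegree (Cfsg.Agent.Lib.Helper81.CliffCorr.resTo hYL (χ₀ : L → ℂ)) =
          charDegree (χ₀ : L → ℂ) := by
        unfold charDegree
        rw [Cfsg.Agent.Lib.Helper81.CliffCorr.resTo_apply, map_one]
      rw [e]
      exact (irr_charDegree_pos χ₀.2).ne')
    exact ⟨θ₀, (classInner_ne_zero_iff_mult hΨ θ₀).mpr h⟩
  have hχθ₀ : classInner (fun y : Y => (χ : G → ℂ) y) (θ₀ : Y → ℂ) ≠ 0 :=
    over_trans Y L hYL χ χ₀ θ₀ hχχ₀ hθ₀
  obtain ⟨ξ, hξ1, hξ2⟩ := exists_middle Y N hYN χ θ₀ hχθ₀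
  have hcore := core p hM N P hPp hPN L hL hLdef Y hY hYdef T₀ b₀ hb₀ hT₀ hpT₀ χ₀ hχ₀ hker₀
    hdeg₀ hYL hYN ξ θ₀ hθ₀ hξ2
  -- transfer to `b` by conjugation
  obtain ⟨ξ', hξ', hξ'χ⟩ :=
    Cfsg.Agent.Lib.Helper16.Reynolds.forall_cover hMp N hN b hb B hB hcov χ hχ
  have := finite_irrCharacter G
  let _ := Fintype.ofFinite (IrrCharacter G)
  obtain ⟨g, hg⟩ := Cfsg.Agent.Lib.Helper81.Cliff.clifford_conj (N := N) χ ξ ξ'
    (by rw [← classInner_eq_multC]; exact hξ1) (by rw [← classInner_eq_multC]; exact hξ'χ)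
  have hb' : b = pull (MulAut.conjNormal g⁻¹ : N ≃* N) '' blockOf M (ξ : N → ℂ) := by
    rw [← blockOf_pull]
    have e : pull (MulAut.conjNormal g⁻¹ : N ≃* N) ξ = ξ' := hg
    rw [e]
    exact eq_blockOf_of_mem hMp hb hξ'
  rw [hb']
  have h5 := Cfsg.Agent.Lib.Helper77.BPEquiv2.isDefectGroup_pull
    (MulAut.conjNormal g⁻¹ : N ≃* N) hcore
  rw [map_conjNormal_subgroupOf] at h5
  exact h5

end Cfsg.Agent.Lib.CT.KnNormal
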