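import Cfsg.Agent.Lib.Helper81.CliffCorr
import Cfsg.Agent.Lib.CT.Wedderburn
import Cfsg.Agent.S0137
import Cfsg.Agent.S0138

/-!
# Utilities on constituents of restricted characters

Transitivity of "lying over" through an intermediate subgroup, and kernels of constituents.
-/

set_option autoImplicit false
open Cfsg

namespace Cfsg.Agent.Lib.CT.KnUtil

open Cfsg.Agent.Lib.CT.Wedderburn
open Cfsg.Agent.Lib.Helper81.Mult Cfsg.Agent.Lib.Helper81.Cliff Cfsg.Agent.Lib.Helper81.CliffCorr

universe u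
variable {G : Type u} [Group G]

theorem classInner_eq_multC [Fintype G] (Ψ : G → ℂ) (χ : IrrCharacter G) :
    classInner Ψ (χ : G → ℂ) = multC Ψ χ := by
  unfold classInner
  rw [multC_def]
  congr 1
  refine Finset.sum_congr rfl fun g _ => ?_
  rw [char_apply_inv (isCharacter_of_irr χ.2)]

theorem classInner_ne_zero_iff_mult [Fintype G] {Ψ : G → ℂ} (hΨ : IsCharacter G Ψ)
    (χ : IrrCharacter G) : classInner Ψ (χ : G → ℂ) ≠ 0 ↔ mult Ψ χ ≠ 0 := by
  rw [classInner_eq_multC, ← mult_cast hΨ]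
  exact Nat.cast_ne_zero

/-- Transitivity of lying over: `θ` under `χ` under `ψ`. -/
theorem over_trans [Finite G] (K H : Subgroup G) [Fintype K] [Fintype H] (hKH : K ≤ H)
    (ψ : IrrCharacter G) (χ : IrrCharacter H) (θ : IrrCharacter K)
    (h1 : classInner (fun h : H => (ψ : G → ℂ) h) (χ : H → ℂ) ≠ 0)
    (h2 : classInner (fun k : K => (χ : H → ℂ) ⟨k, hKH k.2⟩) (θ : K → ℂ) ≠ 0) :
    classInner (fun k : K => (ψ : G → ℂ) k) (θ : K → ℂ) ≠ 0 := by
  classical
  have := finite_irrCharacter H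
  let _ := Fintype.ofFinite (IrrCharacter H)
  have hres : IsCharacter H (res H (ψ : G → ℂ)) := isCharacter_res H (isCharacter_of_irr ψ.2)
  have hresK : IsCharacter K (res K (ψ : G → ℂ)) := isCharacter_res K (isCharacter_of_irr ψ.2)
  have hχK : IsCharacter K (resTo hKH (χ : H → ℂ)) :=
    isCharacter_resTo hKH (isCharacter_of_irr χ.2)
  have e1 : mult (res H (ψ : G → ℂ)) χ ≠ 0 := (classInner_ne_zero_iff_mult hres χ).mp h1
  have e2 : mult (resTo hKH (χ : H → ℂ)) θ ≠ 0 := (classInner_ne_zero_iff_mult hχK θ).mp h2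
  have e3 := mult_res_trans hKH hres θ
  apply (classInner_ne_zero_iff_mult hresK θ).mpr
  show mult (resTo hKH (res H (ψ : G → ℂ))) θ ≠ 0
  rw [e3]
  intro h0
  have h4 := (Finset.sum_eq_zero_iff.mp h0) χ (Finset.mem_univ _)
  rcases Nat.mul_eq_zero.mp h4 with h | h
  · exact e1 h
  · exact e2 h

/-- A constituent of a restriction to `K` comes from a constituent of the restriction to an
intermediate subgroup `H`. -/
theorem exists_middle [Finite G] (K H : Subgroup G) [Fintype K] [Fintype H] (hKH : K ≤ H)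
    (ψ : IrrCharacter G) (θ : IrrCharacter K)
    (h : classInner (fun k : K => (ψ : G → ℂ) k) (θ : K → ℂ) ≠ 0) :
    ∃ χ : IrrCharacter H, classInner (fun h : H => (ψ : G → ℂ) h) (χ : H → ℂ) ≠ 0 ∧
      classInner (fun k : K => (χ : H → ℂ) ⟨k, hKH k.2⟩) (θ : K → ℂ) ≠ 0 := by
  classical
  have := finite_irrCharacter H
  let _ := Fintype.ofFinite (IrrCharacter H)
  have hres : IsCharacter H (res H (ψ : G → ℂ)) := isCharacter_res H (isCharacter_of_irr ψ.2)
  have hresK : IsCharacter K (res K (ψ : G → ℂ)) := isCharacter_res K (isCharacter_of_irr ψ.2)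
  have e0 : mult (resTo hKH (res H (ψ : G → ℂ))) θ ≠ 0 :=
    (classInner_ne_zero_iff_mult hresK θ).mp h
  rw [mult_res_trans hKH hres θ] at e0
  obtain ⟨χ, -, hχ⟩ := Finset.exists_ne_zero_of_sum_ne_zero e0
  refine ⟨χ, (classInner_ne_zero_iff_mult hres χ).mpr (left_ne_zero_of_mul hχ), ?_⟩
  exact (classInner_ne_zero_iff_mult (isCharacter_resTo hKH (isCharacter_of_irr χ.2)) θ).mpr
    (right_ne_zero_of_mul hχ)

/-- The values of a character are bounded by its degree. -/
theorem norm_le_apply_one [Finite G] {χ : G → ℂ} (hχ : IsCharacter G χ) (g : G) :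
    ‖χ g‖ ≤ (χ 1).re := by
  obtain ⟨n, ρ, rfl⟩ := hχ
  rw [Representation.char_one]
  simp only [Complex.natCast_re]
  exact Cfsg.Agent.S0137.result ρ g

/-- An element in the kernel of a character lies in the kernel of each constituent of its
restriction to a subgroup. -/
theorem ker_of_constituent [Finite G] (K : Subgroup G) [Fintype K] (χ : IrrCharacter G)
    (θ : IrrCharacter K) (h : classInner (fun k : K => (χ : G → ℂ) k) (θ : K → ℂ) ≠ 0)
    (u : K) (hu : (χ : G → ℂ) u = (χ : G → ℂ) 1) : (θ : K → ℂ) u = (θ : K → ℂ) 1 := by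
  classical
  have := finite_irrCharacter K
  let _ := Fintype.ofFinite (IrrCharacter K)
  have hres : IsCharacter K (res K (χ : G → ℂ)) := isCharacter_res K (isCharacter_of_irr χ.2)
  have e1 : mult (res K (χ : G → ℂ)) θ ≠ 0 := (classInner_ne_zero_iff_mult hres θ).mp h
  have hu' : res K (χ : G → ℂ) u = res K (χ : G → ℂ) 1 := hu
  rw [char_expand hres u, char_expand hres 1] at hu'
  have hterm : ∀ η : IrrCharacter K, 0 ≤ (mult (res K (χ : G → ℂ)) η : ℝ) *
      (((η : K → ℂ) 1).re - ((η : K → ℂ) u).re) := by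
    intro η
    apply mul_nonneg (Nat.cast_nonneg _)
    have h1 := norm_le_apply_one (isCharacter_of_irr η.2) u
    have h2 := Complex.re_le_norm ((η : K → ℂ) u)
    linarith
  have hsum : ∑ η : IrrCharacter K, (mult (res K (χ : G → ℂ)) η : ℝ) *
      (((η : K → ℂ) 1).re - ((η : K → ℂ) u).re) = 0 := by
    have h3 := congrArg Complex.re hu'
    rw [Complex.re_sum, Complex.re_sum] at h3
    have key : ∀ (m : ℕ) (z : ℂ), ((m : ℂ) * z).re = (m : ℝ) * z.re := by
      intro m z
      simp
    simp only [key] at h3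
    simp only [mul_sub, Finset.sum_sub_distrib]
    rw [sub_eq_zero]
    exact h3.symm
  have h5 := (Finset.sum_eq_zero_iff_of_nonneg fun η _ => hterm η).mp hsum θ (Finset.mem_univ _)
  have h6 : ((θ : K → ℂ) 1).re - ((θ : K → ℂ) u).re = 0 := by
    rcases mul_eq_zero.mp h5 with h | h
    · exact absurd (Nat.cast_eq_zero.mp h) e1
    · exact h
  have h7 : ((θ : K → ℂ) u).re = ((θ : K → ℂ) 1).re := by linarith
  have h8 := Cfsg.Agent.S0138.eq_of_norm_le_of_re_eq
    (norm_le_apply_one (isCharacter_of_irr θ.2) u) h7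
  rw [h8]
  obtain ⟨n, hn⟩ := char_exists_apply_one (isCharacter_of_irr θ.2)
  rw [hn]
  simp

end Cfsg.Agent.Lib.CT.KnUtil
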