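import Cfsg.Agent.Lib.Helper77.BPCyc

/-!
# Fusion of major subsections

Let `(P, e)` be a maximal Brauer pair of the block `B`.

* `exists_mul_of_conj'`: if `(Q, f)` and `(Q', f')` lie below `(P, e)`, `P` centralizes `Q` and
  `Q'`, and `x` conjugates `(Q, f)` to `(Q', f')`, then `x = c * y` with `c ∈ C_G(Q')` and
  `y ∈ N_G(P, e)`.
* `subsection_fusion`: two central elements of `P` giving the same subsection block at `x` are
  conjugate under `N_G(P, e)`.
* `subsection_defect`: the subsection blocks of central elements of `P` have the defect of `B`.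
* `orbit_ncard_le`: the orbits of `N_G(P, e)` on the centre of `P` have at most
  `[N_G(P, e) : P C_G(P)]` elements.
-/

set_option autoImplicit false

namespace Cfsg.Agent.Lib.CT.MajFus

open Cfsg Cfsg.Agent.Lib.Helper77.LocalRing Cfsg.Agent.Lib.Helper77.CentralChar
  Cfsg.Agent.Lib.Helper77.ClassSum Cfsg.Agent.Lib.Helper77.BlockIdem
  Cfsg.Agent.Lib.Helper77.BPBasic Cfsg.Agent.Lib.Helper77.BPBrauer
  Cfsg.Agent.Lib.Helper77.BPPairs Cfsg.Agent.Lib.Helper77.BPConj
  Cfsg.Agent.Lib.Helper77.BPNormal Cfsg.Agent.Lib.Helper77.BPSubpair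
  Cfsg.Agent.Lib.Helper77.BPIdem Cfsg.Agent.Lib.Helper77.BPMax
  Cfsg.Agent.Lib.Helper77.BPMax2 Cfsg.Agent.Lib.Helper77.BPEquiv
  Cfsg.Agent.Lib.Helper77.BPEquiv2
  Cfsg.Agent.Lib.Helper77.BPTransport Cfsg.Agent.Lib.Helper77.BPConjMax
  Cfsg.Agent.Lib.Helper77.BPCent Cfsg.Agent.Lib.Helper77.BPStab
  Cfsg.Agent.Lib.Helper77.BPNorm Cfsg.Agent.Lib.Helper77.BPFix
  Cfsg.Agent.Lib.Helper77.BPSub Cfsg.Agent.Lib.Helper77.BPFus
  Cfsg.Agent.Lib.Helper77.BPCyc
  Cfsg.Agent.Lib.CT.Wedderburn Cfsg.Agent.Lib.Helper16.ZR Cfsg.Agent.Lib.Helper33.Conj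
  Cfsg.Agent.Lib.Helper16.MinMax Cfsg.Agent.Lib.Helper16.Defect

universe u
variable {G : Type u} [Group G] {M : Ideal AlgInt}

/-- **Fusion of subpairs centralized by the defect group.** -/
theorem exists_mul_of_conj' [Finite G] {p : ℕ} [Fact p.Prime] (hM : IsPModular p M)
    {B : Set (IrrCharacter G)} {P : Subgroup G}
    {e : Set (IrrCharacter (Subgroup.centralizer (P : Set G)))}
    (hmax : IsMaximalBrauerPair p M B P e)
    {Q Q' : Subgroup G} {f : Set (IrrCharacter (Subgroup.centralizer (Q : Set G)))}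
    {f' : Set (IrrCharacter (Subgroup.centralizer (Q' : Set G)))}
    (hf : IsPBlock M f) (hf' : IsPBlock M f')
    (hle : SubpairLE p M Q f P e) (hle' : SubpairLE p M Q' f' P e)
    (hPCQ : P ≤ Subgroup.centralizer (Q : Set G))
    (hPC : P ≤ Subgroup.centralizer (Q' : Set G)) (x : G)
    (hx : cjp x ⟨Q, f⟩ = (⟨Q', f'⟩ : BrauerPairIdx G)) :
    ∃ c ∈ Subgroup.centralizer (Q' : Set G), ∃ y ∈ Subgroup.normalizer (P : Set G),
      StabilizesBlock (Subgroup.centralizer (P : Set G)) e y ∧ x = c * y := by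
  classical
  have hMp := isPrime_of_isPModular hM
  have hPe := hmax.1.1
  have hle₂ : Relation.ReflTransGen (NormalSubpairRel p M) ⟨Q', f'⟩ (cjp x ⟨P, e⟩) := by
    have h1 := subpairLE_conj (M := M) x hle
    rwa [hx] at h1
  have hPe₂ : IsBrauerPair p M (P.map (MulAut.conj x).toMonoidHom) (conjBlock P x e) :=
    isBrauerPair_conj P x hPe
  have hQ' : Q' = Q.map (MulAut.conj x).toMonoidHom := (congrArg Sigma.fst hx).symm
  have hPxC : P.map (MulAut.conj x).toMonoidHom ≤ Subgroup.centralizer (Q' : Set G) := by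
    intro u hu
    rw [Subgroup.mem_centralizer_iff]
    intro q hq
    have hq' : q ∈ Q.map (MulAut.conj x).toMonoidHom := by
      rw [← hQ']
      exact hq
    obtain ⟨u₀, hu₀, rfl⟩ := hu
    obtain ⟨q₀, hq₀, rfl⟩ := hq'
    have h1 : q₀ * u₀ = u₀ * q₀ := Subgroup.mem_centralizer_iff.mp (hPCQ hu₀) q₀ hq₀
    show x * q₀ * x⁻¹ * (x * u₀ * x⁻¹) = x * u₀ * x⁻¹ * (x * q₀ * x⁻¹)
    calc x * q₀ * x⁻¹ * (x * u₀ * x⁻¹) = x * (q₀ * u₀) * x⁻¹ := by group
      _ = x * (u₀ * q₀) * x⁻¹ := by rw [h1]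
      _ = x * u₀ * x⁻¹ * (x * q₀ * x⁻¹) := by group
  have hD₁ := isDefectGroup_of_le_centralizer hM hmax hle' hPC
  obtain ⟨D₂, hD₂, hD₂le⟩ := exists_defectGroup_ge_centralizer hM hPe₂ hle₂
  obtain ⟨c₁, hc₁⟩ := defectGroup_conj hM f' hf' hD₁ hD₂
  have hsub : P.map (MulAut.conj x).toMonoidHom ≤ P.map (MulAut.conj (c₁ : G)).toMonoidHom := by
    intro u hu
    have h1 : (⟨u, hPxC hu⟩ : Subgroup.centralizer (Q' : Set G)) ∈ D₂ :=
      hD₂le (Subgroup.mem_subgroupOf.mpr ⟨hu, hPxC hu⟩)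
    rw [hc₁, mem_cj] at h1
    rw [mem_cj]
    exact Subgroup.mem_subgroupOf.mp h1
  have heq : P.map (MulAut.conj x).toMonoidHom = P.map (MulAut.conj (c₁ : G)).toMonoidHom :=
    Subgroup.eq_of_le_of_card_ge hsub (by rw [card_cj, card_cj])
  obtain ⟨y₁, hy₁⟩ : ∃ y₁ : G, y₁ = (c₁ : G)⁻¹ * x := ⟨_, rfl⟩
  have hy₁N : y₁ ∈ Subgroup.normalizer (P : Set G) := by
    rw [mem_normalizer_iff_cj_eq, hy₁, ← cj_cj, heq, cj_inv_cj]
  have hfix₁ : cjp y₁ ⟨Q, f⟩ = (⟨Q', f'⟩ : BrauerPairIdx G) := by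
    rw [hy₁, ← cjp_mul hMp x (c₁ : G)⁻¹ ⟨Q, f⟩ hf, hx]
    exact cjp_eq_self (Subgroup.centralizer_le_normalizer _ (inv_mem c₁.2))
      (stabilizes_of_mem_centralizer Q' f' (inv_mem c₁.2))
  have hle₃ : Relation.ReflTransGen (NormalSubpairRel p M) ⟨Q', f'⟩
      ⟨P, conjB (Subgroup.centralizer (P : Set G)) y₁
        (normalizer_le_normalizer_centralizer P hy₁N) e⟩ := by
    have h1 := subpairLE_conj (M := M) y₁ hle
    rwa [hfix₁, cjp_eq_conjB hy₁N] at h1
  have hPe₃ : IsBrauerPair p M P (conjB (Subgroup.centralizer (P : Set G)) y₁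
      (normalizer_le_normalizer_centralizer P hy₁N) e) :=
    ⟨hPe.1, isPBlock_conjB _ _ _ hPe.2⟩
  have hnorm₃ := isNormalSubpair_of_le hM hPe₃ hle₃
    (hPC.trans (Subgroup.centralizer_le_normalizer _))
  obtain ⟨n, hnC, hnN, hn⟩ := exists_conj_of_normal hM hmax hle' hPC _ hnorm₃
  rw [← conjA_ext_blockIdem] at hn
  refine ⟨(c₁ : G) * n, mul_mem c₁.2 hnC, n⁻¹ * y₁, mul_mem (inv_mem hnN) hy₁N, ?_, ?_⟩
  · rw [stabilizesBlock_iff_conjA _ _ (normalizer_le_normalizer_centralizer P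
      (mul_mem (inv_mem hnN) hy₁N)), conjA_mul, hn, conjA_inv_cancel]
  · rw [hy₁]
    group

/-- Central elements of `P` centralize... the cyclic group they generate is centralized by `P`. -/
theorem le_centralizer_zpowers {P : Subgroup G} {u : G} (huZ : ∀ v ∈ P, u * v = v * u) :
    P ≤ Subgroup.centralizer ((Subgroup.zpowers u : Subgroup G) : Set G) := by
  intro v hv
  rw [centralizer_zpowers_eq, Subgroup.mem_centralizer_iff]
  intro q hq
  rw [Set.mem_singleton_iff] at hq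
  rw [hq]
  exact huZ v hv

/-- **Fusion of major subsections.**  Two central elements of `P` with the same subsection block
at `x` are conjugate under the stabilizer of the maximal pair. -/
theorem subsection_fusion [Finite G] {p : ℕ} [Fact p.Prime] (hM : IsPModular p M)
    {B : Set (IrrCharacter G)} {P : Subgroup G}
    {c : Set (IrrCharacter (Subgroup.centralizer (P : Set G)))}
    (hmax : IsMaximalBrauerPair p M B P c)
    {x u u' : G} (huZ : ∀ v ∈ P, u * v = v * u) (hu'Z : ∀ v ∈ P, u' * v = v * u')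
    {b : Set (IrrCharacter (Subgroup.centralizer ({x} : Set G)))}
    (h : IsSubsectionBlock p M P c x u b) (h' : IsSubsectionBlock p M P c x u' b) :
    ∃ y ∈ Subgroup.normalizer (P : Set G),
      StabilizesBlock (Subgroup.centralizer (P : Set G)) c y ∧ y * u * y⁻¹ = u' := by
  have hMp := isPrime_of_isPModular hM
  obtain ⟨⟨Q, f⟩, g, hg, ha1, hfb, hle, hheq⟩ := h
  obtain ⟨⟨Q', f'⟩, g', hg', ha1', hfb', hle', hheq'⟩ := h'
  simp only at ha1 ha1' hfb hfb'
  have h1 : (cjp g ⟨Q, f⟩).1 = (cjp g' ⟨Q', f'⟩).1 := by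
    show Q.map (MulAut.conj g).toMonoidHom = Q'.map (MulAut.conj g').toMonoidHom
    rw [ha1, ha1', MonoidHom.map_zpowers, MonoidHom.map_zpowers]
    have e1 : (MulAut.conj g).toMonoidHom u = x := by
      rw [← hg]
      simp [MulAut.conj_apply]
    have e2 : (MulAut.conj g').toMonoidHom u' = x := by
      rw [← hg']
      simp [MulAut.conj_apply]
    rw [e1, e2]
  have h3 : cjp g ⟨Q, f⟩ = cjp g' ⟨Q', f'⟩ := Sigma.ext h1 (hheq.trans hheq'.symm)
  have hfus : cjp (g'⁻¹ * g) ⟨Q, f⟩ = (⟨Q', f'⟩ : BrauerPairIdx G) := by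
    rw [← cjp_mul hMp g g'⁻¹ ⟨Q, f⟩ hfb, h3, cjp_mul hMp g' g'⁻¹ ⟨Q', f'⟩ hfb', inv_mul_cancel,
      cjp_one hMp ⟨Q', f'⟩ hfb']
  have hPCQ : P ≤ Subgroup.centralizer (Q : Set G) := by
    rw [ha1]
    exact le_centralizer_zpowers huZ
  have hPCQ' : P ≤ Subgroup.centralizer (Q' : Set G) := by
    rw [ha1']
    exact le_centralizer_zpowers hu'Z
  obtain ⟨c₀, hc₀, y, hyN, hys, hxy⟩ := exists_mul_of_conj' hM hmax hfb hfb' hle hle' hPCQ hPCQ'
    (g'⁻¹ * g) hfus
  refine ⟨y, hyN, hys, ?_⟩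
  have hcu : u' * c₀ = c₀ * u' := by
    refine Subgroup.mem_centralizer_iff.mp hc₀ u' ?_
    rw [ha1']
    exact Subgroup.mem_zpowers u'
  have e1 : (g'⁻¹ * g) * u = u' * (g'⁻¹ * g) := by
    have h5 : g * u = x * g := by rw [← hg]; group
    have h6 : g'⁻¹ * x = u' * g'⁻¹ := by rw [← hg']; group
    calc (g'⁻¹ * g) * u = g'⁻¹ * (g * u) := by group
      _ = g'⁻¹ * (x * g) := by rw [h5]
      _ = (g'⁻¹ * x) * g := by group
      _ = (u' * g'⁻¹) * g := by rw [h6]
      _ = u' * (g'⁻¹ * g) := by group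
  rw [hxy] at e1
  have e2 : c₀ * (y * u) = c₀ * (u' * y) := by
    calc c₀ * (y * u) = (c₀ * y) * u := by group
      _ = u' * (c₀ * y) := e1
      _ = (u' * c₀) * y := by group
      _ = (c₀ * u') * y := by rw [hcu]
      _ = c₀ * (u' * y) := by group
  have e3 : y * u = u' * y := mul_left_cancel e2
  rw [e3]
  group

/-- The defect of a set of characters is invariant under transport along an isomorphism. -/
theorem blockDefect_pull {H K : Type u} [Group H] [Group K] (p : ℕ) (φ : H ≃* K)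
    (f : Set (IrrCharacter K)) : blockDefect p (pull φ '' f) = blockDefect p f := by
  unfold blockDefect
  have h1 : Nat.card H = Nat.card K := Nat.card_congr φ.toEquiv
  have h2 : (fun χ : IrrCharacter H => (charDegree (χ : H → ℂ)).factorization p) '' (pull φ '' f)
      = (fun χ : IrrCharacter K => (charDegree (χ : K → ℂ)).factorization p) '' f := by
    rw [Set.image_image]
    refine Set.image_congr fun χ _ => ?_
    have h3 : charDegree (pull φ χ : H → ℂ) = charDegree (χ : K → ℂ) := by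
      unfold charDegree
      rw [pull_apply, map_one]
    rw [h3]
  rw [h1, h2]

/-- The defect of a set of characters is invariant under transport along an equality of
subgroups. -/
theorem blockDefect_heq {p : ℕ} {K K' : Subgroup G} (h : K = K') (b : Set (IrrCharacter K))
    (b' : Set (IrrCharacter K')) (hb : HEq b b') : blockDefect p b = blockDefect p b' := by
  subst h
  rw [eq_of_heq hb]

/-- **Subsection blocks of central elements are major.** -/
theorem subsection_defect [Finite G] {p : ℕ} [Fact p.Prime] (hM : IsPModular p M)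
    {B : Set (IrrCharacter G)} {P : Subgroup G}
    {c : Set (IrrCharacter (Subgroup.centralizer (P : Set G)))}
    (hmax : IsMaximalBrauerPair p M B P c)
    {x u : G} (huZ : ∀ v ∈ P, u * v = v * u)
    {b : Set (IrrCharacter (Subgroup.centralizer ({x} : Set G)))}
    (h : IsSubsectionBlock p M P c x u b) : blockDefect p b = blockDefect p B := by
  classical
  have hpp : p.Prime := Fact.out
  have hMp := isPrime_of_isPModular hM
  obtain ⟨⟨Q, f⟩, g, hg, ha1, hfb, hle, hheq⟩ := h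
  simp only at ha1 hfb
  have hPCQ : P ≤ Subgroup.centralizer (Q : Set G) := by
    rw [ha1]
    exact le_centralizer_zpowers huZ
  have hD₁ := isDefectGroup_of_le_centralizer hM hmax hle hPCQ
  have hDB := isDefectGroup_of_maximal hM hmax
  have hc1 := card_defectGroup p hM f hfb _ hD₁
  have hc2 := card_defectGroup p hM B hmax.1.2.1 P hDB
  have hc3 : Nat.card (P.subgroupOf (Subgroup.centralizer (Q : Set G))) = Nat.card P :=
    Nat.card_congr (Subgroup.subgroupOfEquivOfLe hPCQ).toEquiv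
  have hfB : blockDefect p f = blockDefect p B := by
    rw [hc3, hc2] at hc1
    exact (Nat.pow_right_injective hpp.two_le hc1).symm
  have hK : Subgroup.centralizer
      ((Q.map (MulAut.conj g).toMonoidHom : Subgroup G) : Set G) =
      Subgroup.centralizer ({x} : Set G) := by
    rw [ha1, MonoidHom.map_zpowers, centralizer_zpowers_eq]
    have h1 : (MulAut.conj g).toMonoidHom u = x := by
      rw [← hg]
      simp [MulAut.conj_apply]
    rw [h1]
  have h4 : blockDefect p (conjBlock Q g f) = blockDefect p b :=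
    blockDefect_heq hK _ _ hheq
  rw [← h4, conjBlock_eq, blockDefect_pull, hfB]

/-- **Orbits of the stabilizer of a maximal pair on the centre of the defect group.** -/
theorem orbit_ncard_le [Finite G] (P T : Subgroup G) (u₀ : G) (hu₀ : u₀ ∈ P)
    (hu₀Z : ∀ v ∈ P, u₀ * v = v * u₀) :
    Set.ncard {u : G | ∃ y ∈ T, y * u₀ * y⁻¹ = u}
      ≤ (P ⊔ Subgroup.centralizer (P : Set G)).relIndex T := by
  classical
  obtain ⟨L, hL⟩ : ∃ L : Subgroup G, L = P ⊔ Subgroup.centralizer (P : Set G) := ⟨_, rfl⟩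
  rw [← hL]
  have hLc : ∀ l ∈ L, l * u₀ = u₀ * l := by
    have hle : L ≤ Subgroup.centralizer ({u₀} : Set G) := by
      rw [hL]
      apply sup_le
      · intro v hv
        rw [Subgroup.mem_centralizer_iff]
        intro q hq
        rw [Set.mem_singleton_iff] at hq
        rw [hq]
        exact hu₀Z v hv
      · intro v hv
        rw [Subgroup.mem_centralizer_iff]
        intro q hq
        rw [Set.mem_singleton_iff] at hq
        rw [hq]
        exact Subgroup.mem_centralizer_iff.mp hv u₀ hu₀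
    intro l hl
    exact (Subgroup.mem_centralizer_iff.mp (hle hl) u₀ rfl).symm
  obtain ⟨φ, hφ⟩ : ∃ φ : T ⧸ L.subgroupOf T → G,
      φ = fun q => ((Quotient.out q : T) : G) * u₀ * ((Quotient.out q : T) : G)⁻¹ := ⟨_, rfl⟩
  have hsub : {u : G | ∃ y ∈ T, y * u₀ * y⁻¹ = u} ⊆ Set.range φ := by
    rintro u ⟨y, hy, rfl⟩
    refine ⟨QuotientGroup.mk (⟨y, hy⟩ : T), ?_⟩
    rw [hφ]
    have h1 : (QuotientGroup.mk (Quotient.out (QuotientGroup.mk (⟨y, hy⟩ : T) :
        T ⧸ L.subgroupOf T)) : T ⧸ L.subgroupOf T) = QuotientGroup.mk (⟨y, hy⟩ : T) :=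
      Quotient.out_eq _
    rw [QuotientGroup.eq] at h1
    obtain ⟨o, ho⟩ : ∃ o : T, o = Quotient.out (QuotientGroup.mk (⟨y, hy⟩ : T) :
        T ⧸ L.subgroupOf T) := ⟨_, rfl⟩
    rw [← ho] at h1
    have hgoal : (fun q : T ⧸ L.subgroupOf T =>
        ((Quotient.out q : T) : G) * u₀ * ((Quotient.out q : T) : G)⁻¹)
        (QuotientGroup.mk (⟨y, hy⟩ : T)) = (o : G) * u₀ * (o : G)⁻¹ := by
      rw [ho]
    rw [hgoal]
    have h2 : ((o⁻¹ * ⟨y, hy⟩ : T) : G) ∈ L := Subgroup.mem_subgroupOf.mp h1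
    have h3 := hLc _ h2
    rw [Subgroup.coe_mul, Subgroup.coe_inv] at h3
    have h4 : (o : G)⁻¹ * y * u₀ = u₀ * ((o : G)⁻¹ * y) := h3
    calc (o : G) * u₀ * (o : G)⁻¹ = (o : G) * (u₀ * ((o : G)⁻¹ * y)) * y⁻¹ := by group
      _ = (o : G) * ((o : G)⁻¹ * y * u₀) * y⁻¹ := by rw [h4]
      _ = y * u₀ * y⁻¹ := by group
  calc Set.ncard {u : G | ∃ y ∈ T, y * u₀ * y⁻¹ = u} ≤ Set.ncard (Set.range φ) :=
        Set.ncard_le_ncard hsub (Set.toFinite _)
    _ ≤ Nat.card (T ⧸ L.subgroupOf T) := by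
        rw [← Set.image_univ]
        have := Set.ncard_image_le (f := φ) (Set.toFinite (Set.univ : Set (T ⧸ L.subgroupOf T)))
        rwa [Set.ncard_univ] at this
    _ = L.relIndex T := rfl

end Cfsg.Agent.Lib.CT.MajFus
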