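import Cfsg.Agent.Lib.CT.ThirdMain
import Cfsg.Agent.Lib.Helper80.RBrauer
import Cfsg.Agent.S0925

set_option autoImplicit false

namespace Cfsg.Agent.Lib.CT.PrincipalIdem

open Cfsg Cfsg.Agent.Lib.Helper77.LocalRing Cfsg.Agent.Lib.Helper77.CentralChar
  Cfsg.Agent.Lib.Helper77.ClassSum Cfsg.Agent.Lib.Helper77.BlockIdem
  Cfsg.Agent.Lib.CT.Wedderburn Cfsg.Agent.Lib.CT.DefectZeroBlock Cfsg.Agent.Lib.CT.ThirdMain

open scoped ComplexConjugate

universe u
variable {G : Type u} [Group G]

open Classical in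
/-- The indicator function of the `p`-elements. -/
noncomputable def dP (p : ℕ) : G → ℂ := fun g => if ∃ k : ℕ, orderOf g = p ^ k then 1 else 0

theorem dP_inv (p : ℕ) (g : G) : dP p g⁻¹ = dP p g := by
  unfold dP
  rw [orderOf_inv]

theorem dP_conj (p : ℕ) (x g : G) : dP p (x * g * x⁻¹) = dP p g := by
  unfold dP
  have : orderOf (x * g * x⁻¹) = orderOf g := (MulAut.conj x).orderOf_eq g
  rw [this]

/-- The sum of the `p`-elements. -/
noncomputable def sPel [Finite G] (p : ℕ) : MonoidAlgebra ℂ G := ofFun (dP p)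

theorem coeff_sPel [Finite G] (p : ℕ) (g : G) :
    (sPel p : MonoidAlgebra ℂ G).coeff g = dP p g := rfl

theorem sPel_mem_center [Finite G] (p : ℕ) : (sPel p : MonoidAlgebra ℂ G) ∈ Zc G :=
  ofFun_mem_center _ (dP_conj p)

/-- The inner product of the indicator function of the `p`-elements with an irreducible
character is a local integer (by Brauer's characterization of characters). -/
theorem classInner_dP_memLocalRing [Fintype G] {p : ℕ} {M : Ideal AlgInt} (hM : IsPModular p M)
    (χ : IrrCharacter G) : MemLocalRing M (classInner (dP p) (χ : G → ℂ)) := by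
  classical
  have hp : p.Prime := hM.1
  have hMp := isPrime_of_isPModular hM
  obtain ⟨a, ha⟩ : ∃ a : ℕ, a = (Nat.card G).factorization p := ⟨_, rfl⟩
  have hcard : Nat.card G = (Nat.card G / p ^ a) * p ^ a := by
    rw [ha, mul_comm]
    exact (Nat.ordProj_mul_ordCompl_eq_self (Nat.card G) p).symm
  have hn' : ¬ p ∣ Nat.card G / p ^ a := by
    rw [ha]
    exact Nat.not_dvd_ordCompl hp Nat.card_pos.ne'
  have hcop : Nat.Coprime (Nat.card G / p ^ a) (p ^ a) :=
    Nat.Coprime.pow_right _ ((Nat.Prime.coprime_iff_not_dvd hp).mpr hn').symm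
  obtain ⟨e, he1, he0⟩ := Nat.chineseRemainder hcop 1 0
  have hint := Cfsg.Agent.Lib.Helper80.RBrauer.isIntegral_classInner_ind (Nat.card G / p ^ a)
    (p ^ a) e hcop hcard he1 he0 (1 : G) (χ : G → ℂ) (isCharacter_of_irr χ.2)
  have hind : Cfsg.Agent.Lib.Helper80.RBrauer.ind (1 : G) (Nat.card G / p ^ a) e =
      fun x => ((Nat.card G / p ^ a : ℕ) : ℂ) * dP p x := by
    funext x
    unfold Cfsg.Agent.Lib.Helper80.RBrauer.ind dP
    have hiff : IsConj (x ^ e) 1 ↔ ∃ k : ℕ, orderOf x = p ^ k := by
      rw [isConj_one_left]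
      constructor
      · intro h
        have h1 : orderOf x ∣ e := orderOf_dvd_of_pow_eq_one h
        have h2 : orderOf x ∣ (Nat.card G / p ^ a) * p ^ a := hcard ▸ orderOf_dvd_natCard x
        have h4 : Nat.Coprime e (Nat.card G / p ^ a) := by
          have h5 := he1.gcd_eq
          unfold Nat.Coprime
          rw [h5]
          simp
        have h3 : Nat.Coprime (orderOf x) (Nat.card G / p ^ a) :=
          Nat.Coprime.coprime_dvd_left h1 h4
        have h5 : orderOf x ∣ p ^ a := h3.dvd_of_dvd_mul_left h2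
        obtain ⟨k, -, hk⟩ := (Nat.dvd_prime_pow hp).mp h5
        exact ⟨k, hk⟩
      · rintro ⟨k, hk⟩
        have h2 : orderOf x ∣ Nat.card G := orderOf_dvd_natCard x
        have h3 : p ^ k ∣ p ^ a := by
          rw [hk] at h2
          have : k ≤ a := by
            rw [ha]
            exact (hp.pow_dvd_iff_le_factorization Nat.card_pos.ne').mp h2
          exact pow_dvd_pow p this
        have h4 : p ^ a ∣ e := (Nat.modEq_zero_iff_dvd).mp he0
        exact orderOf_dvd_iff_pow_eq_one.mp (hk ▸ h3.trans h4)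
    by_cases h : ∃ k : ℕ, orderOf x = p ^ k
    · rw [if_pos (hiff.mpr h), if_pos h, mul_one]
    · rw [if_neg (fun h' => h (hiff.mp h')), if_neg h, mul_zero]
  rw [hind] at hint
  have hlin : classInner (fun x => ((Nat.card G / p ^ a : ℕ) : ℂ) * dP p x) (χ : G → ℂ) =
      ((Nat.card G / p ^ a : ℕ) : ℂ) * classInner (dP p) (χ : G → ℂ) := by
    unfold classInner
    rw [Finset.mul_sum, Finset.mul_sum, Finset.mul_sum]
    refine Finset.sum_congr rfl fun x _ => ?_
    ring
  rw [hlin] at hint
  have h0 : ((Nat.card G / p ^ a : ℕ) : ℂ) ≠ 0 := by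
    rw [Nat.cast_ne_zero]
    intro h
    rw [h] at hn'
    exact hn' (dvd_zero p)
  have h6 : classInner (dP p) (χ : G → ℂ) = ((Nat.card G / p ^ a : ℕ) : ℂ)⁻¹ *
      (((Nat.card G / p ^ a : ℕ) : ℂ) * classInner (dP p) (χ : G → ℂ)) := by
    rw [← mul_assoc, inv_mul_cancel₀ h0, one_mul]
  rw [h6]
  exact memLocalRing_mul hMp (memLocalRing_inv_natCast hM hn')
    (memLocalRing_of_isIntegral hMp hint)

/-- **Brauer's formula for the principal block idempotent** on `p`-regular elements. -/
theorem principal_coeff [Finite G] (p : ℕ) [Fact p.Prime] (M : Ideal AlgInt)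
    (hM : IsPModular p M) (g : G) (hg : ¬ p ∣ orderOf g) :
    MemLocalIdeal M (blockCoeff (principalBlock M G) g -
      (Nat.card {xy : G × G // (∃ k : ℕ, orderOf xy.1 = p ^ k) ∧ ¬ p ∣ orderOf xy.2 ∧
        xy.1 * xy.2 = g} : ℂ) / (Nat.card {y : G // ¬ p ∣ orderOf y} : ℂ)) := by
  classical
  let _ : Fintype G := Fintype.ofFinite G
  have := finite_irrCharacter G
  have := Fintype.ofFinite (IrrCharacter G)
  have hp : p.Prime := hM.1
  have hMp := isPrime_of_isPModular hM
  have hne : (Nat.card G : ℂ) ≠ 0 := Nat.cast_ne_zero.mpr Nat.card_pos.ne'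
  -- the number of `p`-regular elements
  have hR : omega ((triv G : IrrCharacter G) : G → ℂ) (sReg p) =
      (Nat.card {y : G // ¬ p ∣ orderOf y} : ℂ) := by
    unfold omega sReg
    rw [pair_ofFun, coe_triv]
    simp only [mul_one, div_one]
    rw [Finset.sum_ite, Finset.sum_const_zero, zero_add, Finset.sum_const, nsmul_eq_mul, mul_one,
      Nat.card_eq_fintype_card, Fintype.card_subtype]
  -- the number of pairs
  have hN : (sPel p * sReg p : MonoidAlgebra ℂ G).coeff g =
      (Nat.card {xy : G × G // (∃ k : ℕ, orderOf xy.1 = p ^ k) ∧ ¬ p ∣ orderOf xy.2 ∧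
        xy.1 * xy.2 = g} : ℂ) := by
    rw [MonoidAlgebra.coeff_mul_apply_left, Finsupp.sum_fintype _ _ (fun _ => by simp)]
    have h1 : ∀ x : G, (sPel p : MonoidAlgebra ℂ G).coeff x *
        (sReg p : MonoidAlgebra ℂ G).coeff (x⁻¹ * g) =
        if ((∃ k : ℕ, orderOf x = p ^ k) ∧ ¬ p ∣ orderOf (x⁻¹ * g)) then 1 else 0 := by
      intro x
      rw [coeff_sPel, coeff_sReg]
      unfold dP
      by_cases h1 : ∃ k : ℕ, orderOf x = p ^ k <;> by_cases h2 : p ∣ orderOf (x⁻¹ * g) <;>
        simp [h1, h2]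
    rw [Finset.sum_congr rfl fun x _ => h1 x, Finset.sum_boole, ← Fintype.card_subtype,
      ← Nat.card_eq_fintype_card]
    congr 1
    apply Nat.card_congr
    exact
      { toFun := fun x => ⟨(x.1, x.1⁻¹ * g), x.2.1, x.2.2, by simp⟩
        invFun := fun xy => ⟨xy.1.1, xy.2.1, by
          have h3 := xy.2.2.2
          have h4 : xy.1.1⁻¹ * g = xy.1.2 := by
            rw [inv_mul_eq_iff_eq_mul]
            exact h3.symm
          rw [h4]
          exact xy.2.2.1⟩
        left_inv := fun x => rfl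
        right_inv := fun xy => by
          apply Subtype.ext
          have h3 := xy.2.2.2
          have h4 : xy.1.1⁻¹ * g = xy.1.2 := by
            rw [inv_mul_eq_iff_eq_mul]
            exact h3.symm
          exact Prod.ext rfl h4 }
  have hW : (sPel p * sReg p : MonoidAlgebra ℂ G) ∈ Zc G :=
    Subalgebra.mul_mem _ (sPel_mem_center p) (sReg_mem_center p)
  have hc : ∀ χ : IrrCharacter G, (Nat.card G : ℂ)⁻¹ *
      ((χ : G → ℂ) 1 * omega (χ : G → ℂ) (sPel p)) = classInner (dP p) (χ : G → ℂ) := by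
    intro χ
    have hχ1 := irr_one_ne_zero χ.2
    unfold omega sPel classInner
    rw [pair_ofFun]
    have h1 : (χ : G → ℂ) 1 * ((∑ g : G, dP p g * (χ : G → ℂ) g) / (χ : G → ℂ) 1) =
        ∑ g : G, dP p g * (χ : G → ℂ) g := by
      field_simp
    rw [h1]
    congr 1
    rw [← Equiv.sum_comp (Equiv.inv G)]
    refine Finset.sum_congr rfl fun x _ => ?_
    simp only [Equiv.inv_apply]
    rw [dP_inv, char_apply_inv (isCharacter_of_irr χ.2)]
  -- block parts of class functions agreeing on `p`-regular elements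
  have hE : ∑ χ : IrrCharacter G, (if χ ∈ principalBlock M G then
      (classInner (dP p) (χ : G → ℂ) - (Nat.card G : ℂ)⁻¹ * (χ : G → ℂ) 1) *
        (χ : G → ℂ) g⁻¹ else 0) = 0 := by
    have hϑ : IsClassFunction G (fun u : G => dP p u - if u = 1 then 1 else 0) := by
      intro u h
      show dP p (h * u * h⁻¹) - _ = dP p u - _
      rw [dP_conj]
      have : h * u * h⁻¹ = 1 ↔ u = 1 := by
        constructor
        · intro hh
          have : u = h⁻¹ * (h * u * h⁻¹) * h := by group
          rw [this, hh]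
          group
        · intro hh
          rw [hh]
          group
      simp only [this]
    have hvan : ∀ u z : G, IsPPart p u z → IsConj (1 : G) z →
        (fun u : G => dP p u - if u = 1 then 1 else 0) u = 0 := by
      intro u z hu hz
      have hz1 : z = 1 := isConj_one_right.mp hz
      subst hz1
      obtain ⟨y, hy, -, -, hyp⟩ := hu
      rw [one_mul] at hy
      subst hy
      show dP p y - _ = 0
      by_cases h1 : y = 1
      · subst h1
        unfold dP
        rw [if_pos ⟨0, by simp⟩, if_pos rfl, sub_self]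
      · unfold dP
        rw [if_neg h1, if_neg, sub_zero]
        rintro ⟨k, hk⟩
        cases k with
        | zero =>
          rw [pow_zero, orderOf_eq_one_iff] at hk
          exact h1 hk
        | succ k =>
          apply hyp
          rw [hk, pow_succ]
          exact dvd_mul_left p _
    have h925 := (Cfsg.Agent.S0925.result p M hM).1 _ hϑ 1 ⟨0, by simp⟩ hvan
      (principalBlock M G) ⟨triv G, principalBlock_eq_blockOf_triv M G⟩ g⁻¹ 1
      ⟨g⁻¹, one_mul _, Commute.one_left _, ⟨0, by simp⟩, by rw [orderOf_inv]; exact hg⟩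
      (IsConj.refl 1)
    have h925' : ∑ᶠ χ ∈ principalBlock M G,
        classInner (fun u : G => dP p u - if u = 1 then 1 else 0) (χ : G → ℂ) *
          (χ : G → ℂ) g⁻¹ = 0 := h925
    rw [finsum_mem_def, finsum_eq_sum_of_fintype] at h925'
    refine Eq.trans ?_ h925'
    refine Finset.sum_congr rfl fun χ _ => ?_
    by_cases hχ : χ ∈ principalBlock M G
    · rw [if_pos hχ, Set.indicator_of_mem hχ]
      congr 1
      have h1 : ∑ x : G, (dP p x - if x = 1 then 1 else 0) * conj ((χ : G → ℂ) x) =
          ∑ x : G, dP p x * conj ((χ : G → ℂ) x) - (χ : G → ℂ) 1 := by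
        simp only [sub_mul, Finset.sum_sub_distrib, ite_mul, one_mul, zero_mul,
          Finset.sum_ite_eq', Finset.mem_univ, if_true]
        rw [← char_natCast_charDegree (isCharacter_of_irr χ.2), Complex.conj_natCast]
      show _ = (Nat.card G : ℂ)⁻¹ *
        ∑ x : G, (dP p x - if x = 1 then 1 else 0) * conj ((χ : G → ℂ) x)
      rw [h1, mul_sub]
      rfl
    · rw [if_neg hχ, Set.indicator_of_notMem hχ]
  -- the block coefficient
  have ha : blockCoeff (principalBlock M G) g = ∑ χ : IrrCharacter G,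
      (if χ ∈ principalBlock M G then classInner (dP p) (χ : G → ℂ) * (χ : G → ℂ) g⁻¹
        else 0) := by
    have h2 : ∑ χ : IrrCharacter G, (if χ ∈ principalBlock M G then
        classInner (dP p) (χ : G → ℂ) * (χ : G → ℂ) g⁻¹ else 0) - (Nat.card G : ℂ)⁻¹ *
        ∑ χ : IrrCharacter G, (principalBlock M G).indicator
          (fun χ => (χ : G → ℂ) 1 * (χ : G → ℂ) g⁻¹) χ = 0 := by
      refine Eq.trans ?_ hE
      rw [Finset.mul_sum, ← Finset.sum_sub_distrib]
      refine Finset.sum_congr rfl fun χ _ => ?_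
      by_cases hχ : χ ∈ principalBlock M G
      · rw [if_pos hχ, if_pos hχ, Set.indicator_of_mem hχ]
        ring
      · rw [if_neg hχ, if_neg hχ, Set.indicator_of_notMem hχ]
        ring
    rw [blockCoeff_eq_sum]
    exact (sub_eq_zero.mp h2).symm
  have hNsum : (sPel p * sReg p : MonoidAlgebra ℂ G).coeff g = ∑ χ : IrrCharacter G,
      (if χ ∈ principalBlock M G then classInner (dP p) (χ : G → ℂ) *
        omega (χ : G → ℂ) (sReg p) * (χ : G → ℂ) g⁻¹ else 0) := by
    rw [coeff_eq_sum_omega _ hW g, Finset.mul_sum]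
    refine Finset.sum_congr rfl fun χ _ => ?_
    rw [omega_mul χ.2 _ _ (sPel_mem_center p)]
    by_cases hχ : χ ∈ principalBlock M G
    · rw [if_pos hχ, ← hc χ]
      ring
    · rw [if_neg hχ, omega_sReg_eq_zero hM χ hχ]
      ring
  have hRring : MemLocalRing M (omega ((triv G : IrrCharacter G) : G → ℂ) (sReg p)) := by
    rw [hR]
    exact memLocalRing_natCast hMp _
  have hRinv : MemLocalRing M (omega ((triv G : IrrCharacter G) : G → ℂ) (sReg p))⁻¹ :=
    memLocalRing_inv hRring (omega_triv_sReg_not_mem hM)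
  have hRne : omega ((triv G : IrrCharacter G) : G → ℂ) (sReg p) ≠ 0 := fun h =>
    omega_triv_sReg_not_mem hM (h ▸ memLocalIdeal_zero hMp)
  rw [ha, ← hN, hNsum, ← hR, Finset.sum_div, ← Finset.sum_sub_distrib]
  apply memLocalIdeal_sum hMp
  intro χ _
  by_cases hχ : χ ∈ principalBlock M G
  · rw [if_pos hχ, if_pos hχ]
    have e1 : classInner (dP p) (χ : G → ℂ) * (χ : G → ℂ) g⁻¹ -
        classInner (dP p) (χ : G → ℂ) * omega (χ : G → ℂ) (sReg p) * (χ : G → ℂ) g⁻¹ /
          omega ((triv G : IrrCharacter G) : G → ℂ) (sReg p) =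
        (classInner (dP p) (χ : G → ℂ) * (χ : G → ℂ) g⁻¹) *
          ((omega ((triv G : IrrCharacter G) : G → ℂ) (sReg p) -
            omega (χ : G → ℂ) (sReg p)) *
            (omega ((triv G : IrrCharacter G) : G → ℂ) (sReg p))⁻¹) := by
      field_simp
    rw [e1]
    apply memLocalIdeal_mul_left hMp (memLocalRing_mul hMp (classInner_dP_memLocalRing hM χ)
      (memLocalRing_of_isIntegral hMp
        (Cfsg.Agent.Lib.Helper80.Integrality.isIntegral_irrCharacter χ g⁻¹)))
    apply memLocalIdeal_mul_right hMp _ hRinv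
    exact omega_sub_mem hMp (χ := triv G) (ψ := χ) hχ
      (sReg p) (sReg_mem_center p) (sReg_mem_intSubring p hMp)
  · rw [if_neg hχ, if_neg hχ, zero_div, sub_zero]
    exact memLocalIdeal_zero hMp

end Cfsg.Agent.Lib.CT.PrincipalIdem
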